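import Cfsg.Agent.Lib.Fusion.RankThree.Linear
import Cfsg.Agent.Lib.Fusion.TransvectionStrong

/-!
# Groups with a strongly embedded subgroup acting on a space of dimension three
-/

set_option autoImplicit false
set_option linter.unusedSectionVars false
set_option linter.style.haveILetI false

namespace CfsgLib.Fusion.RankThree

universe u

variable {p : ℕ} [hp : Fact p.Prime] {V : Type u} [AddCommGroup V] [Module (ZMod p) V]
  {Γ : Type*} [Group Γ] (ρ : Γ →* Module.End (ZMod p) V)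

theorem rho_inv_apply (γ : Γ) (v : V) : ρ γ⁻¹ (ρ γ v) = v := by
  rw [← Module.End.mul_apply, ← map_mul, inv_mul_cancel, map_one, Module.End.one_apply]

theorem rho_apply_inv (γ : Γ) (v : V) : ρ γ (ρ γ⁻¹ v) = v := by
  rw [← Module.End.mul_apply, ← map_mul, mul_inv_cancel, map_one, Module.End.one_apply]

theorem rho_injective (γ : Γ) : Function.Injective (ρ γ) :=
  Function.LeftInverse.injective (rho_inv_apply ρ γ)

/-- A linear action as an action by automorphisms of a multiplicative group. -/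
def toMulAut : Γ →* MulAut (Multiplicative V) :=
  MonoidHom.mk' (fun γ =>
    { toFun := fun y => Multiplicative.ofAdd (ρ γ y.toAdd)
      invFun := fun y => Multiplicative.ofAdd (ρ γ⁻¹ y.toAdd)
      left_inv := fun y => by simp [rho_inv_apply]
      right_inv := fun y => by simp [rho_apply_inv]
      map_mul' := fun y z => by rw [toAdd_mul, map_add, ofAdd_add] })
    fun γ γ' => MulEquiv.ext fun y => by simp

theorem toMulAut_apply (γ : Γ) (y : Multiplicative V) :
    toMulAut ρ γ y = Multiplicative.ofAdd (ρ γ y.toAdd) := rfl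

theorem toMulAut_eq_one {γ : Γ} : toMulAut ρ γ = 1 ↔ ρ γ = 1 := by
  constructor
  · intro h
    refine LinearMap.ext fun v => ?_
    exact congrArg Multiplicative.toAdd (DFunLike.congr_fun h (Multiplicative.ofAdd v))
  · intro h
    refine MulEquiv.ext fun y => ?_
    rw [toMulAut_apply, h]
    rfl

theorem toAdd_dis [Finite V] (γ : Γ) (y : Multiplicative V) :
    (TransvectionStrong.dis (toMulAut ρ γ) y).toAdd = (ρ γ - 1) y.toAdd := by
  rw [TransvectionStrong.dis_apply, toMulAut_apply, toAdd_mul, toAdd_inv, toAdd_ofAdd,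
    LinearMap.sub_apply, Module.End.one_apply, sub_eq_neg_add]

theorem mult_exp (y : Multiplicative V) : y ^ p = 1 :=
  Multiplicative.toAdd.injective (by
    rw [toAdd_pow, toAdd_one, ← Nat.cast_smul_eq_nsmul (ZMod p), ZMod.natCast_self, zero_smul])

/-- The action on an invariant subspace. -/
noncomputable def onSub (U : Submodule (ZMod p) V) (hU : ∀ γ, ∀ u ∈ U, ρ γ u ∈ U) :
    Γ →* Module.End (ZMod p) U :=
  { toFun := fun γ => (ρ γ).restrict (hU γ)
    map_one' := LinearMap.ext fun u => Subtype.ext (by simp [LinearMap.restrict_apply])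
    map_mul' := fun γ γ' => LinearMap.ext fun u =>
      Subtype.ext (by simp [LinearMap.restrict_apply]) }

theorem onSub_apply (U : Submodule (ZMod p) V) (hU : ∀ γ, ∀ u ∈ U, ρ γ u ∈ U) (γ : Γ) (u : U) :
    ((onSub ρ U hU γ u : U) : V) = ρ γ u := rfl

/-- The action on the quotient by an invariant subspace. -/
noncomputable def onQuot (W : Submodule (ZMod p) V) (hW : ∀ γ, ∀ w ∈ W, ρ γ w ∈ W) :
    Γ →* Module.End (ZMod p) (V ⧸ W) :=
  { toFun := fun γ => W.mapQ W (ρ γ) fun w hw => hW γ w hw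
    map_one' := LinearMap.ext fun u => by
      obtain ⟨v, rfl⟩ := W.mkQ_surjective u
      simp [Submodule.mapQ_apply]
    map_mul' := fun γ γ' => LinearMap.ext fun u => by
      obtain ⟨v, rfl⟩ := W.mkQ_surjective u
      simp [Submodule.mapQ_apply] }

theorem onQuot_mk (W : Submodule (ZMod p) V) (hW : ∀ γ, ∀ w ∈ W, ρ γ w ∈ W) (γ : Γ) (v : V) :
    onQuot ρ W hW γ (Submodule.Quotient.mk v) = Submodule.Quotient.mk (ρ γ v) := rfl

/-- A `p`-group fixes a nonzero vector. -/
theorem exists_fixed [Finite V] [Nontrivial V] {G : Subgroup Γ}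
    (hG : IsPGroup p (G.map (toMulAut ρ))) : ∃ v : V, v ≠ 0 ∧ ∀ γ ∈ G, ρ γ v = v := by
  have hd : p ∣ Nat.card (Multiplicative V) := by
    rw [Nat.card_congr Multiplicative.toAdd, Module.natCard_eq_pow_finrank (K := ZMod p),
      Nat.card_zmod]
    exact dvd_pow_self p Module.finrank_pos.ne'
  obtain ⟨y, hy, hy1⟩ := hG.exists_fixed_point_of_prime_dvd_card_of_fixed_point (Multiplicative V)
    hd (a := 1) (fun σ => map_one (σ : MulAut (Multiplicative V)))
  refine ⟨y.toAdd, fun h => hy1 (Multiplicative.toAdd.injective (by rw [h, toAdd_one])),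
    fun γ hγ => ?_⟩
  exact congrArg Multiplicative.toAdd (hy ⟨toMulAut ρ γ, γ, hγ, rfl⟩)

/-- The standing hypotheses on the group. -/
structure Setup (R : Sylow p Γ) (H : Subgroup Γ) : Prop where
  dim : Module.finrank (ZMod p) V = 3
  ne_top : H ≠ ⊤
  ker_le : ∀ γ, ρ γ = 1 → γ ∈ H
  ker_R : ∀ γ, ρ γ = 1 → γ ∈ (R : Subgroup Γ)
  strong : ∀ y a : Γ, a ∈ (R : Subgroup Γ) → ρ a ≠ 1 → y * a * y⁻¹ ∈ (R : Subgroup Γ) → y ∈ H
  rad : ∀ N : Subgroup Γ, N.Normal → (∀ γ ∈ N, ∃ k, ρ γ ^ p ^ k = 1) → ∀ γ ∈ N, ρ γ = 1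

namespace Setup

variable {ρ} {R : Sylow p Γ} {H : Subgroup Γ} (A : Setup ρ R H)

include A

/-- The strong embedding seen in the image. -/
theorem image [Finite Γ] : ∃ (P : Sylow p (toMulAut ρ).range) (H' : Subgroup (toMulAut ρ).range),
    H' ≠ ⊤ ∧ (∀ γ ∈ (R : Subgroup Γ), (toMulAut ρ).rangeRestrict γ ∈
      (P : Subgroup (toMulAut ρ).range)) ∧
    (∀ y ∈ (P : Subgroup (toMulAut ρ).range), ∃ γ ∈ (R : Subgroup Γ),
      (toMulAut ρ).rangeRestrict γ = y) ∧
    (∀ γ, γ ∉ H → (toMulAut ρ).rangeRestrict γ ∉ H') ∧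
    (∀ γ, (toMulAut ρ).rangeRestrict γ ∉ H' → γ ∉ H) ∧
    ∀ y a : (toMulAut ρ).range, a ∈ (P : Subgroup (toMulAut ρ).range) → a ≠ 1 →
      y * a * y⁻¹ ∈ (P : Subgroup (toMulAut ρ).range) → y ∈ H' := by
  set f := (toMulAut ρ).rangeRestrict
  have hf : Function.Surjective f := (toMulAut ρ).rangeRestrict_surjective
  have hker : ∀ γ, f γ = 1 ↔ ρ γ = 1 := fun γ => by
    rw [← Subtype.coe_inj]
    exact toMulAut_eq_one ρ
  have hR : ∀ γ, f γ ∈ (R : Subgroup Γ).map f → γ ∈ (R : Subgroup Γ) := by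
    rintro γ ⟨r, hr, hr'⟩
    have h1 : r⁻¹ * γ ∈ (R : Subgroup Γ) := A.ker_R _ ((hker _).1 (by
      rw [map_mul, map_inv, hr', inv_mul_cancel]))
    have h2 := (R : Subgroup Γ).mul_mem hr h1
    rwa [mul_inv_cancel_left] at h2
  have hH : ∀ γ, f γ ∈ H.map f → γ ∈ H := by
    rintro γ ⟨r, hr, hr'⟩
    have h1 : r⁻¹ * γ ∈ H := A.ker_le _ ((hker _).1 (by
      rw [map_mul, map_inv, hr', inv_mul_cancel]))
    have h2 := H.mul_mem hr h1
    rwa [mul_inv_cancel_left] at h2
  refine ⟨R.mapSurjective hf, H.map f, fun h => ?_, fun γ hγ => ⟨γ, hγ, rfl⟩,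
    fun y hy => hy, fun γ hγ h => hγ (hH γ h), fun γ hγ h => hγ ⟨γ, h, rfl⟩, ?_⟩
  · refine A.ne_top (eq_top_iff.2 fun γ _ => hH γ ?_)
    rw [h]
    exact Subgroup.mem_top _
  · rintro y a ⟨r, hr, rfl⟩ ha hya
    obtain ⟨γ, rfl⟩ := hf y
    refine ⟨γ, A.strong γ r hr (fun h => ha ((hker r).2 h)) (hR _ ?_), rfl⟩
    rw [map_mul, map_mul, map_inv]
    exact hya

/-- The Sylow subgroup of the image is cyclic of order `p`. -/
theorem image_sylow [Finite Γ] [Finite V] {x : Γ} (hx : x ∈ (R : Subgroup Γ)) (hx1 : ρ x ≠ 1) :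
    ∀ γ ∈ (R : Subgroup Γ), ∃ n : ℕ, ρ γ = ρ x ^ n := by
  obtain ⟨P, H', hH', hRP, hPR, -, -, hstrong⟩ := A.image
  have hpR : IsPGroup p ((R : Subgroup Γ).map (toMulAut ρ)) := R.2.map _
  haveI : Nontrivial V := Module.nontrivial_of_finrank_pos (R := ZMod p) (by rw [A.dim]; norm_num)
  -- an invariant flag
  obtain ⟨v₁, hv₁, hfix₁⟩ := exists_fixed ρ hpR
  set L := Submodule.span (ZMod p) {v₁}
  have hLdim : Module.finrank (ZMod p) L = 1 := finrank_span_singleton hv₁
  have hLinv : ∀ γ : (R : Subgroup Γ), ∀ w ∈ L, ρ γ w ∈ L := by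
    intro γ w hw
    obtain ⟨c, rfl⟩ := Submodule.mem_span_singleton.1 hw
    rw [map_smul, hfix₁ γ γ.2]
    exact hw
  set ρR := ρ.comp (R : Subgroup Γ).subtype
  have hQdim : Module.finrank (ZMod p) (V ⧸ L) = 2 := by
    have := L.finrank_quotient_add_finrank
    rw [hLdim, A.dim] at this
    omega
  haveI : Nontrivial (V ⧸ L) := Module.nontrivial_of_finrank_pos (R := ZMod p) (by omega)
  haveI : Finite (V ⧸ L) := Finite.of_surjective _ L.mkQ_surjective
  obtain ⟨u, hu, hufix⟩ := exists_fixed (onQuot ρR L hLinv) (G := ⊤)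
    ((R.2.to_subgroup ⊤).map _)
  set U := (Submodule.span (ZMod p) {u}).comap L.mkQ
  have hLU : L ≤ U := fun w hw => by
    show L.mkQ w ∈ Submodule.span (ZMod p) {u}
    rw [show L.mkQ w = 0 from (Submodule.Quotient.mk_eq_zero L).2 hw]
    exact Submodule.zero_mem _
  have hUdim : Module.finrank (ZMod p) U = 2 := by
    have h1 := Submodule.finrank_quotient_add_finrank U
    have h2 : Module.finrank (ZMod p) (V ⧸ U) = 1 := by
      rw [← (Submodule.quotientQuotientEquivQuotient L U hLU).finrank_eq,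
        show U.map L.mkQ = Submodule.span (ZMod p) {u} from
          Submodule.map_comap_eq_of_surjective L.mkQ_surjective _]
      have h3 := (Submodule.span (ZMod p) {u}).finrank_quotient_add_finrank
      rw [finrank_span_singleton hu, hQdim] at h3
      omega
    rw [A.dim] at h1
    omega
  have hUinv : ∀ γ : (R : Subgroup Γ), ∀ w ∈ U, ρ γ w - w ∈ L := by
    intro γ w hw
    obtain ⟨c, hc⟩ := Submodule.mem_span_singleton.1 (show L.mkQ w ∈ _ from hw)
    rw [← Submodule.Quotient.mk_eq_zero, Submodule.Quotient.mk_sub, sub_eq_zero]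
    show onQuot ρR L hLinv γ (L.mkQ w) = L.mkQ w
    rw [← hc, map_smul, hufix γ (Subgroup.mem_top γ)]
  have hUinv' : ∀ γ : (R : Subgroup Γ), ∀ w ∈ U, ρ γ w ∈ U := fun γ w hw => by
    have := U.add_mem (hLU (hUinv γ w hw)) hw
    rwa [sub_add_cancel] at this
  haveI : Nontrivial (V ⧸ U) := Module.nontrivial_of_finrank_pos (R := ZMod p) (by
    have := U.finrank_quotient_add_finrank
    rw [hUdim, A.dim] at this
    omega)
  haveI : Finite (V ⧸ U) := Finite.of_surjective _ U.mkQ_surjective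
  obtain ⟨q, hq, hqfix⟩ := exists_fixed (onQuot ρR U hUinv') (G := ⊤)
    ((R.2.to_subgroup ⊤).map _)
  have hVinv : ∀ γ : (R : Subgroup Γ), ∀ w, ρ γ w - w ∈ U := by
    intro γ w
    have h1 : Module.finrank (ZMod p) (V ⧸ U) = 1 := by
      have := U.finrank_quotient_add_finrank
      rw [hUdim, A.dim] at this
      omega
    obtain ⟨c, hc⟩ := exists_smul_eq_of_finrank_eq_one h1 hq (U.mkQ w)
    rw [← Submodule.Quotient.mk_eq_zero, Submodule.Quotient.mk_sub, sub_eq_zero]
    show onQuot ρR U hUinv' γ (U.mkQ w) = U.mkQ w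
    rw [← hc, map_smul, hqfix γ (Subgroup.mem_top γ)]
  have hcard : ∀ W : Submodule (ZMod p) V,
      Nat.card W.toAddSubgroup.toSubgroup = p ^ Module.finrank (ZMod p) W := fun W => by
    rw [Nat.card_congr (Multiplicative.toAdd.subtypeEquiv fun y => Iff.rfl :
      W.toAddSubgroup.toSubgroup ≃ W), Module.natCard_eq_pow_finrank (K := ZMod p), Nat.card_zmod]
  have hle : Nat.card (P : Subgroup (toMulAut ρ).range) ≤ p := by
    refine TransvectionStrong.card_sylow_le (V := Multiplicative V)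
      (by rw [Nat.card_congr Multiplicative.toAdd, Module.natCard_eq_pow_finrank (K := ZMod p),
        Nat.card_zmod, A.dim]) mult_exp hstrong hH' (U₁ := L.toAddSubgroup.toSubgroup)
      (U₂ := U.toAddSubgroup.toSubgroup) (fun y hy => hLU hy) (by rw [hcard, hLdim, pow_one])
      (by rw [hcard, hUdim]) ?_ ?_ ?_
    · intro t ht y hy
      obtain ⟨γ, hγ, rfl⟩ := hPR t ht
      refine Multiplicative.toAdd.injective ?_
      obtain ⟨c, hc⟩ := Submodule.mem_span_singleton.1 (show y.toAdd ∈ L from hy)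
      rw [show (((toMulAut ρ).rangeRestrict γ : (toMulAut ρ).range) : MulAut (Multiplicative V)) =
        toMulAut ρ γ from rfl, toAdd_dis, ← hc, map_smul, LinearMap.sub_apply,
        Module.End.one_apply, hfix₁ γ hγ, sub_self, smul_zero, toAdd_one]
    · intro t ht y hy
      obtain ⟨γ, hγ, rfl⟩ := hPR t ht
      show (TransvectionStrong.dis (toMulAut ρ γ) y).toAdd ∈ L
      rw [toAdd_dis]
      exact hUinv ⟨γ, hγ⟩ _ hy
    · intro t ht y
      obtain ⟨γ, hγ, rfl⟩ := hPR t ht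
      show (TransvectionStrong.dis (toMulAut ρ γ) y).toAdd ∈ U
      rw [toAdd_dis]
      exact hVinv ⟨γ, hγ⟩ _
  intro γ hγ
  set X' : (P : Subgroup (toMulAut ρ).range) := ⟨_, hRP x hx⟩
  have hX : X' ≠ 1 := fun h => hx1 ((toMulAut_eq_one ρ).1 (congrArg Subtype.val
    (congrArg Subtype.val h)))
  have hcardP : Nat.card (P : Subgroup (toMulAut ρ).range) = p := by
    obtain ⟨k, hk⟩ := IsPGroup.iff_card.1 P.2
    refine le_antisymm hle (hk ▸ Nat.le_of_dvd (pow_pos hp.1.pos k) (dvd_pow_self p ?_))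
    rintro rfl
    rw [pow_zero] at hk
    exact hX (@Subsingleton.elim _ (Nat.card_eq_one_iff_unique.1 hk).1 _ _)
  have hgen : Subgroup.zpowers X' = ⊤ := zpowers_eq_top_of_prime_card hcardP hX
  obtain ⟨n, hn⟩ := Submonoid.mem_powers_iff _ _ |>.1 (mem_powers_iff_mem_zpowers.2
    (hgen.ge (Subgroup.mem_top (⟨_, hRP γ hγ⟩ : (P : Subgroup (toMulAut ρ).range)))))
  refine ⟨n, ?_⟩
  have h1 : toMulAut ρ (x ^ n) = toMulAut ρ γ := by
    rw [map_pow]
    exact congrArg (fun z : (P : Subgroup (toMulAut ρ).range) =>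
      ((z : (toMulAut ρ).range) : MulAut (Multiplicative V))) hn
  rw [← map_pow]
  refine LinearMap.ext fun v => ?_
  exact (congrArg Multiplicative.toAdd (DFunLike.congr_fun h1 (Multiplicative.ofAdd v))).symm

/-- An element of `p`-power order normalising the Sylow image lies in it. -/
theorem mem_image_of_normalize [Finite Γ] [Finite V] {x : Γ} (hx : x ∈ (R : Subgroup Γ))
    (hx1 : ρ x ≠ 1) {ψ : Γ} {k : ℕ} (hψ : ρ ψ ^ p ^ k = 1)
    (hnorm : ∃ n : ℕ, ρ (ψ * x * ψ⁻¹) = ρ x ^ n) : ∃ n : ℕ, ρ ψ = ρ x ^ n := by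
  set f := (toMulAut ρ).rangeRestrict
  set P := R.mapSurjective (toMulAut ρ).rangeRestrict_surjective
  have hsylow := A.image_sylow hx hx1
  have hval : ∀ γ γ', f γ = f γ' ↔ ρ γ = ρ γ' := fun γ γ' => by
    rw [← inv_mul_eq_one, ← map_inv, ← map_mul, ← Subtype.coe_inj]
    show toMulAut ρ (γ⁻¹ * γ') = 1 ↔ _
    rw [toMulAut_eq_one, map_mul]
    constructor
    · intro h
      have h1 := congrArg (ρ γ * ·) h
      simp only [← mul_assoc, ← map_mul, mul_inv_cancel, one_mul, mul_one] at h1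
      exact h1.symm
    · intro h
      rw [← h, ← map_mul, inv_mul_cancel, map_one]
  have hP : (P : Subgroup (toMulAut ρ).range) = Subgroup.zpowers (f x) := by
    refine le_antisymm ?_ (Subgroup.zpowers_le.2 ⟨x, hx, rfl⟩)
    rintro _ ⟨γ, hγ, rfl⟩
    obtain ⟨n, hn⟩ := hsylow γ hγ
    rw [(hval γ (x ^ n)).2 (by rw [hn, map_pow]), map_pow]
    exact Subgroup.npow_mem_zpowers _ _
  have hz : IsPGroup p (Subgroup.zpowers (f ψ)) := by
    refine IsPGroup.of_card (n := Nat.log p (orderOf (f ψ))) ?_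
    rw [Nat.card_zpowers]
    obtain ⟨j, -, hj⟩ := (Nat.dvd_prime_pow hp.1).1 (orderOf_dvd_of_pow_eq_one
      (show f ψ ^ p ^ k = 1 by rw [← map_pow, ← map_one f, hval, map_pow, map_one, hψ]))
    rw [hj, Nat.log_pow hp.1.one_lt]
  have hle : Subgroup.zpowers (f ψ) ≤
      Subgroup.normalizer ((P : Subgroup (toMulAut ρ).range) : Set (toMulAut ρ).range) := by
    refine Subgroup.zpowers_le.2 (Subgroup.mem_normalizer_iff_map_conj_eq.2 ?_)
    haveI : Finite (P : Subgroup (toMulAut ρ).range) := Finite.of_injective _ Subtype.val_injective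
    refine Subgroup.eq_of_le_of_card_ge ?_
      (Subgroup.card_map_of_injective (MulAut.conj (f ψ)).injective).ge
    rw [hP, MonoidHom.map_zpowers, Subgroup.zpowers_le]
    obtain ⟨n, hn⟩ := hnorm
    show f ψ * f x * (f ψ)⁻¹ ∈ _
    rw [← map_mul, ← map_inv, ← map_mul, (hval (ψ * x * ψ⁻¹) (x ^ n)).2 (by rw [hn, map_pow]), map_pow]
    exact Subgroup.npow_mem_zpowers _ _
  have hsup := hz.to_sup_of_normal_right' P.2 hle
  have heq : Subgroup.zpowers (f ψ) ⊔ (P : Subgroup (toMulAut ρ).range) = P :=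
    P.3 hsup le_sup_right
  obtain ⟨γ, hγ, hγ'⟩ := (heq.le (Subgroup.mem_sup_left (Subgroup.mem_zpowers (f ψ))) :
    f ψ ∈ (P : Subgroup (toMulAut ρ).range))
  obtain ⟨n, hn⟩ := hsylow γ hγ
  exact ⟨n, ((hval _ _).1 hγ'.symm).trans hn⟩

/-- A transvection: some element moves its centre off its axis in both directions. -/
theorem exists_move [Finite Γ] [Finite V] {x : Γ} (hx : x ∈ (R : Subgroup Γ))
    {P0 : V} (hP0 : P0 ≠ 0) (hrange : ∀ r, ∃ c : ZMod p, (ρ x - 1) r = c • P0)
    (hfix : (ρ x - 1) P0 = 0) (hne : ρ x ≠ 1) :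
    ∃ a : Γ, (ρ x - 1) (ρ a P0) ≠ 0 ∧ (ρ x - 1) (ρ a⁻¹ P0) ≠ 0 := by
  obtain ⟨P, H', hH', hRP, hPR, -, -, hstrong⟩ := A.image
  set δ := ρ x - 1 with hδ
  have hL : LinearMap.range δ = Submodule.span (ZMod p) {P0} := by
    refine le_antisymm ?_ ?_
    · rintro _ ⟨r, rfl⟩
      obtain ⟨c, hc⟩ := hrange r
      rw [hc]
      exact Submodule.smul_mem _ c (Submodule.mem_span_singleton_self P0)
    · rw [Submodule.span_singleton_le_iff_mem]
      obtain ⟨r, hr⟩ : ∃ r, δ r ≠ 0 := by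
        by_contra! h
        exact hne (sub_eq_zero.1 (LinearMap.ext h))
      obtain ⟨c, hc⟩ := hrange r
      have hc0 : c ≠ 0 := fun h => hr (by rw [hc, h, zero_smul])
      exact ⟨c⁻¹ • r, by rw [map_smul, hc, smul_smul, inv_mul_cancel₀ hc0, one_smul]⟩
  have hLdim : Module.finrank (ZMod p) (LinearMap.range δ) = 1 := by
    rw [hL, finrank_span_singleton hP0]
  have hKdim : Module.finrank (ZMod p) (LinearMap.ker δ) = 2 := by
    have := LinearMap.finrank_range_add_finrank_ker δ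
    rw [hLdim, A.dim] at this
    omega
  have hcard : ∀ W : Submodule (ZMod p) V,
      Nat.card W.toAddSubgroup.toSubgroup = p ^ Module.finrank (ZMod p) W := fun W => by
    rw [Nat.card_congr (Multiplicative.toAdd.subtypeEquiv fun y => Iff.rfl :
      W.toAddSubgroup.toSubgroup ≃ W), Module.natCard_eq_pow_finrank (K := ZMod p), Nat.card_zmod]
  have T : TransvectionStrong.IsTv p
      (((toMulAut ρ).rangeRestrict x : (toMulAut ρ).range) : MulAut (Multiplicative V))
      (LinearMap.range δ).toAddSubgroup.toSubgroup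
      (LinearMap.ker δ).toAddSubgroup.toSubgroup := by
    refine ⟨?_, by rw [hcard, hLdim, pow_one], by rw [hcard, hKdim], fun y hy => ?_, fun y hy => ?_,
      fun y => ?_, fun h => hne ((toMulAut_eq_one ρ).1 h)⟩
    · rw [Nat.card_congr Multiplicative.toAdd, Module.natCard_eq_pow_finrank (K := ZMod p),
        Nat.card_zmod, A.dim]
    · have hy' : y.toAdd ∈ Submodule.span (ZMod p) {P0} := hL.le hy
      obtain ⟨c, hc⟩ := Submodule.mem_span_singleton.1 hy'
      show δ y.toAdd = 0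
      rw [← hc, map_smul, hfix, smul_zero]
    · refine Multiplicative.toAdd.injective ?_
      rw [show (((toMulAut ρ).rangeRestrict x : (toMulAut ρ).range) : MulAut (Multiplicative V)) =
        toMulAut ρ x from rfl, toAdd_dis, toAdd_one]
      exact hy
    · show (TransvectionStrong.dis (toMulAut ρ x) y).toAdd ∈ LinearMap.range δ
      rw [toAdd_dis]
      exact ⟨_, rfl⟩
  obtain ⟨g, -, ⟨z, hz, hgz⟩, ⟨z', hz', hgz'⟩⟩ :=
    TransvectionStrong.exists_move mult_exp hstrong hH' T (hRP x hx)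
  obtain ⟨a, rfl⟩ := (toMulAut ρ).rangeRestrict_surjective g
  refine ⟨a, fun h => hgz ?_, fun h => hgz' ?_⟩
  · have hz1 : z.toAdd ∈ Submodule.span (ZMod p) {P0} := hL.le hz
    obtain ⟨c, hc⟩ := Submodule.mem_span_singleton.1 hz1
    show δ (ρ a z.toAdd) = 0
    rw [← hc, map_smul, map_smul, h, smul_zero]
  · have hz1 : z'.toAdd ∈ Submodule.span (ZMod p) {P0} := hL.le hz'
    obtain ⟨c, hc⟩ := Submodule.mem_span_singleton.1 hz1
    show δ (ρ a⁻¹ z'.toAdd) = 0
    rw [← hc, map_smul, map_smul, h, smul_zero]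

end Setup

end CfsgLib.Fusion.RankThree
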