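import Cfsg.Agent.Lib.Fusion.RankThree.Ext

/-!
# An essential subgroup of rank three with a chosen element of its normaliser
-/

set_option autoImplicit false
set_option linter.unusedSectionVars false
set_option linter.style.haveILetI false

namespace CfsgLib.Fusion.RankThree

open Cfsg Cfsg.FusionSystem CfsgLib.Fusion

universe u

variable {p : ℕ} [hp : Fact p.Prime] {Ω : Type u} [Group Ω] {S : Subgroup Ω} [Finite S]
  {F : FusionSystem S} {E : Subgroup Ω}

/-- The subgroup inside its normaliser. -/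
abbrev E0 (S E : Subgroup Ω) : Subgroup (normalizerIn S E) := E.subgroupOf (normalizerIn S E)

variable {V : Type u} [AddCommGroup V] [Module (ZMod p) V]
  {s : SecMap p (E0 S E) (step p (E0 S E) (E0 S E)) V}
  {ρ : F.autGroup E →* Module.End (ZMod p) V} {R : Sylow p (F.autGroup E)}
  {H : Subgroup (F.autGroup E)} {x : normalizerIn S E} {γx : F.autGroup E}

/-- The standing data. -/
structure Base (hle : E ≤ normalizerIn S E) (s : SecMap p (E0 S E) (step p (E0 S E) (E0 S E)) V)
    (ρ : F.autGroup E →* Module.End (ZMod p) V) (R : Sylow p (F.autGroup E))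
    (H : Subgroup (F.autGroup E)) (x : normalizerIn S E) (γx : F.autGroup E) : Prop where
  p5 : 5 ≤ p
  pS : IsPGroup p S
  sat : F.IsSaturated p
  ess : F.IsEssential p E
  rankS : Cfsg.SectionalPRankLE p 3 S
  normal : (E0 S E).Normal
  index : (E0 S E).index = p
  notMem : x ∉ E0 S E
  hρ : ∀ γ : F.autGroup E, ∀ a ∈ E0 S E, ρ γ (s.π a) = s.π (lift hle (γ : MulAut E) a)
  setup : Setup ρ R H
  hker : ∀ γ : F.autGroup E, ρ γ = 1 → (γ : MulAut E) ∈ Inn E
  mem_R : γx ∈ (R : Subgroup (F.autGroup E))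
  conj_x : ∀ a ∈ E0 S E, lift hle (γx : MulAut E) a = x * a * x⁻¹
  ne_one : ρ γx ≠ 1

variable {hle : E ≤ normalizerIn S E} (B : Base hle s ρ R H x γx)

include B

theorem Base.finiteX : Finite (normalizerIn S E) := finite_of_le normalizerIn_le

theorem Base.pX : IsPGroup p (normalizerIn S E) := isPGroup_of_le normalizerIn_le B.pS

theorem Base.rankX : Cfsg.SectionalPRankLE p 3 (normalizerIn S E) :=
  sectionalPRankLE_inj (Subgroup.inclusion normalizerIn_le)
    (Subgroup.inclusion_injective normalizerIn_le) B.rankS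

theorem Base.act : ∀ a ∈ E0 S E, ρ γx (s.π a) = s.π (x * a * x⁻¹) := fun a ha => by
  rw [B.hρ γx a ha, B.conj_x a ha]

theorem Base.lift_comp (γ γ' : F.autGroup E) {a : normalizerIn S E} (ha : a ∈ E0 S E) :
    lift hle ((γ * γ' : F.autGroup E) : MulAut E) a =
      lift hle (γ : MulAut E) (lift hle (γ' : MulAut E) a) := by
  refine Subtype.ext ?_
  rw [lift_val hle _ ha, lift_val hle _ (lift_mem hle _ ha), lift_val hle _ ha]
  exact autFun_mul _ _ ha

theorem Base.lift_pow (n : ℕ) : ∀ a ∈ E0 S E,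
    lift hle ((γx ^ n : F.autGroup E) : MulAut E) a = x ^ n * a * (x ^ n)⁻¹ := by
  induction n with
  | zero =>
    intro a ha
    simp only [pow_zero, one_mul, inv_one, mul_one]
    refine Subtype.ext ?_
    rw [lift_val hle _ ha]
    exact autFun_one ha
  | succ n ih =>
    intro a ha
    rw [pow_succ', B.lift_comp _ _ ha, ih a ha,
      B.conj_x _ (B.normal.conj_mem a ha _), pow_succ']
    group

/-- An automorphism acting on the quotient as a power of the generator is a conjugation. -/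
theorem Base.exists_conj {ψ : F.autGroup E} {n : ℕ} (h : ρ ψ = ρ γx ^ n) :
    ∃ y, ∀ a ∈ E0 S E, lift hle (ψ : MulAut E) a = y * a * y⁻¹ := by
  have h1 : ρ (ψ * (γx ^ n)⁻¹) = 1 := by
    rw [map_mul, h, ← map_pow, ← map_mul, mul_inv_cancel, map_one]
  obtain ⟨e, he, hee⟩ := mem_inn.1 (B.hker _ h1)
  refine ⟨(⟨e, hle he⟩ : normalizerIn S E) * x ^ n, fun a ha => ?_⟩
  have h2 : ψ = ψ * (γx ^ n)⁻¹ * γx ^ n := by rw [inv_mul_cancel_right]
  have hxa := B.normal.conj_mem a ha (x ^ n)
  rw [h2, B.lift_comp _ _ ha, B.lift_pow n a ha]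
  refine Subtype.ext ?_
  have hxa' : ((x ^ n * a * (x ^ n)⁻¹ : normalizerIn S E) : Ω) ∈ E := hxa
  rw [lift_val hle _ hxa', hee _ hxa', cj_apply]
  simp [mul_assoc]

/-- An automorphism normalising the Sylow image extends to the normaliser. -/
theorem Base.exists_extend {γ : F.autGroup E} {n : ℕ} (h : ρ (γ * γx * γ⁻¹) = ρ γx ^ n) :
    ∃ β ∈ F.autGroup (normalizerIn S E), ∀ a ∈ E0 S E, β a = lift hle (γ : MulAut E) a := by
  obtain ⟨y, hy⟩ := B.exists_conj h
  haveI := B.normal
  haveI := B.finiteX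
  have htop : E0 S E ⊔ Subgroup.zpowers x = ⊤ := by
    rcases (Nat.dvd_prime hp.1).1 (B.index ▸ Subgroup.index_dvd_of_le
      (le_sup_left : E0 S E ≤ E0 S E ⊔ Subgroup.zpowers x)) with h | h
    · exact Subgroup.index_eq_one.1 h
    · exfalso
      have h1 : (E0 S E).relIndex (E0 S E ⊔ Subgroup.zpowers x) *
          (E0 S E ⊔ Subgroup.zpowers x).index = (E0 S E).index :=
        Subgroup.relIndex_mul_index le_sup_left
      rw [h, B.index] at h1
      have h2 := Nat.eq_of_mul_eq_mul_right hp.1.pos (h1.trans (one_mul p).symm)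
      exact B.notMem (Subgroup.relIndex_eq_one.1 h2
        (Subgroup.mem_sup_right (Subgroup.mem_zpowers x)))
  refine RankThree.exists_extend B.pS B.sat B.ess htop γ (h := y) fun a ha => ?_
  have h1 : γ * γx = γ * γx * γ⁻¹ * γ := by rw [inv_mul_cancel_right]
  have h2 := B.lift_comp γ γx ha
  rw [B.conj_x a ha, h1, B.lift_comp _ _ ha, hy _ (lift_mem hle _ ha)] at h2
  exact h2.symm

end CfsgLib.Fusion.RankThree
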