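import Cfsg.Agent.Lib.Fusion.RankThree.TwoGenEss

/-!
# An essential subgroup of order `p ^ 5` with two generators is the only essential subgroup
-/

set_option autoImplicit false
set_option linter.unusedSectionVars false
set_option linter.style.haveILetI false

namespace CfsgLib.Fusion.RankThree

open Cfsg Cfsg.FusionSystem CfsgLib.Fusion
open scoped commutatorElement

universe u

variable {p : ℕ} [hp : Fact p.Prime] {Ω : Type u} [Group Ω] {S : Subgroup Ω} [Finite S]
  {F : FusionSystem S} {E : Subgroup Ω}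

/-- A normal subgroup of order `p ^ 2` is centralised by the Frattini subgroup. -/
theorem commute_phi_of_card_sq (hS : IsPGroup p S) {P : Subgroup Ω} (hP : P ≤ S)
    (hn : S ≤ Subgroup.normalizer (P : Set Ω)) (hcard : Nat.card P = p ^ 2) :
    ∀ k ∈ phi S, ∀ a ∈ P, k * a = a * k := by
  set P' := P.subgroupOf S
  haveI hP'n : P'.Normal :=
    ⟨fun a ha y => (Subgroup.mem_normalizer_iff.1 (hn y.2) a).1 ha⟩
  have hP'c : Nat.card P' = p ^ 2 := by
    rw [Nat.card_congr (Subgroup.subgroupOfEquivOfLe hP).toEquiv, hcard]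
  set P1 := step p P' ⊤ with hP1
  haveI hP1n : P1.Normal := step_normal
  set P2 := step p P1 ⊤ with hP2
  haveI hP2n : P2.Normal := step_normal
  have h1 : P1 < P' := lt_of_le_of_ne (step_le_self hP'n) fun h => by
    have h2 : P' = ⊥ := le_bot_iff.1
      (le_of_le_step hS hP'n inferInstance (h.ge.trans le_sup_left))
    rw [h2, Subgroup.card_bot] at hP'c
    exact (one_lt_pow₀ hp.1.one_lt two_ne_zero).ne hP'c
  have h1c : Nat.card P1 ≤ p := by
    obtain ⟨k, hk⟩ := (hS.to_subgroup P1).exists_card_eq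
    have hlt : Nat.card P1 < p ^ 2 := by
      rw [← hP'c]
      exact lt_of_le_of_ne (Subgroup.card_le_of_le h1.le) fun h =>
        h1.ne (Subgroup.eq_of_le_of_card_ge h1.le h.ge)
    rw [hk] at hlt ⊢
    have := (Nat.pow_lt_pow_iff_right hp.1.one_lt).1 hlt
    exact le_of_le_of_eq (Nat.pow_le_pow_right hp.1.pos (by omega : k ≤ 1)) (pow_one p)
  have h2 : P2 = ⊥ := by
    by_contra hne
    obtain ⟨k, hk⟩ := (hS.to_subgroup P2).exists_card_eq
    have hk0 : k ≠ 0 := by
      rintro rfl
      rw [pow_zero, Subgroup.card_eq_one] at hk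
      exact hne hk
    have heq : P2 = P1 := Subgroup.eq_of_le_of_card_ge (step_le_self hP1n) (h1c.trans (by
      rw [hk]
      exact le_of_eq_of_le (pow_one p).symm (Nat.pow_le_pow_right hp.1.pos (by omega))))
    exact hne (heq.trans (le_bot_iff.1
      (le_of_le_step hS hP1n inferInstance (heq.ge.trans le_sup_left))))
  have hcen : ∀ m ∈ P1, ∀ y : S, m * y = y * m ∧ m ^ p = 1 := fun m hm y => by
    have e1 : ⁅m, y⁆ ∈ P2 := comm_mem_step hm (Subgroup.mem_top y)
    have e2 : m ^ p ∈ P2 := pow_mem_step hm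
    rw [h2, Subgroup.mem_bot] at e1 e2
    exact ⟨commutatorElement_eq_one_iff_mul_comm.1 e1, e2⟩
  have hcm : ∀ a ∈ P', ∀ y : S, ⁅y, a⁆ ∈ P1 := fun a ha y =>
    comm_mem_swap (comm_mem_step ha (Subgroup.mem_top y))
  intro k hk a ha
  set a' : S := ⟨a, hP ha⟩
  have hmul : ∀ y y' : S, ⁅y * y', a'⁆ = ⁅y, a'⁆ * ⁅y', a'⁆ := fun y y' => by
    rw [show ⁅y * y', a'⁆ = y * ⁅y', a'⁆ * y⁻¹ * ⁅y, a'⁆ by group,
      show y * ⁅y', a'⁆ * y⁻¹ = ⁅y', a'⁆ by
        rw [← (hcen _ (hcm a' ha y') y).1, mul_inv_cancel_right]]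
    exact (hcen _ (hcm a' ha y') _).1
  let f : S →* S := MonoidHom.mk' (fun y => ⁅y, a'⁆) hmul
  have hle : step p (⊤ : Subgroup S) ⊤ ≤ f.ker := by
    refine step_le (fun y _ y' _ => ?_) fun y _ => ?_
    · rw [MonoidHom.mem_ker, map_commutatorElement, commutatorElement_eq_one_iff_mul_comm]
      exact (hcen _ (hcm a' ha y) _).1
    · rw [MonoidHom.mem_ker, map_pow]
      exact (hcen _ (hcm a' ha y) 1).2
  obtain ⟨c, hc, rfl⟩ := hk
  rw [SetLike.mem_coe, frattini_eq_step hS] at hc
  exact congrArg Subtype.val (commutatorElement_eq_one_iff_mul_comm.1 (hle hc))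

namespace BigFacts

variable (B : BigFacts S p E)

include B

theorem le_normalizerIn' : E ≤ normalizerIn S E := le_normalizerIn B.le

theorem card_mul : Nat.card E * p = Nat.card (normalizerIn S E) := by
  rw [B.card, B.cardN]; ring

/-- The intersection with another subgroup of index `p` is more than the Frattini subgroup. -/
theorem exists_inter (hS : IsPGroup p S) {E' : Subgroup Ω} (hE' : E' ≤ normalizerIn S E)
    (hcard : Nat.card E' = p ^ 5) : phi E ≤ E' ∧ ∃ d ∈ E, d ∈ E' ∧ d ∉ phi E := by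
  set N := normalizerIn S E
  haveI : Finite E := finite_of_le B.le
  haveI : Finite N := finite_of_le normalizerIn_le
  haveI : Finite E' := finite_of_le hE'
  have hN : IsPGroup p N := isPGroup_of_le normalizerIn_le hS
  have hle := B.le_normalizerIn'
  have h1 : phi N ≤ E' := phi_le_of_card hN hE' (by rw [hcard, B.cardN]; ring)
  refine ⟨phi_le_iff (isPGroup_of_le B.le hS) (fun a ha b hb => h1 (comm_mem_phi hN (hle ha)
    (hle hb))) (fun a ha => h1 (pow_mem_phi hN (hle ha))), ?_⟩
  by_contra! hall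
  have hidx : ∀ {M : Subgroup Ω}, M ≤ N → Nat.card M = p ^ 5 → (M.subgroupOf N).index = p := by
    intro M hM hMc
    have h := (M.subgroupOf N).card_mul_index
    rw [Nat.card_congr (Subgroup.subgroupOfEquivOfLe hM).toEquiv, hMc, B.cardN,
      show p ^ 6 = p ^ 5 * p by ring] at h
    exact Nat.eq_of_mul_eq_mul_left (pow_pos hp.1.pos 5) h
  have h2 := Subgroup.index_inf_le (H := E.subgroupOf N) (K := E'.subgroupOf N)
  rw [hidx hle B.card, hidx hE' hcard] at h2
  have h3 := (E.subgroupOf N ⊓ E'.subgroupOf N).card_mul_index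
  have h4 : Nat.card (E.subgroupOf N ⊓ E'.subgroupOf N : Subgroup N) ≤ p ^ 3 := by
    rw [← B.cardPhi]
    haveI : Finite (phi E) := finite_of_le (phi_le E)
    exact Nat.card_le_card_of_injective
      (fun a => (⟨((a : N) : Ω), hall _ a.2.1 a.2.2⟩ : phi E))
      fun a b h => Subtype.ext (Subtype.ext (congrArg (fun z : phi E => (z : Ω)) h))
  rw [B.cardN] at h3
  have h5 : p ^ 6 ≤ p ^ 3 * (p * p) := h3 ▸ Nat.mul_le_mul h4 h2
  have h6 : p ^ 5 < p ^ 6 := Nat.pow_lt_pow_right hp.1.one_lt (by norm_num)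
  rw [show p ^ 3 * (p * p) = p ^ 5 by ring] at h5
  omega

/-- There is no other subgroup of index `p` in the normaliser with a centre of the same order. -/
theorem unique (hS : IsPGroup p S) {E' : Subgroup Ω} (hE' : E' ≤ normalizerIn S E)
    (hcard : Nat.card E' = p ^ 5) (hZ : Nat.card (centerOf E') = p ^ 2) : E' = E := by
  haveI : Finite E := finite_of_le B.le
  haveI : Finite (centerOf E) := finite_of_le (centerOf_le E)
  obtain ⟨hphi, d, hdE, hdE', hdK⟩ := B.exists_inter hS hE' hcard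
  have hzz : centerOf E' ≤ centerOf E := fun z hz => by
    obtain ⟨hzE', hzc⟩ := mem_centerOf.1 hz
    have hzE : z ∈ E := B.cz z (hE' hzE') fun z0 hz0 =>
      (hzc z0 (hphi (B.center_le hz0))).symm
    exact B.cD z hzE d hdE hdK (fun k hk => (hzc k (hphi hk)).symm) (hzc d hdE').symm
  have heq : centerOf E' = centerOf E :=
    Subgroup.eq_of_le_of_card_ge hzz (by rw [B.cardZ, hZ])
  exact Subgroup.eq_of_le_of_card_ge (fun y hy => B.cz y (hE' hy) fun z hz =>
    (mem_centerOf.1 (heq.ge hz)).2 y hy) (by rw [B.card, hcard])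

theorem normalizer (hS : IsPGroup p S) : S ≤ Subgroup.normalizer (E : Set Ω) := by
  set N := normalizerIn S E with hN
  haveI : Finite E := finite_of_le B.le
  haveI : Finite N := finite_of_le normalizerIn_le
  by_contra hnot
  have hNS : N < S := lt_of_le_of_ne normalizerIn_le fun h => hnot fun y hy =>
    (mem_normalizerIn.1 (h.ge hy)).2
  obtain ⟨g0, hg0, hg0N⟩ := SetLike.exists_of_lt (lt_inf_normalizer hS hNS)
  refine hg0N (mem_normalizerIn.2 ⟨hg0.1, ?_⟩)
  set E' := E.map (MulAut.conj g0).toMonoidHom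
  have h1 : E' = E := by
    refine B.unique hS ?_ ?_ ?_
    · rintro _ ⟨a, ha, rfl⟩
      exact (Subgroup.mem_normalizer_iff.1 hg0.2 a).1 (B.le_normalizerIn' ha)
    · rw [Subgroup.card_map_of_injective (MulAut.conj g0).injective, B.card]
    · rw [card_centerOf_map _ (MulAut.conj g0).injective, ← card_centerOf, B.cardZ]
  exact Subgroup.mem_normalizer_iff_map_conj_eq.2 h1

theorem cardS (hS : IsPGroup p S) : Nat.card S = p ^ 6 := by
  rw [← B.cardN, normalizerIn_eq (B.normalizer hS)]

theorem unique' (hS : IsPGroup p S) {E' : Subgroup Ω} (hE' : E' ≤ S)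
    (hcard : Nat.card E' = p ^ 5) (hZ : Nat.card (centerOf E') = p ^ 2) : E' = E :=
  B.unique hS (by rw [normalizerIn_eq (B.normalizer hS)]; exact hE') hcard hZ

theorem invariant (hS : IsPGroup p S) (α : MulAut S) {a : Ω} (ha : a ∈ E) :
    autFun α a ∈ E := by
  set E0' := (E.subgroupOf S).map α.toMonoidHom
  set E' := E0'.map S.subtype
  have hE'S : E' ≤ S := Subgroup.map_subtype_le _
  have hE'c : Nat.card E' = p ^ 5 := by
    rw [Subgroup.card_map_of_injective S.subtype_injective,
      Subgroup.card_map_of_injective α.injective,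
      Nat.card_congr (Subgroup.subgroupOfEquivOfLe B.le).toEquiv, B.card]
  have hE'Z : Nat.card (centerOf E') = p ^ 2 := by
    rw [show E' = (E.subgroupOf S).map (S.subtype.comp α.toMonoidHom) from Subgroup.map_map _ _ _,
      card_centerOf_map (S.subtype.comp α.toMonoidHom) (fun a b h => α.injective (Subtype.ext h)),
      Nat.card_congr (Subgroup.centerCongr (Subgroup.subgroupOfEquivOfLe B.le)).toEquiv,
      ← card_centerOf, B.cardZ]
  rw [← B.unique' hS hE'S hE'c hE'Z]
  exact ⟨α ⟨a, B.le ha⟩, ⟨⟨a, B.le ha⟩, ha, rfl⟩, (autFun_coe α ⟨a, B.le ha⟩).symm⟩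

theorem phi_lt (hS : IsPGroup p S) : p ^ 3 < Nat.card (phi S) := by
  haveI : Finite E := finite_of_le B.le
  haveI : Finite (phi S) := finite_of_le (phi_le S)
  have hle : phi E ≤ phi S := phi_le_iff (isPGroup_of_le B.le hS)
    (fun a ha b hb => comm_mem_phi hS (B.le ha) (B.le hb)) fun a ha => pow_mem_phi hS (B.le ha)
  obtain ⟨g, hg, w, hw, hgw⟩ := B.moved
  rw [← B.cardPhi]
  refine lt_of_le_of_ne (Subgroup.card_le_of_le hle) fun h => hgw ?_
  rw [Subgroup.eq_of_le_of_card_ge hle h.ge]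
  exact comm_mem_phi hS (normalizerIn_le hg) (B.le hw)

theorem no_transv (hS : IsPGroup p S) {E' : Subgroup Ω} (T : TFacts F p E') : False := by
  have h1 := T.phiS_small
  rw [B.cardS hS, show p ^ 6 = p ^ 3 * p ^ 3 by ring] at h1
  have h2 := Nat.le_of_mul_le_mul_right h1 (pow_pos hp.1.pos 3)
  have h3 := B.phi_lt hS
  omega

theorem no_jordan (hS : IsPGroup p S) {E' : Subgroup Ω} (hE' : E' ≤ S)
    (hn : S ≤ Subgroup.normalizer (E' : Set Ω)) (hidx : (frattini ↥E').index = p ^ 3)
    (hne : E' ≠ E) (J : JFacts F p E') : False := by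
  haveI : Finite E := finite_of_le B.le
  haveI : Finite E' := finite_of_le hE'
  haveI : Finite (phi S) := finite_of_le (phi_le S)
  haveI : Finite (centerOf E) := finite_of_le (centerOf_le E)
  have hNS := normalizerIn_eq (B.normalizer hS)
  have hphiS : Nat.card (phi S) = p ^ 4 := by
    have h := card_phi_mul (P := S)
    rw [J.cardS, B.cardS hS, show p ^ 6 = p ^ 4 * p ^ 2 by ring] at h
    exact Nat.eq_of_mul_eq_mul_right (pow_pos hp.1.pos 2) h
  have hE'c : Nat.card E' = p ^ 5 := by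
    have h := J.cardE
    rw [B.cardS hS, show p ^ 6 = p ^ 5 * p by ring] at h
    exact Nat.eq_of_mul_eq_mul_right hp.1.pos h
  have hphiE' : Nat.card (phi E') = p ^ 2 := by
    have h := card_phi_mul (P := E')
    rw [hidx, hE'c, show p ^ 5 = p ^ 2 * p ^ 3 by ring] at h
    exact Nat.eq_of_mul_eq_mul_right (pow_pos hp.1.pos 3) h
  have hSE : phi S ≤ E := phi_le_of_card hS B.le (by rw [B.card, B.cardS hS]; ring)
  have hEle : phi E ≤ phi S := phi_le_iff (isPGroup_of_le B.le hS)
    (fun a ha b hb => comm_mem_phi hS (B.le ha) (B.le hb)) fun a ha => pow_mem_phi hS (B.le ha)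
  haveI : Finite (phi E) := finite_of_le (phi_le E)
  obtain ⟨d, hd, hdK⟩ : ∃ d ∈ phi S, d ∉ phi E := by
    by_contra! h
    have h1 := Subgroup.card_le_of_le (show phi S ≤ phi E from h)
    have h2 := B.phi_lt hS
    rw [B.cardPhi] at h1
    omega
  have hphiEn : S ≤ Subgroup.normalizer (phi E' : Set Ω) := by
    intro g hg
    haveI : Finite (phi E') := finite_of_le (phi_le E')
    refine Subgroup.mem_normalizer_iff_map_conj_eq.2 (Subgroup.eq_of_le_of_card_ge ?_
      (Subgroup.card_map_of_injective (MulAut.conj g).injective).ge)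
    rintro _ ⟨a, ha, rfl⟩
    obtain ⟨β, hβ, e⟩ := exists_autInducedBy (P := E') hg (hn hg)
    obtain ⟨c, hc, rfl⟩ := ha
    exact ⟨β c, (Subgroup.characteristic_iff_map_eq.1
      (inferInstance : (frattini ↥E').Characteristic) β).le ⟨c, hc, rfl⟩,
      (autFun_coe β c).symm.trans (e _ c.2)⟩
  have hzz : phi E' ≤ centerOf E := fun z hz => by
    have hzc : ∀ k ∈ phi S, z * k = k * z := fun k hk =>
      (commute_phi_of_card_sq hS ((phi_le E').trans hE') hphiEn hphiE' k hk z hz).symm
    have hzE : z ∈ E := B.cz z (hNS.ge (hE' (phi_le E' hz))) fun z0 hz0 =>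
      hzc z0 (hEle (B.center_le hz0))
    exact B.cD z hzE d (hSE hd) hdK (fun k hk => hzc k (hEle hk)) (hzc d hd)
  have heq : phi E' = centerOf E :=
    Subgroup.eq_of_le_of_card_ge hzz (by rw [B.cardZ, hphiE'])
  have hcap : E ⊓ E' = phi S := by
    haveI : Finite (E ⊓ E' : Subgroup Ω) := finite_of_le inf_le_left
    refine (Subgroup.eq_of_le_of_card_ge (le_inf hSE J.phiS_le) ?_).symm
    rw [hphiS]
    obtain ⟨j, hj⟩ := (isPGroup_of_le (inf_le_left.trans B.le) hS :
      IsPGroup p (E ⊓ E' : Subgroup Ω)).exists_card_eq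
    have hlt : Nat.card (E ⊓ E' : Subgroup Ω) < p ^ 5 := by
      rw [← B.card]
      refine lt_of_le_of_ne (Subgroup.card_le_of_le inf_le_left) fun h => hne ?_
      exact (Subgroup.eq_of_le_of_card_ge
        (inf_eq_left.1 (Subgroup.eq_of_le_of_card_ge inf_le_left h.ge))
        (by rw [hE'c, B.card])).symm
    rw [hj] at hlt ⊢
    have := (Nat.pow_lt_pow_iff_right hp.1.one_lt).1 hlt
    exact Nat.pow_le_pow_right hp.1.pos (by omega)
  obtain ⟨γ, hγ, a, ha, hout⟩ := J.move (phi S) J.phiS_le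
    (fun g hg => by
      refine Subgroup.mem_normalizer_iff_map_conj_eq.2 (Subgroup.eq_of_le_of_card_ge ?_
        (Subgroup.card_map_of_injective (MulAut.conj g).injective).ge)
      rintro _ ⟨c, hc, rfl⟩
      obtain ⟨β, -, e⟩ := exists_autInducedBy (P := S) hg (Subgroup.le_normalizer hg)
      have h1 := autFun_phi β hc
      rwa [e c (phi_le S hc)] at h1)
    (fun h => by
      haveI : Finite (phi E') := finite_of_le (phi_le E')
      have h1 := Subgroup.card_le_of_le h
      rw [hphiS, hphiE'] at h1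
      exact absurd h1 (not_le.2 (Nat.pow_lt_pow_right hp.1.one_lt (by norm_num))))
  refine hout (hcap ▸ ⟨?_, autFun_mem γ (J.phiS_le ha)⟩)
  refine B.cz _ (hNS.ge (hE' (autFun_mem γ (J.phiS_le ha)))) fun z hz => ?_
  rw [← heq] at hz
  obtain ⟨c, hc, rfl⟩ := hz
  obtain ⟨c', hc', rfl⟩ : ∃ c' ∈ frattini ↥E', γ c' = c :=
    (Subgroup.characteristic_iff_map_eq.1
      (inferInstance : (frattini ↥E').Characteristic) γ).ge hc
  have hac : (⟨a, J.phiS_le ha⟩ : E') * c' = c' * ⟨a, J.phiS_le ha⟩ := by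
    refine Subtype.ext ?_
    have hm : ((c' : E') : Ω) ∈ centerOf E := heq.le ⟨c', hc', rfl⟩
    exact (mem_centerOf.1 hm).2 a (hSE ha)
  have h2 := congrArg (fun z : E' => (z : Ω)) (congrArg γ hac)
  simp only [map_mul, Subgroup.coe_mul] at h2
  rw [autFun_of_mem γ (J.phiS_le ha)]
  exact h2

end BigFacts

end CfsgLib.Fusion.RankThree
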