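import Cfsg.Agent.Lib.Fusion.RankThree.Setup

/-!
# Extending and restricting automorphisms between an essential subgroup and its normaliser
-/

set_option autoImplicit false
set_option linter.unusedSectionVars false
set_option linter.style.haveILetI false

namespace CfsgLib.Fusion.RankThree

open Cfsg Cfsg.FusionSystem CfsgLib.Fusion

universe u

variable {p : ℕ} [hp : Fact p.Prime] {Ω : Type u} [Group Ω] {S : Subgroup Ω} [Finite S]
  {F : FusionSystem S} {E : Subgroup Ω}

/-- Restriction of an automorphism of an overgroup preserving `E`. -/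
theorem exists_restrict {N : Subgroup Ω} (hEN : E ≤ N) (hN : N ≤ S) {β : MulAut N}
    (hβ : β ∈ F.autGroup N) (hE : ∀ a ∈ E.subgroupOf N, β a ∈ E.subgroupOf N) :
    ∃ γ : F.autGroup E, ∀ a ∈ E.subgroupOf N, β a = lift hEN (γ : MulAut E) a := by
  have hmem : ∀ x ∈ E, autFun β x ∈ E := fun x hx => by
    rw [autFun_of_mem β (hEN hx)]
    exact hE ⟨x, hEN hx⟩ hx
  have hf := (isMor_autFun hN hβ).restrict hEN
  haveI : Finite E := finite_of_le (hEN.trans hN)
  obtain ⟨γ, hγ, hγe⟩ := exists_aut hf (hf.img_eq_self hmem)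
  refine ⟨⟨γ, hγ⟩, fun a ha => Subtype.ext ?_⟩
  rw [lift_val hEN _ ha, hγe (a : Ω) ha, autFun_coe]

/-- An automorphism of an essential subgroup carrying the action of a generator of the normaliser
to the action of an element extends to the normaliser. -/
theorem exists_extend (hS : IsPGroup p S) (hF : F.IsSaturated p) (hE : F.IsEssential p E)
    {x : normalizerIn S E}
    (htop : E.subgroupOf (normalizerIn S E) ⊔ Subgroup.zpowers x = ⊤) (γ : F.autGroup E)
    {h : normalizerIn S E}
    (hxh : ∀ a ∈ E.subgroupOf (normalizerIn S E),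
      lift (le_normalizerIn hE.1.1) (γ : MulAut E) (x * a * x⁻¹) =
        h * lift (le_normalizerIn hE.1.1) (γ : MulAut E) a * h⁻¹) :
    ∃ β ∈ F.autGroup (normalizerIn S E), ∀ a ∈ E.subgroupOf (normalizerIn S E),
      β a = lift (le_normalizerIn hE.1.1) (γ : MulAut E) a := by
  have hES := hE.1.1
  have hEN : E ≤ (normalizerIn S E) := le_normalizerIn hES
  haveI : Finite (normalizerIn S E) := finite_of_le normalizerIn_le
  haveI : Finite E := finite_of_le hES
  set f := autFun (γ : MulAut E)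
  have hf : IsMor F E f := isMor_autFun hES γ.2
  have hfE : ∀ y ∈ E, f y ∈ E := fun y hy => autFun_mem _ hy
  have hi : img E f = E := hf.img_eq_self hfE
  obtain ⟨ψ, hψ, hψe⟩ := (isReceptive_iff.mp (centric_receptive hS hF hE.1)).2 E f hf hi
  obtain ⟨hxS, hxn⟩ := mem_normalizerIn.1 x.2
  have hle : (normalizerIn S E) ≤ nExt S E f := by
    intro y hy
    have h1 : (E.subgroupOf (normalizerIn S E) ⊔ Subgroup.zpowers x).map (normalizerIn S E).subtype ≤ nExt S E f := by
      rw [Subgroup.map_sup, MonoidHom.map_zpowers, sup_le_iff, Subgroup.zpowers_le]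
      refine ⟨(Subgroup.map_subgroupOf_eq_of_le hEN).le.trans (le_nExt hf),
        hxS, hxn, (h : Ω), normalizerIn_le h.2, fun a ha => ?_⟩
      have hxa : ((x * ⟨a, hEN ha⟩ * x⁻¹ : (normalizerIn S E)) : Ω) ∈ E :=
        (Subgroup.mem_normalizer_iff.1 hxn a).1 ha
      have h2 := congrArg Subtype.val (hxh ⟨a, hEN ha⟩ ha)
      rw [lift_val hEN _ hxa] at h2
      simp only [Subgroup.coe_mul, Subgroup.coe_inv] at h2
      rw [lift_val hEN (γ : MulAut E) (y := ⟨a, hEN ha⟩) ha] at h2
      exact h2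
    exact h1 (htop.ge (Subgroup.mem_top (⟨y, hy⟩ : (normalizerIn S E))) |> fun h => ⟨⟨y, hy⟩, h, rfl⟩)
  have hψN : IsMor F (normalizerIn S E) ψ := hψ.restrict hle
  have hψi : img E ψ = E := (img_congr hψe).trans hi
  have hmaps : ∀ y ∈ (normalizerIn S E), ψ y ∈ (normalizerIn S E) := fun y hy => by
    have := mapsTo_normalizerIn hψN hEN le_rfl y hy
    rwa [hψi] at this
  obtain ⟨β, hβ, hβe⟩ := exists_aut hψN (hψN.img_eq_self hmaps)
  refine ⟨β, hβ, fun a ha => Subtype.ext ?_⟩
  rw [lift_val hEN _ ha, ← autFun_coe, hβe (a : Ω) a.2]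
  exact hψe _ ha

/-- An automorphism of the normaliser agreeing on `E` with a conjugation is a conjugation. -/
theorem exists_conj_of_agree (hS : IsPGroup p S) (hF : F.IsSaturated p) (hE : F.IsEssential p E)
    {β : MulAut (normalizerIn S E)} (hβ : β ∈ F.autGroup (normalizerIn S E))
    {y : normalizerIn S E}
    (he : ∀ a ∈ E.subgroupOf (normalizerIn S E), β a = y * a * y⁻¹) :
    ∃ n, ∀ a, β a = n * a * n⁻¹ := by
  have hEN : E ≤ (normalizerIn S E) := le_normalizerIn hE.1.1
  have hNS : (normalizerIn S E) ≤ S := normalizerIn_le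
  obtain ⟨z, hz, -, hzy⟩ := centric_agree hS hF (isMor_autFun hNS hβ)
    (isMor_cj F hNS (hNS y.2)) hEN hE.1 (fun a ha => by
      rw [autFun_of_mem β (hEN ha), he ⟨a, hEN ha⟩ ha]
      rfl)
  refine ⟨y * (⟨z, hEN hz⟩ : (normalizerIn S E))⁻¹, fun a => Subtype.ext ?_⟩
  set u : (normalizerIn S E) := (⟨z, hEN hz⟩ : (normalizerIn S E))⁻¹ * a * (⟨z, hEN hz⟩ : (normalizerIn S E))
  have h1 := hzy (u : Ω) u.2
  have e1 : cj z (u : Ω) = a := by simp [cj_apply, u, mul_assoc]
  rw [e1, autFun_coe] at h1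
  rw [← h1, cj_apply]
  simp [u, mul_assoc]

end CfsgLib.Fusion.RankThree
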