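import Cfsg.Agent.Lib.Fusion.RankThree.JordanForm

/-!
# A single Jordan block on the elementary quotient leads to a contradiction
-/

set_option autoImplicit false
set_option linter.unusedSectionVars false
set_option linter.style.haveILetI false

namespace CfsgLib.Fusion.RankThree

open scoped commutatorElement

universe u

variable {p : ℕ} [hp : Fact p.Prime] {X : Type u} [Group X] [Finite X] {V : Type u}
  [AddCommGroup V] [Module (ZMod p) V]

namespace Jordan

variable {E : Subgroup X} {s : SecMap p E (step p E E) V} {x : X} {T : Module.End (ZMod p) V}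
  {g : MulAut X} {v : V}

set_option maxHeartbeats 1600000 in
/-- No automorphism of the subgroup moves the fixed line off the image of the block while not
carrying that image over the line. -/
theorem false_of_jordan (C : Ctx E s x T g v) (β : X → X) (hβE : ∀ a ∈ E, β a ∈ E)
    (hβm : ∀ a ∈ E, ∀ b ∈ E, β (a * b) = β a * β b) (h : V →ₗ[ZMod p] V)
    (hh : ∀ a ∈ E, h (s.π a) = s.π (β a)) (hinj : Function.Injective h)
    (hP : (T - 1) ((T - 1) (h ((T - 1) ((T - 1) v)))) ≠ 0)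
    (hP' : ∀ u, h ((T - 1) u) ≠ (T - 1) ((T - 1) v)) : False := by
  haveI := C.normal
  haveI hKn : (step p E E).Normal := step_normal
  haveI hK1n : (step p (step p E E) E).Normal := step_normal
  haveI hK2n : (step p (step p (step p E E) E) E).Normal := step_normal
  have hKE : step p E E ≤ E := step_le_self C.normal
  have hK1K : step p (step p E E) E ≤ step p E E := step_le_self hKn
  set δ := T - 1 with hδ
  set P0 := δ (δ v) with hP0
  -- the vector carried to the cyclic one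
  obtain ⟨aP, haP, haPπ⟩ := s.surj P0
  have haPD : aP ∈ DD p X :=
    (mem_DD C).2 ⟨haP, by rw [haPπ, ← hδ, hP0, C.block.d3]⟩
  set w := β aP with hwdef
  have hw : w ∈ E := hβE _ haP
  have hwπ : s.π w = h P0 := by rw [hwdef, ← hh _ haP, haPπ]
  have bw : Block δ (h P0) := ⟨C.block.cube, hP, C.block.dim⟩
  have hw0 : δ (δ (s.π w)) ≠ 0 := hwπ ▸ hP
  -- the common vector of the image and its translate
  obtain ⟨α, hα⟩ := bw.eq_smul_of_ker (u := δ (δ (h (δ v)))) (C.block.d3 _)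
  set va := δ v - α • P0 with hva
  set v1 := h va with hv1
  have hva2 : δ (δ va) = 0 := by
    rw [hva, hP0, map_sub, map_sub, map_smul, map_smul, C.block.d3, map_zero, smul_zero,
      sub_zero]
  have hv1r : δ (δ v1) = 0 := by
    rw [hv1, hva, map_sub, map_smul, map_sub, map_smul, map_sub, map_smul, hα, sub_self]
  have hv1ne : δ v1 ≠ 0 := by
    intro h0
    obtain ⟨e, he⟩ := bw.eq_smul_of_ker h0
    obtain ⟨e', he'⟩ := bw.eq_smul_of_ker (u := P0) (C.block.d3 v)
    have hva0 : va ≠ 0 := by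
      intro h0
      obtain ⟨-, h1, -⟩ := C.block.indep (a := 0) (c := 1) (e := -α) (by
        rw [zero_smul, zero_add, one_smul, neg_smul, ← sub_eq_add_neg]
        exact h0)
      exact one_ne_zero h1
    have he0 : e ≠ 0 := fun h0 => hva0 (hinj (by rw [map_zero, ← hv1, he, h0, zero_smul]))
    refine hP' ((e' * e⁻¹) • (v - α • δ v)) ?_
    have h1 : δ ((e' * e⁻¹) • (v - α • δ v)) = (e' * e⁻¹) • va := by
      rw [map_smul, map_sub, map_smul, hva, hP0]
    rw [h1, map_smul, ← hv1, he, smul_smul, mul_assoc, inv_mul_cancel₀ he0, mul_one, ← he']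
  obtain ⟨M, _, _, sM, TM, f, F⟩ := exists_form C
  set δM := TM - 1 with hδM
  -- the images of the series under the automorphism
  have hβK : ∀ y ∈ step p E E, β y ∈ step p E E := fun y hy =>
    step_mapsTo β hβm le_rfl le_rfl hβE hβE hy
  have hβK1 : ∀ y ∈ step p (step p E E) E, β y ∈ step p (step p E E) E := fun y hy =>
    step_mapsTo β hβm hKE le_rfl hβK hβE hy
  have hβK2 : ∀ y ∈ step p (step p (step p E E) E) E,
      β y ∈ step p (step p (step p E E) E) E := fun y hy =>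
    step_mapsTo β hβm (hK1K.trans hKE) le_rfl hβK1 hβE hy
  have hβc : ∀ a ∈ E, ∀ b ∈ E, β ⁅a, b⁆ = ⁅β a, β b⁆ := fun a ha b hb => by
    let φ : E →* X := MonoidHom.mk' (fun a => β a) fun a b => hβm a a.2 b b.2
    exact map_commutatorElement φ ⟨a, ha⟩ ⟨b, hb⟩
  have hskew : ∀ a b, f a b = -f b a := fun a b => by
    have h1 := F.alt (a + b)
    simp only [map_add, LinearMap.add_apply, F.alt, zero_add, add_zero] at h1
    exact eq_neg_of_add_eq_zero_left (by rw [add_comm]; exact h1)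
  have hrange : ∀ a b, δ (δ a) = 0 → δ (δ b) = 0 →
      ∃ γ : ZMod p, f a b = γ • f (δ (δ (h P0))) (δ (h P0)) := by
    intro a b ha hb
    obtain ⟨c, e, rfl⟩ := bw.mem_range_coords (bw.mem_range.2 ha)
    obtain ⟨c', e', rfl⟩ := bw.mem_range_coords (bw.mem_range.2 hb)
    refine ⟨e * c' - c * e', ?_⟩
    simp only [map_add, map_smul, LinearMap.add_apply, LinearMap.smul_apply, F.alt, smul_zero,
      add_zero, zero_add]
    rw [hskew (δ (h P0)) (δ (δ (h P0)))]
    module
  -- the form is non-degenerate on the image of the block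
  have he3 : f (δ (δ (h P0))) (δ (h P0)) ≠ 0 := by
    intro h0
    have hr : ∀ a b, δ (δ a) = 0 → δ (δ b) = 0 → f a b = 0 := fun a b ha hb => by
      obtain ⟨γ, hγ⟩ := hrange a b ha hb
      rw [hγ, h0, smul_zero]
    have hhr : ∀ a b, δ (δ a) = 0 → δ (δ b) = 0 → f (h a) (h b) = 0 := by
      intro a b ha hb
      obtain ⟨a, haE, rfl⟩ := s.surj a
      obtain ⟨b, hbE, rfl⟩ := s.surj b
      have h1 := hr _ _ ha hb
      rw [F.eval a haE b hbE, sM.map_eq_zero _ (comm_mem_step haE hbE)] at h1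
      rw [hh a haE, hh b hbE, F.eval _ (hβE a haE) _ (hβE b hbE),
        sM.map_eq_zero _ (comm_mem_step (hβE a haE) (hβE b hbE)), ← hβc a haE b hbE]
      exact hβK1 _ h1
    have hv1z : ∀ u, f v1 u = 0 := by
      intro u
      obtain ⟨a, c, e, rfl⟩ := bw.coords u
      rw [map_add, map_add, map_smul, map_smul, map_smul,
        hhr va P0 hva2 (by rw [hP0, C.block.d3]),
        hr v1 (δ (h P0)) hv1r (bw.d3 _), hr v1 (δ (δ (h P0))) hv1r (by rw [bw.d3])]
      simp
    have hd1z : ∀ u, f (δ v1) u = 0 := by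
      intro u
      have h1 := F.equiv v1 (u - δ u + δ (δ u))
      have h2 : T (u - δ u + δ (δ u)) = u := by
        have hd : ∀ z, T z = z + δ z := fun z => by simp [hδ]
        rw [hd, map_add, map_sub, bw.d3]
        abel
      have h3 : T v1 = v1 + δ v1 := by simp [hδ]
      rw [hv1z, map_zero, h2, h3, map_add, LinearMap.add_apply, hv1z, zero_add] at h1
      exact h1.symm
    obtain ⟨c, e, hce⟩ := bw.mem_range_coords (bw.mem_range.2 hv1r)
    have hc : c ≠ 0 := by
      rintro rfl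
      exact hv1ne (by rw [hce]; simp [bw.d3])
    have hzP : ∀ u, f (δ (δ (h P0))) u = 0 := fun u => by
      have h1 := hd1z u
      rw [hce] at h1
      simp only [map_add, map_smul, bw.d3, smul_zero, add_zero, LinearMap.smul_apply] at h1
      exact (smul_eq_zero.1 h1).resolve_left hc
    have hzm : ∀ u, f (δ (h P0)) u = 0 := fun u => by
      have h1 := hv1z u
      rw [hce] at h1
      simp only [map_add, map_smul, LinearMap.add_apply, LinearMap.smul_apply, hzP, smul_zero,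
        add_zero] at h1
      exact (smul_eq_zero.1 h1).resolve_left hc
    refine not_comm_le C hw hw0 fun a ha b hb => ?_
    rw [← sM.map_eq_zero _ (comm_mem_step ha hb), ← F.eval a ha b hb]
    obtain ⟨i, c₁, e₁, hi⟩ := bw.coords (s.π a)
    obtain ⟨j, c₂, e₂, hj⟩ := bw.coords (s.π b)
    rw [hi, hj]
    simp only [map_add, map_smul, LinearMap.add_apply, LinearMap.smul_apply, hzP, hzm, F.alt,
      hskew (h P0) (δ (h P0)), hskew (h P0) (δ (δ (h P0))), neg_zero, smul_zero, add_zero]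
  -- a basis of the next layer
  set vw := h P0 with hvw
  set e1 := f (δ vw) vw with he1def
  set e2 := f (δ (δ vw)) vw with he2def
  set e3 := f (δ (δ vw)) (δ vw) with he3def
  have hTv : ∀ z, T z = z + δ z := fun z => by simp [hδ]
  have hdM : ∀ a b, δM (f a b) = f (δ a) b + f a (δ b) + f (δ a) (δ b) := fun a b => by
    rw [hδM, LinearMap.sub_apply, Module.End.one_apply, F.equiv, hTv, hTv]
    simp only [map_add, LinearMap.add_apply]
    abel
  have hd1 : δM e1 = e2 + e3 := by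
    rw [he1def, hdM, F.alt, add_zero, ← he2def, ← he3def]
  have hd2 : δM e2 = e3 := by
    rw [he2def, hdM, bw.d3]
    simp [he3def]
  have hd3 : δM e3 = 0 := by
    rw [he3def, hdM, bw.d3]
    simp [F.alt]
  haveI := sM.finite
  have hdimM : Module.finrank (ZMod p) M = 3 := by
    refine le_antisymm F.dim ?_
    have hli : LinearIndependent (ZMod p) ![e1, e2, e3] := by
      rw [Fintype.linearIndependent_iff]
      intro c hc
      rw [Fin.sum_univ_three] at hc
      obtain ⟨h0, h1, h2⟩ := triple_dep δM hd1 hd2 hd3 he3 hc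
      intro i; fin_cases i <;> assumption
    simpa using hli.fintype_card_le_finrank
  have hd11 : δM (δM e1) = e3 := by rw [hd1, map_add, hd2, hd3, add_zero]
  have bM : Block δM e1 := ⟨F.cube, by rw [hd11]; exact he3, hdimM⟩
  -- the elements realising the basis
  set m := ⁅x, w⁆ with hmdef
  set P := ⁅x, m⁆ with hPdef
  have hmD : m ∈ DD p X := comm_mem_step (Subgroup.mem_top _) (Subgroup.mem_top _)
  have hmE : m ∈ E := DD_le C hmD
  have hPD2 : P ∈ D2 p X := comm_mem_swap (comm_mem_step hmD (Subgroup.mem_top x))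
  have hPD : P ∈ DD p X := step_le_self DD_normal hPD2
  have hmπ : s.π m = δ vw := by rw [hmdef, pi_comm C hw, hwπ]
  have hPπ : s.π P = δ (δ vw) := by rw [hPdef, pi_comm C hmE, hmπ]
  have hPE : P ∈ E := DD_le C hPD
  have hKD2 : step p E E ≤ D2 p X := by
    refine le_of_le_step C.pgroup hKn D2_normal fun y hy => ?_
    obtain ⟨a, c, e, hace⟩ := bM.coords (sM.π y)
    set u1 := ⁅m, w⁆
    set u2 := ⁅P, w⁆
    set u3 := ⁅P, m⁆
    have h1 : u1 ∈ D2 p X := comm_mem_step hmD (Subgroup.mem_top w)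
    have h2 : u2 ∈ D2 p X := comm_mem_step hPD (Subgroup.mem_top w)
    have h3 : u3 ∈ D2 p X := comm_mem_step hPD (Subgroup.mem_top m)
    have k1 : u1 ∈ step p E E := comm_mem_step hmE hw
    have k2 : u2 ∈ step p E E := comm_mem_step hPE hw
    have k3 : u3 ∈ step p E E := comm_mem_step hPE hmE
    set z := u1 ^ a.val * u2 ^ c.val * u3 ^ (c + e).val
    have hzK : z ∈ step p E E := Subgroup.mul_mem _ (Subgroup.mul_mem _ (Subgroup.pow_mem _ k1 _)
      (Subgroup.pow_mem _ k2 _)) (Subgroup.pow_mem _ k3 _)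
    have hzD : z ∈ D2 p X := Subgroup.mul_mem _ (Subgroup.mul_mem _ (Subgroup.pow_mem _ h1 _)
      (Subgroup.pow_mem _ h2 _)) (Subgroup.pow_mem _ h3 _)
    have hzπ : sM.π z = sM.π y := by
      rw [sM.map_mul _ (Subgroup.mul_mem _ (Subgroup.pow_mem _ k1 _) (Subgroup.pow_mem _ k2 _))
        _ (Subgroup.pow_mem _ k3 _), sM.map_mul _ (Subgroup.pow_mem _ k1 _) _
        (Subgroup.pow_mem _ k2 _), sM.map_pow_cast k1, sM.map_pow_cast k2, sM.map_pow_cast k3,
        ← F.eval m hmE w hw, ← F.eval P hPE w hw, ← F.eval P hPE m hmE, hmπ, hPπ, hwπ,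
        hace, hd11, hd1, ZMod.natCast_zmod_val, ZMod.natCast_zmod_val, ZMod.natCast_zmod_val]
      module
    have h4 := (sM.eq_iff hzK hy).1 hzπ
    rw [← mul_inv_cancel_left z y]
    exact Subgroup.mul_mem _ (Subgroup.mem_sup_right hzD)
      (Subgroup.mem_sup_left (step_mono le_rfl le_top h4))
  have hker : ∀ a ∈ E, δ (s.π a) = 0 → a ∈ D2 p X := by
    intro a ha h0
    obtain ⟨e, he⟩ := bw.eq_smul_of_ker h0
    have h1 : s.π (P ^ e.val) = s.π a := by
      rw [s.map_pow_cast hPE, ZMod.natCast_zmod_val, hPπ, he]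
    have h2 := hKD2 ((s.eq_iff (E.pow_mem hPE _) ha).1 h1)
    rw [← mul_inv_cancel_left (P ^ e.val) a]
    exact Subgroup.mul_mem _ (Subgroup.pow_mem _ hPD2 _) h2
  have hK1D3 : step p (step p E E) E ≤ D3 p X := step_mono hKD2 le_top
  have hK2D4 : step p (step p (step p E E) E) E ≤ D4 p X :=
    (step_mono hK1D3 le_top).trans le_sup_left
  have hD43 : D4 p X ≤ D3 p X :=
    sup_le (step_le_self D3_normal) (Subgroup.commutator_le.2 fun a ha b _ =>
      comm_mem_step ha (Subgroup.mem_top b))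
  -- the third term is not everything
  have hD3img : ∀ y ∈ D3 p X, δM (δM (sM.π y)) = 0 := by
    intro y hy
    by_contra hne
    have by' : Block δM (sM.π y) := ⟨F.cube, hne, hdimM⟩
    have hyK := D3_le C hy
    have hy1 : ⁅x, y⁆ ∈ D3 p X :=
      comm_mem_swap (step_le_self D3_normal
        (comm_mem_step (p := p) hy (Subgroup.mem_top x)))
    have hy2 : ⁅x, ⁅x, y⁆⁆ ∈ D3 p X :=
      comm_mem_swap (step_le_self D3_normal
        (comm_mem_step (p := p) hy1 (Subgroup.mem_top x)))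
    have hle : step p E E ≤ D3 p X := by
      intro k hk
      obtain ⟨a, c, e, hace⟩ := by'.coords (sM.π k)
      set z := y ^ a.val * ⁅x, y⁆ ^ c.val * ⁅x, ⁅x, y⁆⁆ ^ e.val
      have hzD : z ∈ D3 p X := Subgroup.mul_mem _ (Subgroup.mul_mem _ (Subgroup.pow_mem _ hy _)
        (Subgroup.pow_mem _ hy1 _)) (Subgroup.pow_mem _ hy2 _)
      have k1 := D3_le C hy1
      have k2 := D3_le C hy2
      have hzπ : sM.π z = sM.π k := by
        rw [sM.map_mul _ (Subgroup.mul_mem _ (Subgroup.pow_mem _ hyK _) (Subgroup.pow_mem _ k1 _))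
          _ (Subgroup.pow_mem _ k2 _), sM.map_mul _ (Subgroup.pow_mem _ hyK _) _
          (Subgroup.pow_mem _ k1 _), sM.map_pow_cast hyK, sM.map_pow_cast k1, sM.map_pow_cast k2,
          sM.map_comm_left hKn F.act k1, sM.map_comm_left hKn F.act hyK, hace,
          ZMod.natCast_zmod_val, ZMod.natCast_zmod_val, ZMod.natCast_zmod_val]
      have h4 := hK1D3 ((sM.eq_iff (D3_le C hzD) hk).1 hzπ)
      rw [← mul_inv_cancel_left z k]
      exact Subgroup.mul_mem _ hzD h4
    obtain ⟨a, ha, e, he, hae⟩ := exists_notMem C (map_D3 g) (D3_le C)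
    exact hae (hle (comm_mem_step (DD_le C ha) he))
  -- the fourth term maps to the bottom line
  have hD4img : ∀ y ∈ D4 p X, δM (sM.π y) = 0 := by
    obtain ⟨N, hN, hmem⟩ := sM.exists_kerSub hKn (htop C) F.conj F.act δM
      ((Commute.refl TM).sub_left (Commute.one_left TM))
    have hle : D4 p X ≤ N := by
      refine sup_le (step_le (fun a ha y _ => ?_) fun a ha => ?_)
        (Subgroup.commutator_le.2 fun a ha b hb => ?_)
      · have haK := D3_le C ha
        have hxa : ⁅x, a⁆ ∈ step p E E := D3_le C (comm_mem_swap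
          (step_le_self D3_normal (comm_mem_step (p := p) ha (Subgroup.mem_top x))))
        refine comm_top_mem hN (htop C) (comm_mem_swap ((hmem _).2 ⟨hxa, ?_⟩))
          (fun e he => ?_) y
        · rw [sM.map_comm_left hKn F.act haK]
          exact hD3img a ha
        · have h1 := comm_mem_step (p := p) haK he
          exact (hmem _).2 ⟨hK1K h1, by rw [(sM.map_eq_zero _ (hK1K h1)).2 h1, map_zero]⟩
      · have haK := D3_le C ha
        exact (hmem _).2 ⟨(step p E E).pow_mem haK p,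
          by rw [(sM.map_eq_zero _ ((step p E E).pow_mem haK p)).2 (sM.pow_mem haK), map_zero]⟩
      · have haD := step_le_self DD_normal ha
        refine (hmem _).2 ⟨comm_mem_step (DD_le C haD) (DD_le C hb), ?_⟩
        obtain ⟨γ, hγ⟩ := hrange (s.π a) (s.π b) ((mem_DD C).1 haD).2 ((mem_DD C).1 hb).2
        rw [← F.eval a (DD_le C haD) b (DD_le C hb), hγ, map_smul, hd3, smul_zero]
    exact fun y hy => ((hmem y).1 (hle hy)).2
  -- the second form vanishes on the lowest vectors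
  obtain ⟨N2, _, _, ⟨sC⟩⟩ := exists_secMap (p := p) (A := step p (step p E E) E)
    (B := step p (step p (step p E E) E) E) (step_le_self hK1n)
    (fun a _ b hb => hK2n.conj_mem b hb a)
    (fun a ha b hb => comm_mem_step ha (hKE (hK1K hb))) fun a ha => pow_mem_step ha
  obtain ⟨TC, hTC⟩ := sC.exists_conj x (fun a ha => hK1n.conj_mem a ha x)
    fun b hb => hK2n.conj_mem b hb x
  have hconjC : ∀ e ∈ E, ∀ c ∈ step p (step p E E) E, sC.π (e * c * e⁻¹) = sC.π c :=
    fun e he c hc => by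
    refine ((sC.eq_iff hc (hK1n.conj_mem c hc e)).2 ?_).symm
    rw [show c⁻¹ * (e * c * e⁻¹) = ⁅c⁻¹, e⁆ by group]
    exact comm_mem_step (Subgroup.inv_mem _ hc) he
  obtain ⟨f2, hf2⟩ := sM.exists_bilin s sC (fun a b => ⁅a, b⁆)
    (fun a ha b hb => comm_mem_step ha hb)
    (fun a ha a' ha' b hb => by
      rw [show ⁅a * a', b⁆ = a * ⁅a', b⁆ * a⁻¹ * ⁅a, b⁆ by group,
        sC.map_mul _ (hK1n.conj_mem _ (comm_mem_step ha' hb) a) _ (comm_mem_step ha hb),
        hconjC a (hKE ha) _ (comm_mem_step ha' hb), add_comm])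
    (fun a ha b hb b' hb' => by
      rw [show ⁅a, b * b'⁆ = ⁅a, b⁆ * (b * ⁅a, b'⁆ * b⁻¹) by group,
        sC.map_mul _ (comm_mem_step ha hb) _ (hK1n.conj_mem _ (comm_mem_step ha hb') b),
        hconjC b hb _ (comm_mem_step ha hb')])
    (fun a ha b hb => comm_mem_step ha hb)
    fun a ha b hb => by
      -- the commutators with a fixed element of `Φ(E)` kill `Φ(E)`
      let φ : E →* Multiplicative N2 := MonoidHom.mk'
        (fun e => Multiplicative.ofAdd (sC.π ⁅a, (e : X)⁆)) fun e e' => by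
          rw [← ofAdd_add, Subgroup.coe_mul,
            show ⁅a, (e : X) * e'⁆ = ⁅a, (e : X)⁆ * ((e : X) * ⁅a, (e' : X)⁆ * (e : X)⁻¹) by group,
            sC.map_mul _ (comm_mem_step ha e.2) _
              (hK1n.conj_mem _ (comm_mem_step ha e'.2) _),
            hconjC _ e.2 _ (comm_mem_step ha e'.2)]
      have hle : step p E E ≤ φ.ker.map E.subtype := by
        refine step_le (fun c hc d hd => ⟨⁅(⟨c, hc⟩ : E), ⟨d, hd⟩⁆, ?_,
          map_commutatorElement _ _ _⟩) fun c hc => ⟨(⟨c, hc⟩ : E) ^ p, ?_, rfl⟩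
        · rw [SetLike.mem_coe, MonoidHom.mem_ker, map_commutatorElement,
            commutatorElement_eq_one_iff_mul_comm, mul_comm]
        · rw [SetLike.mem_coe, MonoidHom.mem_ker, map_pow, ← ofAdd_toAdd (φ _ ^ p), toAdd_pow,
            ← Nat.cast_smul_eq_nsmul (ZMod p), ZMod.natCast_self, zero_smul, ofAdd_zero]
      obtain ⟨e, he, rfl⟩ := hle hb
      exact (sC.map_eq_zero _ (comm_mem_step ha e.2)).1 (ofAdd_eq_one.1 he)
  haveI := sC.finite
  have hlow : f2 e3 P0 = 0 := by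
    obtain ⟨k, hk⟩ := sC.exists_unipotent C.pgroup hK1n hTC
    rw [← hd11, hP0]
    refine bilin_low C.p5 f2 TM T TC ?_ F.cube C.block.cube
      (sub_one_cube TC hk (sC.finrank_le C.rank)) e1 v
    intro a b
    obtain ⟨a, ha, rfl⟩ := sM.surj a
    obtain ⟨b, hb, rfl⟩ := s.surj b
    rw [hf2 a ha b hb, F.act a ha, C.act b hb, hTC _ (comm_mem_step ha hb),
      hf2 _ (hKn.conj_mem a ha x) _ (C.normal.conj_mem b hb x)]
    congr 1
    group
  have hdouble : ∀ a ∈ DD p X,
      ⁅⁅β a, w⁆, w⁆ ∈ step p (step p (step p E E) E) E := by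
    intro a ha
    have haE := DD_le C ha
    have h1 : ⁅⁅a, aP⁆, aP⁆ ∈ step p (step p (step p E E) E) E := by
      rw [← sC.map_eq_zero _ (comm_mem_step (comm_mem_step haE haP) haP),
        ← hf2 _ (comm_mem_step haE haP) aP haP, ← F.eval a haE aP haP]
      obtain ⟨γ, hγ⟩ := hrange (s.π a) (s.π aP) ((mem_DD C).1 ha).2 ((mem_DD C).1 haPD).2
      rw [hγ, map_smul, LinearMap.smul_apply, haPπ, hlow, smul_zero]
    have h2 := hβK2 _ h1
    rwa [hβc _ (hKE (comm_mem_step haE haP)) _ haP, hβc _ haE _ haP] at h2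
  obtain ⟨a0, ha0, ha0π⟩ := s.surj va
  have ha0D : a0 ∈ DD p X := (mem_DD C).2 ⟨ha0, by rw [ha0π]; exact hva2⟩
  set m0 := β a0 with hm0def
  have hm0π : s.π m0 = v1 := by rw [hm0def, ← hh a0 ha0, ha0π]
  have hm0D : m0 ∈ DD p X := (mem_DD C).2 ⟨hβE _ ha0, by rw [hm0π]; exact hv1r⟩
  have hm0n : m0 ∉ D2 p X := fun h0 => hv1ne (hm0π ▸ (D2_fixed C h0).2)
  -- the two-step quotient
  have hgen : ∀ n ∈ DD p X, n ∉ D2 p X → ∀ Z : Subgroup X, D2 p X ≤ Z → n ∈ Z → DD p X ≤ Z := by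
    intro n hn hn2 Z hZ hnZ a ha
    obtain ⟨hnE, hn0⟩ := (mem_DD C).1 hn
    obtain ⟨haE, ha0⟩ := (mem_DD C).1 ha
    obtain ⟨cn, hcn⟩ := bw.eq_smul_of_ker hn0
    obtain ⟨ca, hca⟩ := bw.eq_smul_of_ker ha0
    have hcn0 : cn ≠ 0 := fun h0 => hn2 (hker n hnE (by rw [hcn, h0, zero_smul]))
    set i := (ca * cn⁻¹).val
    have h1 : (n ^ i)⁻¹ * a ∈ D2 p X := by
      refine hker _ (E.mul_mem (E.inv_mem (E.pow_mem hnE i)) haE) ?_
      rw [s.map_mul _ (E.inv_mem (E.pow_mem hnE i)) _ haE, s.map_inv (E.pow_mem hnE i),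
        s.map_pow_cast hnE, ZMod.natCast_zmod_val, map_add, map_neg, map_smul, hcn, hca, smul_smul,
        mul_assoc, inv_mul_cancel₀ hcn0, mul_one, neg_add_cancel]
    rw [← mul_inv_cancel_left (n ^ i) a]
    exact Z.mul_mem (Z.pow_mem hnZ i) (hZ h1)
  have hmn : m ∉ D2 p X := fun h0 => hw0 (by
    have h1 := (D2_fixed C h0).2
    rwa [hmπ, ← hwπ] at h1)
  have hDD : ∀ a ∈ DD p X, ∀ b ∈ DD p X, ⁅a, b⁆ ∈ D3 p X := by
    set π3 := QuotientGroup.mk' (D3 p X)
    have key : ∀ a b : X, ⁅a, b⁆ ∈ D3 p X ↔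
        b ∈ (Subgroup.centralizer {π3 a}).comap π3 := fun a b => by
      rw [Subgroup.mem_comap, Subgroup.mem_centralizer_singleton_iff, ← QuotientGroup.eq_one_iff,
        show ((⁅a, b⁆ : X) : X ⧸ D3 p X) = π3 ⁅a, b⁆ from rfl, map_commutatorElement,
        commutatorElement_eq_one_iff_mul_comm]
      exact eq_comm
    have h1 : ∀ a, ∀ b ∈ D2 p X, ⁅a, b⁆ ∈ D3 p X := fun a b hb =>
      comm_mem_swap (comm_mem_step hb (Subgroup.mem_top a))
    have h2 : ∀ b ∈ DD p X, ⁅m, b⁆ ∈ D3 p X := fun b hb => (key m b).2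
      (hgen m hmD hmn _ (fun c hc => (key m c).1 (h1 m c hc))
        ((key m m).1 (by rw [commutatorElement_self]; exact Subgroup.one_mem _)) hb)
    exact fun a ha b hb => (key a b).2
      (hgen m hmD hmn _ (fun c hc => (key a c).1 (h1 a c hc))
        ((key a m).1 (comm_mem_swap (h2 a ha))) hb)
  obtain ⟨W, _, _, ⟨sW⟩⟩ := exists_secMap (p := p) (A := D3 p X) (B := D4 p X) hD43
    (fun a _ b hb => (D4_normal (p := p)).conj_mem b hb a)
    (fun a ha b _ => Subgroup.mem_sup_left (comm_mem_step ha (Subgroup.mem_top b)))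
    fun a ha => Subgroup.mem_sup_left (pow_mem_step ha)
  have hin : ∀ y ∈ D2 p X, ∀ b, ⁅y, b⁆ ∈ D3 p X := fun y hy b =>
    comm_mem_step hy (Subgroup.mem_top b)
  have hc3 : ∀ c ∈ D3 p X, ∀ y, sW.π (y * c * y⁻¹) = sW.π c := fun c hc y => by
    refine ((sW.eq_iff hc ((D3_normal (p := p)).conj_mem c hc y)).2 ?_).symm
    rw [show c⁻¹ * (y * c * y⁻¹) = ⁅c⁻¹, y⁆ by group]
    exact Subgroup.mem_sup_left (comm_mem_step (Subgroup.inv_mem _ hc) (Subgroup.mem_top y))
  have hl1 : ∀ y ∈ D2 p X, ∀ y' ∈ D2 p X, ∀ b,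
      sW.π ⁅y * y', b⁆ = sW.π ⁅y, b⁆ + sW.π ⁅y', b⁆ := fun y hy y' hy' b => by
    rw [show ⁅y * y', b⁆ = y * ⁅y', b⁆ * y⁻¹ * ⁅y, b⁆ by group,
      sW.map_mul _ ((D3_normal (p := p)).conj_mem _ (hin y' hy' b) y) _ (hin y hy b),
      hc3 _ (hin y' hy' b), add_comm]
  have hr1 : ∀ y ∈ D2 p X, ∀ b b', sW.π ⁅y, b * b'⁆ = sW.π ⁅y, b⁆ + sW.π ⁅y, b'⁆ :=
    fun y hy b b' => by
    rw [show ⁅y, b * b'⁆ = ⁅y, b⁆ * (b * ⁅y, b'⁆ * b⁻¹) by group,
      sW.map_mul _ (hin y hy b) _ ((D3_normal (p := p)).conj_mem _ (hin y hy b') b),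
      hc3 _ (hin y hy b')]
  have hz3 : ∀ c ∈ D3 p X, ∀ b, sW.π ⁅c, b⁆ = 0 := fun c hc b =>
    (sW.map_eq_zero _ (hin c (step_le_self D2_normal hc) b)).2
      (Subgroup.mem_sup_left (comm_mem_step hc (Subgroup.mem_top b)))
  have hcj : ∀ a, ∀ y ∈ D2 p X, ∀ b, sW.π ⁅a * y * a⁻¹, b⁆ = sW.π ⁅y, b⁆ := fun a y hy b => by
    rw [show a * y * a⁻¹ = ⁅a, y⁆ * y by group,
      hl1 _ (step_le_self D2_normal (comm_mem_swap (hin y hy a))) y hy b,
      hz3 _ (comm_mem_swap (hin y hy a)), zero_add]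
  have h2m : ∀ d ∈ DD p X, ∀ a, ⁅d, a⁆ ∈ D2 p X := fun d hd a =>
    comm_mem_step hd (Subgroup.mem_top a)
  have htrans : ∀ n ∈ DD p X, n ∉ D2 p X → ∀ a, sW.π ⁅⁅n, a⁆, a⁆ = 0 →
      sW.π ⁅⁅m, a⁆, a⁆ = 0 := by
    intro n hn hn2 a hna
    let ψ : DD p X →* Multiplicative W := MonoidHom.mk'
      (fun d => Multiplicative.ofAdd (sW.π ⁅⁅(d : X), a⁆, a⁆)) fun d d' => by
        rw [← ofAdd_add, Subgroup.coe_mul,
          show ⁅(d : X) * d', a⁆ = (d : X) * ⁅(d' : X), a⁆ * (d : X)⁻¹ * ⁅(d : X), a⁆ by group,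
          hl1 _ ((D2_normal (p := p)).conj_mem _ (h2m _ d'.2 a) _) _ (h2m _ d.2 a),
          hcj _ _ (h2m _ d'.2 a), add_comm]
    have hle : DD p X ≤ ψ.ker.map (DD p X).subtype := hgen n hn hn2 _
      (fun y hy => ⟨⟨y, step_le_self DD_normal hy⟩,
        (ofAdd_eq_one.2 (hz3 _ (hin y hy a) a)), rfl⟩)
      ⟨⟨n, hn⟩, ofAdd_eq_one.2 hna, rfl⟩
    obtain ⟨d, hd, hdm⟩ := hle hmD
    rw [← hdm]
    exact ofAdd_eq_one.1 hd
  obtain ⟨V2, _, _, ⟨sX⟩⟩ := exists_secMap (p := p) (A := (⊤ : Subgroup X)) (B := DD p X) le_top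
    (fun a _ b hb => (DD_normal (p := p)).conj_mem b hb a)
    (fun a _ b _ => comm_mem_step (Subgroup.mem_top a) (Subgroup.mem_top b))
    fun a _ => pow_mem_step (Subgroup.mem_top a)
  obtain ⟨B, hB⟩ := sX.exists_bilin sX sW (fun a b => ⁅⁅m, a⁆, b⁆)
    (fun a _ b _ => hin _ (h2m m hmD a) b)
    (fun a _ a' _ b _ => by
      rw [show ⁅m, a * a'⁆ = ⁅m, a⁆ * (a * ⁅m, a'⁆ * a⁻¹) by group,
        hl1 _ (h2m m hmD a) _ ((D2_normal (p := p)).conj_mem _ (h2m m hmD a') a),
        hcj a _ (h2m m hmD a')])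
    (fun a _ b _ b' _ => hr1 _ (h2m m hmD a) b b')
    (fun a ha b _ => Subgroup.mem_sup_left (comm_mem_step (hDD m hmD a ha) (Subgroup.mem_top b)))
    fun a _ b hb => Subgroup.mem_sup_right
      (Subgroup.commutator_mem_commutator (h2m m hmD a) hb)
  -- symmetry
  have hsym : B (sX.π x) (sX.π w) = B (sX.π w) (sX.π x) := by
    rw [hB x (Subgroup.mem_top _) w (Subgroup.mem_top _),
      hB w (Subgroup.mem_top _) x (Subgroup.mem_top _)]
    set u := ⁅m, w⁆ with hu
    have hu2 : u ∈ D2 p X := h2m m hmD w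
    set u' := m * u * m⁻¹ with hu'
    have hu'D : u' ∈ DD p X :=
      step_le_self DD_normal ((D2_normal (p := p)).conj_mem u hu2 m)
    have e1 : ⁅x, u⁆ = ⁅P, u'⁆ * (u' * ⁅P, m * w⁆ * u'⁻¹) * ⁅m, u⁆ := by
      simp only [hu', hu, hPdef, hmdef]
      group
    have k1 : ⁅P, u'⁆ ∈ D4 p X :=
      Subgroup.mem_sup_right (Subgroup.commutator_mem_commutator hPD2 hu'D)
    have k2 : ⁅m, u⁆ ∈ D4 p X := comm_mem_swap
      (Subgroup.mem_sup_right (Subgroup.commutator_mem_commutator hu2 hmD))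
    have k3 : ⁅P, m⁆ ∈ D4 p X :=
      Subgroup.mem_sup_right (Subgroup.commutator_mem_commutator hPD2 hmD)
    have h1 : sW.π ⁅x, u⁆ = sW.π ⁅P, w⁆ := by
      rw [e1, sW.map_mul _ (Subgroup.mul_mem _ (hD43 k1)
          ((D3_normal (p := p)).conj_mem _ (hin P hPD2 _) _)) _ (hD43 k2),
        sW.map_mul _ (hD43 k1) _ ((D3_normal (p := p)).conj_mem _ (hin P hPD2 _) _),
        (sW.map_eq_zero _ (hD43 k1)).2 k1, (sW.map_eq_zero _ (hD43 k2)).2 k2,
        hc3 _ (hin P hPD2 _), hr1 P hPD2, (sW.map_eq_zero _ (hD43 k3)).2 k3]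
      simp
    have h2 : sW.π ⁅⁅m, x⁆, w⁆ = -sW.π ⁅P, w⁆ := by
      rw [← commutatorElement_inv x m, ← hPdef, eq_neg_iff_add_eq_zero,
        ← hl1 _ (Subgroup.inv_mem _ hPD2) _ hPD2, inv_mul_cancel, commutatorElement_one_left,
        sW.map_one]
    rw [h2, ← h1, ← commutatorElement_inv x u, sW.map_inv (comm_mem_swap (hin u hu2 x))]
  -- three isotropic lines
  have hdec : ∀ y, ∃ n i : ZMod p, sX.π y = n • sX.π w + i • sX.π x ∧ (i = 0 → y ∈ E) := by
    intro y
    obtain ⟨e, he, i, rfl⟩ := exists_dec (htop C) y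
    obtain ⟨d, hd, n, rfl⟩ := exists_decE C hw hw0 he
    refine ⟨n, i, ?_, fun hi => ?_⟩
    · rw [sX.map_mul _ (Subgroup.mem_top _) _ (Subgroup.mem_top _),
        sX.map_mul _ (Subgroup.mem_top _) _ (Subgroup.mem_top _),
        (sX.map_eq_zero d (Subgroup.mem_top _)).2 hd, add_zero,
        sX.map_pow_cast (Subgroup.mem_top _), sX.map_pow_cast (Subgroup.mem_top _)]
    · obtain ⟨k, rfl⟩ := (ZMod.natCast_eq_zero_iff i p).1 hi
      refine E.mul_mem he ?_
      rw [pow_mul]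
      exact E.pow_mem (C.index ▸ E.pow_index_mem x) k
  have hnot : ∀ φ : MulAut X, E.map φ.toMonoidHom ≠ E → φ w ∉ E := by
    intro φ hφ hφw
    refine hφ (Subgroup.eq_of_le_of_card_ge ?_ (Subgroup.card_map_of_injective φ.injective).ge)
    rintro _ ⟨e, he, rfl⟩
    obtain ⟨d, hd, n, rfl⟩ := exists_decE C hw hw0 he
    have hφd : φ d ∈ DD p X := map_DD (p := p) φ ▸ ⟨d, hd, rfl⟩
    rw [map_mul, map_pow]
    exact E.mul_mem (E.pow_mem hφw n) (DD_le C hφd)
  have hiso : ∀ φ : MulAut X, B (sX.π (φ w)) (sX.π (φ w)) = 0 := by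
    intro φ
    rw [hB _ (Subgroup.mem_top _) _ (Subgroup.mem_top _)]
    have hn : φ m0 ∈ DD p X := map_DD (p := p) φ ▸ ⟨m0, hm0D, rfl⟩
    have hn2 : φ m0 ∉ D2 p X := by
      rw [← map_D2 (p := p) φ]
      rintro ⟨z, hz, hz'⟩
      exact hm0n (φ.injective hz' ▸ hz)
    refine htrans _ hn hn2 _ ((sW.map_eq_zero _ (hin _ (h2m _ hn _) _)).2 ?_)
    rw [← map_commutatorElement, ← map_commutatorElement, ← map_D4 (p := p) φ]
    exact ⟨_, hK2D4 (hdouble a0 ha0D), rfl⟩
  have hb : B (sX.π w) (sX.π x) = 0 := by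
    have h00 : B (sX.π w) (sX.π w) = 0 := by
      have h1 := hiso 1
      rwa [MulAut.one_apply] at h1
    obtain ⟨n, i, hni, hi0⟩ := hdec (g w)
    obtain ⟨γ, ε, hge, hε0⟩ := hdec ((g * g) w)
    have hi : i ≠ 0 := fun h0 => hnot g C.move (hi0 h0)
    have hε : ε ≠ 0 := fun h0 => hnot (g * g) C.move2 (hε0 h0)
    have hdet : γ * i - ε * n ≠ 0 := by
      intro h0
      set k := (ε * i⁻¹).val
      have h1 : sX.π ((g * g) w) = sX.π (g w ^ k) := by
        rw [sX.map_pow_cast (Subgroup.mem_top _), ZMod.natCast_zmod_val, hge, hni, smul_add,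
          smul_smul, smul_smul, inv_mul_cancel_right₀ hi]
        congr 2
        field_simp
        linear_combination h0
      have h2 := (sX.eq_iff (Subgroup.mem_top _) (Subgroup.mem_top _)).1 h1.symm
      rw [← map_DD (p := p) g] at h2
      obtain ⟨d, hd, hd'⟩ := h2
      refine hnot g C.move ?_
      have h3 : g w = w ^ k * d := g.injective (by
        rw [map_mul, map_pow]
        exact ((congrArg (g w ^ k * ·) hd').trans (mul_inv_cancel_left _ _)).symm)
      rw [h3]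
      exact E.mul_mem (E.pow_mem hw k) (DD_le C hd)
    have h11 := hiso g
    have h22 := hiso (g * g)
    rw [hni] at h11
    rw [hge] at h22
    simp only [map_add, map_smul, LinearMap.add_apply, LinearMap.smul_apply, h00, hsym,
      smul_zero, zero_add] at h11 h22
    set b := B (sX.π w) (sX.π x)
    set c := B (sX.π x) (sX.π x)
    have hcoef : (2 * ε * i * (γ * i - ε * n)) • b = 0 := by
      have h3 : (i * i) • (γ • ε • b + ε • (γ • b + ε • c))
          - (ε * ε) • (n • i • b + i • (n • b + i • c)) = 0 := by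
        rw [smul_add i, smul_add ε]
        simp only [smul_add] at h11 h22
        rw [show γ • ε • b + (ε • γ • b + ε • ε • c) = (0 : W) from h22,
          show n • i • b + (i • n • b + i • i • c) = (0 : W) from h11]
        simp
      rw [← h3]
      module
    refine (smul_eq_zero.1 hcoef).resolve_left (mul_ne_zero (mul_ne_zero (mul_ne_zero ?_ hε) hi)
      hdet)
    intro h2
    have h2' : ((2 : ℕ) : ZMod p) = 0 := by exact_mod_cast h2
    have := Nat.le_of_dvd (by norm_num) ((ZMod.natCast_eq_zero_iff 2 p).1 h2')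
    have := C.p5
    omega
  -- the final contradiction
  rw [hB w (Subgroup.mem_top _) x (Subgroup.mem_top _),
    sW.map_eq_zero _ (hin _ (h2m m hmD w) x)] at hb
  have h1 := hD4img _ (comm_mem_swap hb)
  rw [sM.map_comm_left hKn F.act (comm_mem_step hmE hw), ← F.eval m hmE w hw, hmπ, hwπ,
    ← hδM, hd11] at h1
  exact he3 h1

end Jordan

end CfsgLib.Fusion.RankThree
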