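import Mathlib

/-!
# A single Jordan block in dimension three, and bilinear maps commuting with it
-/

set_option autoImplicit false
set_option linter.unusedSectionVars false
set_option linter.style.haveILetI false

namespace CfsgLib.Fusion.RankThree

variable {p : ℕ} [hp : Fact p.Prime] {V : Type*} [AddCommGroup V] [Module (ZMod p) V]

/-- A unipotent map in dimension at most three has cube-zero difference with the identity. -/
theorem sub_one_cube (T : Module.End (ZMod p) V) {k : ℕ} (hT : T ^ p ^ k = 1) [Finite V]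
    (hd : Module.finrank (ZMod p) V ≤ 3) : (T - 1) ^ 3 = 0 := by
  rcases subsingleton_or_nontrivial (Module.End (ZMod p) V) with h | h
  · exact Subsingleton.elim _ _
  haveI : CharP (Module.End (ZMod p) V) p := charP_of_injective_algebraMap
    (algebraMap (ZMod p) (Module.End (ZMod p) V)).injective p
  have hn : IsNilpotent (T - 1) := ⟨p ^ k, by
    rw [sub_pow_char_pow_of_commute p k (Commute.one_right T), hT, one_pow, sub_self]⟩
  refine pow_eq_zero_of_le hd ?_
  have h1 := LinearMap.aeval_self_charpoly (T - 1)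
  rw [hn.charpoly_eq_X_pow_finrank, map_pow, Polynomial.aeval_X] at h1
  exact h1

/-- A map of `p`-th power one has cube-zero difference with the identity, and conversely. -/
theorem pow_p_of_cube (hp3 : 3 ≤ p) (T : Module.End (ZMod p) V) (h : (T - 1) ^ 3 = 0) :
    T ^ p = 1 := by
  rcases subsingleton_or_nontrivial (Module.End (ZMod p) V) with h' | h'
  · exact Subsingleton.elim _ _
  haveI : CharP (Module.End (ZMod p) V) p := charP_of_injective_algebraMap
    (algebraMap (ZMod p) (Module.End (ZMod p) V)).injective p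
  have h1 := pow_eq_zero_of_le hp3 h
  rw [sub_pow_char_of_commute p (Commute.one_right T), one_pow, sub_eq_zero] at h1
  exact h1

/-- A Jordan block of size three with a chosen cyclic vector. -/
structure Block (δ : Module.End (ZMod p) V) (v : V) : Prop where
  cube : δ ^ 3 = 0
  ne : δ (δ v) ≠ 0
  dim : Module.finrank (ZMod p) V = 3

namespace Block

variable {δ : Module.End (ZMod p) V} {v : V} (b : Block δ v)
include b

theorem d3 (u : V) : δ (δ (δ u)) = 0 := LinearMap.congr_fun b.cube u

theorem indep {a c e : ZMod p} (h : a • v + c • δ v + e • δ (δ v) = 0) :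
    a = 0 ∧ c = 0 ∧ e = 0 := by
  have h1 := congrArg (fun u => δ (δ u)) h
  simp only [map_add, map_smul, map_zero, b.d3, smul_zero, add_zero] at h1
  have ha : a = 0 := (smul_eq_zero.1 h1).resolve_right b.ne
  rw [ha, zero_smul, zero_add] at h
  have h2 := congrArg δ h
  simp only [map_add, map_smul, map_zero, b.d3, smul_zero, add_zero] at h2
  have hc : c = 0 := (smul_eq_zero.1 h2).resolve_right b.ne
  rw [hc, zero_smul, zero_add] at h
  exact ⟨ha, hc, (smul_eq_zero.1 h).resolve_right b.ne⟩

theorem coords (u : V) : ∃ a c e : ZMod p, u = a • v + c • δ v + e • δ (δ v) := by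
  have hli : LinearIndependent (ZMod p) ![v, δ v, δ (δ v)] := by
    rw [Fintype.linearIndependent_iff]
    intro f hf
    rw [Fin.sum_univ_three] at hf
    obtain ⟨h0, h1, h2⟩ := b.indep hf
    intro i; fin_cases i <;> assumption
  have hspan := hli.span_eq_top_of_card_eq_finrank (by rw [Fintype.card_fin, b.dim])
  have hu : u ∈ Submodule.span (ZMod p) (Set.range ![v, δ v, δ (δ v)]) := hspan ▸ trivial
  obtain ⟨f, hf⟩ := (Submodule.mem_span_range_iff_exists_fun _).1 hu
  exact ⟨f 0, f 1, f 2, by rw [← hf, Fin.sum_univ_three]; rfl⟩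

theorem mem_range {u : V} : u ∈ LinearMap.range δ ↔ δ (δ u) = 0 := by
  refine ⟨fun ⟨w, hw⟩ => hw ▸ b.d3 w, fun h => ?_⟩
  obtain ⟨a, c, e, rfl⟩ := b.coords u
  simp only [map_add, map_smul, b.d3, smul_zero, add_zero] at h
  rw [(smul_eq_zero.1 h).resolve_right b.ne, zero_smul, zero_add]
  exact ⟨c • v + e • δ v, by simp [map_add, map_smul]⟩

theorem mem_range_coords {u : V} (h : u ∈ LinearMap.range δ) :
    ∃ c e : ZMod p, u = c • δ v + e • δ (δ v) := by
  obtain ⟨w, rfl⟩ := h
  obtain ⟨a, c, e, rfl⟩ := b.coords w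
  exact ⟨a, c, by simp [map_add, map_smul, b.d3]⟩

theorem eq_smul_of_ker {u : V} (h : δ u = 0) : ∃ e : ZMod p, u = e • δ (δ v) := by
  obtain ⟨a, c, e, rfl⟩ := b.coords u
  simp only [map_add, map_smul, b.d3, smul_zero, add_zero] at h
  obtain ⟨-, ha, hc⟩ := b.indep (a := 0) (c := a) (e := c) (by rw [zero_smul, zero_add, h])
  exact ⟨e, by simp [ha, hc]⟩

/-- A proper invariant subspace lies in the range. -/
theorem le_range {U : Submodule (ZMod p) V} (hU : ∀ u ∈ U, δ u ∈ U) (hne : U ≠ ⊤) :
    U ≤ LinearMap.range δ := by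
  intro u hu
  rw [b.mem_range]
  by_contra h
  apply hne
  obtain ⟨a, c, e, rfl⟩ := b.coords u
  simp only [map_add, map_smul, b.d3, smul_zero, add_zero] at h
  have ha : a ≠ 0 := fun ha => h (by rw [ha, zero_smul])
  have h3 : δ (δ v) ∈ U := by
    have := U.smul_mem a⁻¹ (hU _ (hU _ hu))
    simpa [map_add, map_smul, b.d3, ha] using this
  have h2 : δ v ∈ U := by
    have := U.smul_mem a⁻¹ (U.sub_mem (hU _ hu) (U.smul_mem c h3))
    simpa [map_add, map_smul, b.d3, ha] using this
  have h1 : v ∈ U := by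
    have := U.smul_mem a⁻¹ (U.sub_mem (U.sub_mem hu (U.smul_mem c h2)) (U.smul_mem e h3))
    have e : a⁻¹ • (a • v + c • δ v + e • δ (δ v) - c • δ v - e • δ (δ v)) = v := by
      rw [add_sub_assoc, add_sub_assoc]
      simp [smul_smul, ha]
    rwa [e] at this
  refine eq_top_iff.2 fun w _ => ?_
  obtain ⟨x, y, z, rfl⟩ := b.coords w
  exact U.add_mem (U.add_mem (U.smul_mem _ h1) (U.smul_mem _ h2)) (U.smul_mem _ h3)

end Block

/-- A dependence among a cyclic triple forces its last member to vanish. -/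
theorem triple_dep {W : Type*} [AddCommGroup W] [Module (ZMod p) W] (δ : Module.End (ZMod p) W)
    {e₁ e₂ e₃ : W} (h1 : δ e₁ = e₂ + e₃) (h2 : δ e₂ = e₃) (h3 : δ e₃ = 0) (he : e₃ ≠ 0)
    {a c e : ZMod p} (h : a • e₁ + c • e₂ + e • e₃ = 0) : a = 0 ∧ c = 0 ∧ e = 0 := by
  have ha' := congrArg (fun u => δ (δ u)) h
  simp only [map_add, map_smul, map_zero, h1, h2, h3, smul_zero, add_zero] at ha'
  have ha : a = 0 := (smul_eq_zero.1 ha').resolve_right he
  rw [ha, zero_smul, zero_add] at h
  have hc' := congrArg δ h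
  simp only [map_add, map_smul, map_zero, h2, h3, smul_zero, add_zero] at hc'
  have hc : c = 0 := (smul_eq_zero.1 hc').resolve_right he
  rw [hc, zero_smul, zero_add] at h
  exact ⟨ha, hc, (smul_eq_zero.1 h).resolve_right he⟩

/-- An equivariant bilinear map kills pairs of lowest vectors. -/
theorem bilin_low {A B C : Type*} [AddCommGroup A] [Module (ZMod p) A] [AddCommGroup B]
    [Module (ZMod p) B] [AddCommGroup C] [Module (ZMod p) C] (hp5 : 5 ≤ p)
    (f : A →ₗ[ZMod p] B →ₗ[ZMod p] C) (TA : Module.End (ZMod p) A) (TB : Module.End (ZMod p) B)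
    (TC : Module.End (ZMod p) C) (hf : ∀ a b, TC (f a b) = f (TA a) (TB b))
    (hA : (TA - 1) ^ 3 = 0) (hB : (TB - 1) ^ 3 = 0) (hC : (TC - 1) ^ 3 = 0) (a : A) (b : B) :
    f ((TA - 1) ((TA - 1) a)) ((TB - 1) ((TB - 1) b)) = 0 := by
  set α := TA - 1 with hα
  set β := TB - 1 with hβ
  set γ := TC - 1 with hγ
  have step : ∀ a b, γ (f a b) = f (α a) b + f a (β b) + f (α a) (β b) := by
    intro a b
    simp only [hα, hβ, hγ, LinearMap.sub_apply, Module.End.one_apply, hf, map_sub]
    abel
  have a3 : ∀ a, α (α (α a)) = 0 := fun a => LinearMap.congr_fun hA a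
  have b3 : ∀ b, β (β (β b)) = 0 := fun b => LinearMap.congr_fun hB b
  have c3 : ∀ c, γ (γ (γ c)) = 0 := fun c => LinearMap.congr_fun hC c
  have h : γ (γ (γ (γ (f a b)))) = (6 : ZMod p) • f (α (α a)) (β (β b)) := by
    simp only [step, map_add, a3, b3, map_zero, LinearMap.zero_apply,
      add_zero, zero_add]
    module
  rw [c3] at h
  refine (smul_eq_zero.1 h.symm).resolve_left fun h6 => ?_
  have h6' : ((6 : ℕ) : ZMod p) = 0 := by exact_mod_cast h6
  have hd : p ∣ 2 * 3 := (ZMod.natCast_eq_zero_iff 6 p).1 h6'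
  rcases hp.1.dvd_mul.1 hd with hd | hd
  · exact absurd (Nat.le_of_dvd (by norm_num) hd) (by omega)
  · exact absurd (Nat.le_of_dvd (by norm_num) hd) (by omega)

end CfsgLib.Fusion.RankThree
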