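import Cfsg.Agent.Lib.Fusion.RankThree.Series
import Cfsg.Agent.Lib.Fusion.RankThree.Linear

/-!
# An elementary quotient of rank three with a single Jordan block: first properties
-/

set_option autoImplicit false
set_option linter.unusedSectionVars false
set_option linter.style.haveILetI false

namespace CfsgLib.Fusion.RankThree

open scoped commutatorElement

universe u

variable {p : ℕ} [hp : Fact p.Prime] {X : Type u} [Group X]

/-- Natural-number coordinates along a subgroup of prime index. -/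
theorem exists_dec [Finite X] {E : Subgroup X} [E.Normal] {x : X}
    (htop : E ⊔ Subgroup.zpowers x = ⊤) (y : X) : ∃ e ∈ E, ∃ i : ℕ, y = e * x ^ i := by
  obtain ⟨e, he, z, hz, h⟩ := Subgroup.mem_sup_of_normal_left.1 (htop.ge (Subgroup.mem_top y))
  obtain ⟨i, hi⟩ := Submonoid.mem_powers_iff _ _ |>.1 (mem_powers_iff_mem_zpowers.2 hz)
  exact ⟨e, he, i, by rw [hi, h]⟩

/-- A subgroup of prime index and an element outside it generate. -/
theorem sup_eq_top_of_index {E : Subgroup X} (hi : E.index = p) {x : X} (hx : x ∉ E) :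
    E ⊔ Subgroup.zpowers x = ⊤ := by
  rcases (Nat.dvd_prime hp.1).1 (hi ▸ Subgroup.index_dvd_of_le
    (le_sup_left : E ≤ E ⊔ Subgroup.zpowers x)) with h | h
  · exact Subgroup.index_eq_one.1 h
  · exfalso
    have hne : (E ⊔ Subgroup.zpowers x).index ≠ 0 := h ▸ hp.1.ne_zero
    have h1 : E.relIndex (E ⊔ Subgroup.zpowers x) * (E ⊔ Subgroup.zpowers x).index = E.index :=
      Subgroup.relIndex_mul_index le_sup_left
    rw [h, hi] at h1
    have h2 : E.relIndex (E ⊔ Subgroup.zpowers x) = 1 :=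
      Nat.eq_of_mul_eq_mul_right hp.1.pos (h1.trans (one_mul p).symm)
    exact hx (Subgroup.relIndex_eq_one.1 h2 (Subgroup.mem_sup_right (Subgroup.mem_zpowers x)))

namespace SecMap

variable {A B : Subgroup X} {V : Type u} [AddCommGroup V] [Module (ZMod p) V]
  (s : SecMap p A B V)

include s

/-- The kernel of a map commuting with the action, as a normal subgroup. -/
theorem exists_kerSub [Finite X] (hA : A.Normal) {E : Subgroup X} [E.Normal] {x : X}
    (htop : E ⊔ Subgroup.zpowers x = ⊤)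
    (hE : ∀ e ∈ E, ∀ a ∈ A, s.π (e * a * e⁻¹) = s.π a) {T : Module.End (ZMod p) V}
    (hT : ∀ a ∈ A, T (s.π a) = s.π (x * a * x⁻¹)) (f : Module.End (ZMod p) V)
    (hf : Commute f T) : ∃ N : Subgroup X, N.Normal ∧ ∀ y, y ∈ N ↔ y ∈ A ∧ f (s.π y) = 0 := by
  refine ⟨⟨⟨⟨{y | y ∈ A ∧ f (s.π y) = 0}, ?_⟩, ?_⟩, ?_⟩, ⟨fun a ha y => ?_⟩, fun y => Iff.rfl⟩
  · rintro a b ⟨ha, ha'⟩ ⟨hb, hb'⟩
    exact ⟨A.mul_mem ha hb, by rw [s.map_mul _ ha _ hb, map_add, ha', hb', add_zero]⟩
  · exact ⟨A.one_mem, by rw [s.map_one, map_zero]⟩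
  · rintro a ⟨ha, ha'⟩
    exact ⟨A.inv_mem ha, by rw [s.map_inv ha, map_neg, ha', neg_zero]⟩
  · obtain ⟨e, he, i, rfl⟩ := exists_dec htop y
    have hxa : x ^ i * a * (x ^ i)⁻¹ ∈ A := hA.conj_mem a ha.1 _
    refine ⟨hA.conj_mem a ha.1 _, ?_⟩
    show f (s.π (e * x ^ i * a * (e * x ^ i)⁻¹)) = 0
    rw [show e * x ^ i * a * (e * x ^ i)⁻¹ = e * (x ^ i * a * (x ^ i)⁻¹) * e⁻¹ by group,
      hE e he _ hxa, ← s.conj_pow_eq hA hT i a ha.1, ← Module.End.mul_apply,
      (hf.pow_right i).eq, Module.End.mul_apply, ha.2, map_zero]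

end SecMap

namespace Jordan

variable [Finite X] {V : Type u} [AddCommGroup V] [Module (ZMod p) V]

/-- The standing hypotheses: an elementary quotient of rank three of a subgroup of index `p` on
which the whole group induces a single block, and an automorphism moving the subgroup. -/
structure Ctx (E : Subgroup X) (s : SecMap p E (step p E E) V) (x : X)
    (T : Module.End (ZMod p) V) (g : MulAut X) (v : V) : Prop where
  p5 : 5 ≤ p
  pgroup : IsPGroup p X
  rank : Cfsg.SectionalPRankLE p 3 X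
  normal : E.Normal
  index : E.index = p
  notMem : x ∉ E
  act : ∀ a ∈ E, T (s.π a) = s.π (x * a * x⁻¹)
  block : Block (T - 1) v
  move : E.map g.toMonoidHom ≠ E
  move2 : E.map (g * g).toMonoidHom ≠ E

variable {E : Subgroup X} {s : SecMap p E (step p E E) V} {x : X} {T : Module.End (ZMod p) V}
  {g : MulAut X} {v : V} (C : Ctx E s x T g v)

/-- The Frattini subgroup of the whole group. -/
abbrev DD (p : ℕ) (X : Type u) [Group X] : Subgroup X := step p (⊤ : Subgroup X) ⊤

/-- The second term. -/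
abbrev D2 (p : ℕ) (X : Type u) [Group X] : Subgroup X := step p (DD p X) ⊤

/-- The third term. -/
abbrev D3 (p : ℕ) (X : Type u) [Group X] : Subgroup X := step p (D2 p X) ⊤

/-- The fourth term. -/
abbrev D4 (p : ℕ) (X : Type u) [Group X] : Subgroup X :=
  step p (D3 p X) ⊤ ⊔ ⁅D2 p X, DD p X⁆

instance DD_normal : (DD p X).Normal := step_normal
instance D2_normal : (D2 p X).Normal := step_normal
instance D3_normal : (D3 p X).Normal := step_normal
instance D4_normal : (D4 p X).Normal := by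
  haveI : (step p (D3 p X) ⊤).Normal := step_normal
  exact Subgroup.sup_normal _ _

theorem map_DD (φ : MulAut X) : (DD p X).map φ.toMonoidHom = DD p X := by
  rw [step_map, Subgroup.map_top_of_surjective _ φ.surjective]

theorem map_D2 (φ : MulAut X) : (D2 p X).map φ.toMonoidHom = D2 p X := by
  rw [step_map, map_DD, Subgroup.map_top_of_surjective _ φ.surjective]

theorem map_D3 (φ : MulAut X) : (D3 p X).map φ.toMonoidHom = D3 p X := by
  rw [step_map, map_D2, Subgroup.map_top_of_surjective _ φ.surjective]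

theorem map_D4 (φ : MulAut X) : (D4 p X).map φ.toMonoidHom = D4 p X := by
  rw [Subgroup.map_sup, step_map, map_D3, Subgroup.map_commutator, map_D2, map_DD,
    Subgroup.map_top_of_surjective _ φ.surjective]

include C

theorem htop : E ⊔ Subgroup.zpowers x = ⊤ := sup_eq_top_of_index C.index C.notMem

theorem conjE (e : X) (he : e ∈ E) (a : X) (ha : a ∈ E) : s.π (e * a * e⁻¹) = s.π a :=
  s.conj_eq ha he

theorem K_mem {a b : X} (ha : a ∈ E) (hb : b ∈ E) : ⁅a, b⁆ ∈ step p E E := comm_mem_step ha hb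

theorem pi_comm {a : X} (ha : a ∈ E) : s.π ⁅x, a⁆ = (T - 1) (s.π a) :=
  s.map_comm_left C.normal C.act ha

theorem comm_mem_E {a : X} (ha : a ∈ E) (y : X) : ⁅a, y⁆ ∈ E := by
  rw [commutatorElement_def, mul_assoc a, mul_assoc a]
  exact E.mul_mem ha (C.normal.conj_mem _ (E.inv_mem ha) y)

theorem comm_mem_E' {a : X} (ha : a ∈ E) (y : X) : ⁅y, a⁆ ∈ E :=
  comm_mem_swap (comm_mem_E C ha y)

/-- The Frattini subgroup is the preimage of the image of the block. -/
theorem mem_DD {a : X} : a ∈ DD p X ↔ a ∈ E ∧ (T - 1) ((T - 1) (s.π a)) = 0 := by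
  haveI := C.normal
  obtain ⟨N, hN, hmem⟩ := s.exists_kerSub C.normal (htop C) (conjE C) C.act ((T - 1) * (T - 1))
    (((Commute.refl T).sub_left (Commute.one_left T)).mul_left
      ((Commute.refl T).sub_left (Commute.one_left T)))
  constructor
  · have hxE : ∀ e ∈ E, ⁅x, e⁆ ∈ N := fun e he => (hmem _).2 ⟨comm_mem_E' C he x, by
      rw [pi_comm C he, Module.End.mul_apply, C.block.d3]⟩
    have hEE : ∀ a ∈ E, ∀ e ∈ E, ⁅a, e⁆ ∈ N := fun a ha e he => (hmem _).2
      ⟨comm_mem_E C ha e, by rw [(s.map_eq_zero _ (comm_mem_E C ha e)).2 (K_mem C ha he), map_zero]⟩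
    have hx' : ∀ y, ⁅x, y⁆ ∈ N := comm_top_mem hN (htop C)
      (by rw [commutatorElement_self]; exact N.one_mem) hxE
    have hE' : ∀ a ∈ E, ∀ y, ⁅a, y⁆ ∈ N := fun a ha =>
      comm_top_mem hN (htop C) (comm_mem_swap (hxE a ha)) (hEE a ha)
    have hall : ∀ a y : X, ⁅a, y⁆ ∈ N := fun a =>
      comm_top_mem hN (htop C) (comm_mem_swap (hx' a)) fun e he => comm_mem_swap (hE' e he a)
    have hle : DD p X ≤ N := by
      refine step_le (fun a _ b _ => hall a b) fun a _ => ?_
      obtain ⟨e, he, i, rfl⟩ := exists_dec (htop C) a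
      have h1 := mul_pow_mem hN (hall e (x ^ i)) p
      have h2 : e ^ p * (x ^ i) ^ p ∈ N := by
        refine N.mul_mem ((hmem _).2 ⟨E.pow_mem he p, ?_⟩) ?_
        · rw [(s.map_eq_zero _ (E.pow_mem he p)).2 (s.pow_mem he), map_zero]
        · rw [← pow_mul, mul_comm, pow_mul]
          refine N.pow_mem ?_ i
          have hxp : x ^ p ∈ E := C.index ▸ E.pow_index_mem x
          refine (hmem _).2 ⟨hxp, ?_⟩
          rw [Module.End.mul_apply, ← pi_comm C hxp,
            commutatorElement_eq_one_iff_mul_comm.2 (pow_succ' x p ▸ pow_succ x p), s.map_one,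
            map_zero]
      have h3 := N.mul_mem h2 h1
      rwa [mul_inv_cancel_left] at h3
    intro h
    exact (hmem a).1 (hle h)
  · rintro ⟨ha, h⟩
    obtain ⟨w, hw⟩ := C.block.mem_range.2 h
    obtain ⟨b, hb, rfl⟩ := s.surj w
    rw [← pi_comm C hb] at hw
    have h1 := (s.eq_iff (comm_mem_E' C hb x) ha).1 hw
    have h2 : step p E E ≤ DD p X := step_mono le_top le_top
    have h3 := (DD p X).mul_mem (comm_mem_step (p := p) (Subgroup.mem_top x) (Subgroup.mem_top b))
      (h2 h1)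
    rwa [mul_inv_cancel_left] at h3

theorem DD_le : DD p X ≤ E := fun _ h => ((mem_DD C).1 h).1

theorem K_le_DD : step p E E ≤ DD p X := step_mono le_top le_top

/-- The second term maps into the fixed line. -/
theorem D2_fixed {a : X} (ha : a ∈ D2 p X) : a ∈ E ∧ (T - 1) (s.π a) = 0 := by
  haveI := C.normal
  obtain ⟨N, hN, hmem⟩ := s.exists_kerSub C.normal (htop C) (conjE C) C.act (T - 1)
    ((Commute.refl T).sub_left (Commute.one_left T))
  have hle : D2 p X ≤ N := by
    refine step_le (fun b hb y _ => ?_) fun b hb => ?_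
    · obtain ⟨hbE, hb0⟩ := (mem_DD C).1 hb
      refine comm_top_mem hN (htop C) (comm_mem_swap ((hmem _).2 ⟨comm_mem_E' C hbE x, ?_⟩))
        (fun e he => (hmem _).2 ⟨comm_mem_E C hbE e, ?_⟩) y
      · rw [pi_comm C hbE, hb0]
      · rw [(s.map_eq_zero _ (comm_mem_E C hbE e)).2 (K_mem C hbE he), map_zero]
    · refine (hmem _).2 ⟨E.pow_mem (DD_le C hb) p, ?_⟩
      rw [(s.map_eq_zero _ (E.pow_mem (DD_le C hb) p)).2 (s.pow_mem (DD_le C hb)), map_zero]
  exact (hmem a).1 (hle ha)

theorem D3_le : D3 p X ≤ step p E E := by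
  haveI := C.normal
  have hKn : (step p E E).Normal := step_normal
  refine step_le (fun b hb y _ => ?_) fun b hb => s.pow_mem (D2_fixed C hb).1
  obtain ⟨hbE, hb0⟩ := D2_fixed C hb
  refine comm_top_mem hKn (htop C) (comm_mem_swap ?_) (fun e he => K_mem C hbE he) y
  rw [← s.map_eq_zero _ (comm_mem_E' C hbE x), pi_comm C hbE, hb0]

/-- Elements outside the subgroup do not centralise the Frattini subgroup modulo `Φ(E)`. -/
theorem exists_comm_notMem {y : X} (hy : y ∉ E) : ∃ a ∈ DD p X, ⁅a, y⁆ ∉ step p E E := by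
  haveI := C.normal
  obtain ⟨b, hb, hbv⟩ := s.surj v
  have ha : ⁅x, b⁆ ∈ DD p X := comm_mem_step (Subgroup.mem_top _) (Subgroup.mem_top _)
  refine ⟨⁅x, b⁆, ha, fun h => ?_⟩
  obtain ⟨e, he, i, rfl⟩ := exists_dec (htop C) y
  set a := ⁅x, b⁆
  have haE := DD_le C ha
  have haπ : s.π a = (T - 1) v := by rw [pi_comm C hb, hbv]
  have hpow : ∀ n : ℕ, (T ^ n) ((T - 1) v) = (T - 1) v + (n : ZMod p) • (T - 1) ((T - 1) v) := by
    intro n
    induction n with
    | zero => simp
    | succ n ih =>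
      have hd : ∀ u, T u = u + (T - 1) u := fun u => by simp
      rw [pow_succ', Module.End.mul_apply, ih, map_add, map_smul, hd ((T - 1) v),
        hd ((T - 1) ((T - 1) v)), C.block.d3, add_zero, Nat.cast_succ, add_smul, one_smul]
      abel
  have hcj := E.pow_mem haE 1
  have hxa : x ^ i * a * (x ^ i)⁻¹ ∈ E := C.normal.conj_mem a haE _
  have h2 : s.π ⁅e * x ^ i, a⁆ = 0 :=
    (s.map_eq_zero _ (comm_mem_E' C haE _)).2 (comm_mem_swap h)
  rw [commutatorElement_def,
    show e * x ^ i * a * (e * x ^ i)⁻¹ * a⁻¹ = e * (x ^ i * a * (x ^ i)⁻¹) * e⁻¹ * a⁻¹ by group,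
    s.map_mul _ (C.normal.conj_mem _ hxa e) _ (E.inv_mem haE), s.conj_eq hxa he,
    ← s.conj_pow_eq C.normal C.act i a haE, s.map_inv haE, haπ, hpow i, add_neg_cancel_comm,
    smul_eq_zero, or_iff_left C.block.ne, ZMod.natCast_eq_zero_iff] at h2
  obtain ⟨k, rfl⟩ := h2
  refine hy (E.mul_mem he ?_)
  rw [pow_mul]
  exact E.pow_mem (C.index ▸ E.pow_index_mem x) k

/-- No invariant subgroup of `Φ(E)` absorbs the commutators of `E` with the Frattini subgroup. -/
theorem exists_notMem {Q : Subgroup X} (hQg : Q.map g.toMonoidHom = Q) (hQ : Q ≤ step p E E) :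
    ∃ a ∈ DD p X, ∃ e ∈ E, ⁅a, e⁆ ∉ Q := by
  obtain ⟨e, he, hy⟩ : ∃ e ∈ E, g⁻¹ e ∉ E := by
    by_contra! h
    have h1 : E ≤ E.map g.toMonoidHom := fun e he =>
      ⟨g⁻¹ e, h e he, MulAut.apply_inv_self _ g e⟩
    exact C.move (Subgroup.eq_of_le_of_card_ge h1
      (Subgroup.card_map_of_injective g.injective).le).symm
  obtain ⟨a, ha, hay⟩ := exists_comm_notMem C hy
  have hga : g a ∈ DD p X := by
    rw [← map_DD g]
    exact ⟨a, ha, rfl⟩
  refine ⟨g a, hga, e, he, fun h => hay ?_⟩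
  rw [← hQg] at h
  obtain ⟨q, hq, hq'⟩ := h
  have h1 : q = ⁅a, g⁻¹ e⁆ := g.injective (by
    rw [map_commutatorElement, MulAut.apply_inv_self]
    exact hq')
  exact hQ (h1 ▸ hq)

end Jordan

end CfsgLib.Fusion.RankThree
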