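import Cfsg.Agent.Lib.Fusion.RankThree.Action

/-!
# Tori generated by two unipotent elements, and the movement of a Jordan block
-/

set_option autoImplicit false
set_option linter.unusedSectionVars false
set_option linter.style.haveILetI false

namespace CfsgLib.Fusion.RankThree

universe u

variable {p : ℕ} [hp : Fact p.Prime]

/-- Powers of a map with square-zero difference from the identity. -/
theorem pow_apply_of_sq {V : Type*} [AddCommGroup V] [Module (ZMod p) V]
    (T : Module.End (ZMod p) V) (h : ∀ r, (T - 1) ((T - 1) r) = 0) (n : ℕ) (r : V) :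
    (T ^ n) r = r + (n : ZMod p) • (T - 1) r := by
  induction n with
  | zero => simp
  | succ n ih =>
    have hd : ∀ z, T z = z + (T - 1) z := fun z => by simp
    rw [pow_succ', Module.End.mul_apply, ih, map_add, map_smul, hd r, hd ((T - 1) r), h, add_zero,
      Nat.cast_succ, add_smul, one_smul]
    abel

/-- Two conjugate transvections generate the torus of determinant one on their plane. -/
theorem exists_torus {G : Type*} [Group G] {V : Type*} [AddCommGroup V] [Module (ZMod p) V]
    (σ : G →* Module.End (ZMod p) V) (x a : G) {P : V} (hP : P ≠ 0) (hAP : (σ x - 1) P = 0)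
    (hA : ∀ r, ∃ c : ZMod p, (σ x - 1) r = c • P) (ha : (σ x - 1) (σ a P) ≠ 0)
    (hi : (σ x - 1) (σ a⁻¹ P) ≠ 0) {l : ZMod p} (hl : l ≠ 0) (H : Subgroup G) (hxH : x ∈ H)
    (haH : a * x * a⁻¹ ∈ H) :
    ∃ θ ∈ H, σ θ P = l • P ∧ σ θ (σ a P) = l⁻¹ • σ a P ∧
      ∀ r, (σ x - 1) r = 0 → (σ x - 1) (σ a⁻¹ r) = 0 → σ θ r = r := by
  set A := σ x - 1 with hAdef
  obtain ⟨c, hc⟩ := hA (σ a P)
  obtain ⟨s, hs⟩ := hA (σ a⁻¹ P)
  have hc0 : c ≠ 0 := fun h => ha (by rw [hc, h, zero_smul])
  have hs0 : s ≠ 0 := fun h => hi (by rw [hs, h, zero_smul])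
  have hA2 : ∀ r, A (A r) = 0 := fun r => by
    obtain ⟨k, hk⟩ := hA r
    rw [hk, map_smul, hAP, smul_zero]
  have hai : ∀ r, σ a⁻¹ (σ a r) = r := rho_inv_apply σ a
  have hia : ∀ r, σ a (σ a⁻¹ r) = r := rho_apply_inv σ a
  -- the two root elements
  have hU : ∀ t : ZMod p, ∀ r, σ (x ^ t.val) r = r + t • A r := fun t r => by
    rw [map_pow, pow_apply_of_sq (σ x) hA2, ZMod.natCast_zmod_val, ← hAdef]
  have hV : ∀ t : ZMod p, ∀ r,
      σ ((a * x * a⁻¹) ^ t.val) r = r + t • σ a (A (σ a⁻¹ r)) := fun t r => by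
    rw [conj_pow, map_mul, map_mul, Module.End.mul_apply, Module.End.mul_apply, hU, map_add,
      map_smul, hia]
  have hBP : σ a (A (σ a⁻¹ P)) = s • σ a P := by rw [hs, map_smul]
  have hBw : σ a (A (σ a⁻¹ (σ a P))) = 0 := by rw [hai, hAP, map_zero]
  set W : ZMod p → G := fun m =>
    x ^ m.val * (a * x * a⁻¹) ^ (-(m * c * s)⁻¹).val * x ^ m.val with hW
  have hWH : ∀ m, W m ∈ H := fun m =>
    H.mul_mem (H.mul_mem (H.pow_mem hxH _) (H.pow_mem haH _)) (H.pow_mem hxH _)
  have hWP : ∀ m : ZMod p, m ≠ 0 → σ (W m) P = (-(m * c)⁻¹) • σ a P := by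
    intro m hm
    simp only [hW, map_mul, Module.End.mul_apply, hU, hV, hAP, smul_zero, add_zero, hBP, map_add,
      map_smul, hc, smul_smul]
    match_scalars <;> field_simp <;> ring
  have hWw : ∀ m : ZMod p, m ≠ 0 → σ (W m) (σ a P) = (m * c) • P := by
    intro m hm
    simp only [hW, map_mul, Module.End.mul_apply, hU, hV, hc, map_add, map_smul, hBw, hBP,
      smul_zero, add_zero, hAP, smul_smul]
    match_scalars <;> field_simp <;> ring
  refine ⟨W l * W (-1), H.mul_mem (hWH _) (hWH _), ?_, ?_, fun r hr hr' => ?_⟩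
  · rw [map_mul, Module.End.mul_apply, hWP _ (neg_ne_zero.2 one_ne_zero), map_smul, hWw l hl,
      smul_smul]
    congr 1
    field_simp
  · rw [map_mul, Module.End.mul_apply, hWw _ (neg_ne_zero.2 one_ne_zero), map_smul, hWP l hl,
      smul_smul]
    congr 1
    field_simp
  · have hfix : ∀ m, σ (W m) r = r := fun m => by
      simp only [hW, map_mul, Module.End.mul_apply, hU, hV, hr, hr', smul_zero, add_zero, map_zero]
    rw [map_mul, Module.End.mul_apply, hfix, hfix]

variable {V : Type u} [AddCommGroup V] [Module (ZMod p) V] {Γ : Type*} [Group Γ]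
  (ρ : Γ →* Module.End (ZMod p) V)

/-- An element trivial on the factors of an invariant chain acts trivially. -/
theorem chain_trivial (hp3 : 3 ≤ p)
    (hrad : ∀ N : Subgroup Γ, N.Normal → (∀ γ ∈ N, ∃ k, ρ γ ^ p ^ k = 1) → ∀ γ ∈ N, ρ γ = 1)
    {L U : Submodule (ZMod p) V} (hLU : L ≤ U) (hL : ∀ γ, ∀ u ∈ L, ρ γ u ∈ L)
    (hU : ∀ γ, ∀ u ∈ U, ρ γ u ∈ U) {γ : Γ} (h1 : ∀ v, ρ γ v - v ∈ U)
    (h2 : ∀ u ∈ U, ρ γ u - u ∈ L) (h3 : ∀ l ∈ L, ρ γ l = l) : ρ γ = 1 := by
  let N : Subgroup Γ :=
    { carrier := {γ | (∀ v, ρ γ v - v ∈ U) ∧ (∀ u ∈ U, ρ γ u - u ∈ L) ∧ ∀ l ∈ L, ρ γ l = l}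
      one_mem' := ⟨fun v => by simp, fun u _ => by simp, fun l _ => by simp⟩
      mul_mem' := by
        rintro a b ⟨a1, a2, a3⟩ ⟨b1, b2, b3⟩
        refine ⟨fun v => ?_, fun u hu => ?_, fun l hl => ?_⟩
        · rw [map_mul, Module.End.mul_apply, ← sub_add_sub_cancel _ (ρ b v)]
          exact U.add_mem (a1 _) (b1 v)
        · rw [map_mul, Module.End.mul_apply, ← sub_add_sub_cancel _ (ρ b u)]
          exact L.add_mem (a2 _ (hU b u hu)) (b2 u hu)
        · rw [map_mul, Module.End.mul_apply, b3 l hl, a3 l hl]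
      inv_mem' := by
        rintro a ⟨a1, a2, a3⟩
        refine ⟨fun v => ?_, fun u hu => ?_, fun l hl => ?_⟩
        · have h := U.neg_mem (a1 (ρ a⁻¹ v))
          rwa [rho_apply_inv, neg_sub] at h
        · have h := L.neg_mem (a2 _ (hU a⁻¹ u hu))
          rwa [rho_apply_inv, neg_sub] at h
        · conv_lhs => rw [← a3 l hl]
          exact rho_inv_apply ρ a l }
  have hN : N.Normal := by
    refine ⟨fun n hn c => ?_⟩
    obtain ⟨n1, n2, n3⟩ := hn
    have key : ∀ v, ρ (c * n * c⁻¹) v - v = ρ c (ρ n (ρ c⁻¹ v) - ρ c⁻¹ v) := fun v => by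
      rw [map_sub, rho_apply_inv, map_mul, map_mul, Module.End.mul_apply, Module.End.mul_apply]
    refine ⟨fun v => ?_, fun u hu => ?_, fun l hl => ?_⟩
    · rw [key]
      exact hU c _ (n1 _)
    · rw [key]
      exact hL c _ (n2 _ (hU c⁻¹ u hu))
    · rw [← sub_eq_zero, key, n3 _ (hL c⁻¹ l hl), sub_self, map_zero]
  refine hrad N hN (fun γ hγ => ⟨1, ?_⟩) γ ⟨h1, h2, h3⟩
  rw [pow_one]
  refine pow_p_of_cube hp3 _ (LinearMap.ext fun v => ?_)
  obtain ⟨g1, g2, g3⟩ := hγ
  have hd : ∀ z, (ρ γ - 1) z = ρ γ z - z := fun z => rfl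
  show (ρ γ - 1) ((ρ γ - 1) ((ρ γ - 1) v)) = 0
  rw [hd ((ρ γ - 1) ((ρ γ - 1) v)), g3 _ (by rw [hd]; exact g2 _ (by rw [hd]; exact g1 v)),
    sub_self]

/-- With a single Jordan block some element moves the fixed line off the image of the block. -/
theorem exists_move_jordan (hp5 : 5 ≤ p)
    (hrad : ∀ N : Subgroup Γ, N.Normal → (∀ γ ∈ N, ∃ k, ρ γ ^ p ^ k = 1) → ∀ γ ∈ N, ρ γ = 1)
    {x : Γ} {v : V} (b : Block (ρ x - 1) v) :
    ∃ γ, (ρ x - 1) ((ρ x - 1) (ρ γ ((ρ x - 1) ((ρ x - 1) v)))) ≠ 0 ∧
      ∀ u, ρ γ ((ρ x - 1) u) ≠ (ρ x - 1) ((ρ x - 1) v) := by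
  set δ := ρ x - 1 with hδ
  set P0 := δ (δ v) with hP0
  have hTv : ∀ z, ρ x z = z + δ z := fun z => by simp [hδ]
  have hxne : ρ x ≠ 1 := fun h => b.ne (by simp [hδ, h])
  have h2 : (2 : ZMod p) ≠ 0 := fun h2 => by
    have h2' : ((2 : ℕ) : ZMod p) = 0 := by exact_mod_cast h2
    have := Nat.le_of_dvd (by norm_num) ((ZMod.natCast_eq_zero_iff 2 p).1 h2')
    omega
  suffices hex : ∃ γ, δ (δ (ρ γ P0)) ≠ 0 by
    obtain ⟨γ, hγ⟩ := hex
    by_cases hin : ∃ u, ρ γ (δ u) = P0
    · obtain ⟨u, hu⟩ := hin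
      refine ⟨γ⁻¹ * x * γ, ?_, ?_⟩
      · intro h0
        have e : ρ (γ⁻¹ * x * γ) P0 = P0 + ρ γ⁻¹ (δ (ρ γ P0)) := by
          rw [map_mul, map_mul, Module.End.mul_apply, Module.End.mul_apply, hTv, map_add,
            rho_inv_apply]
        rw [e, map_add, map_add, hP0, b.d3, zero_add] at h0
        -- the element lies in the image of the block and in its translate
        obtain ⟨w, hw⟩ := b.mem_range.2 h0
        obtain ⟨c, e', hce⟩ := b.mem_range_coords (LinearMap.mem_range_self δ (ρ γ P0))
        have hc : c ≠ 0 := by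
          rintro rfl
          refine hγ ?_
          rw [hP0, hce]
          simp [b.d3]
        have h3 : ρ γ (δ w) = δ (ρ γ P0) := by rw [hw, rho_apply_inv, hP0]
        -- hence the translate of the image equals the image
        have h4 : δ v ∈ (LinearMap.range δ).map (ρ γ) := by
          refine ⟨c⁻¹ • (δ w - e' • δ u), Submodule.smul_mem _ _ (Submodule.sub_mem _
            (LinearMap.mem_range_self δ w) (Submodule.smul_mem _ _ (LinearMap.mem_range_self δ u))),
            ?_⟩
          rw [map_smul, map_sub, map_smul, hu, h3, hP0, hce, add_sub_cancel_right, smul_smul,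
            inv_mul_cancel₀ hc, one_smul]
        have h5 : LinearMap.range δ ≤ (LinearMap.range δ).map (ρ γ) := by
          intro z hz
          obtain ⟨i, j, rfl⟩ := b.mem_range_coords hz
          exact Submodule.add_mem _ (Submodule.smul_mem _ _ h4) (Submodule.smul_mem _ _
            ⟨δ u, LinearMap.mem_range_self δ u, hu⟩)
        have h6 : (LinearMap.range δ).map (ρ γ) = LinearMap.range δ := by
          haveI : FiniteDimensional (ZMod p) V :=
            Module.finite_of_finrank_pos (by rw [b.dim]; norm_num)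
          refine (Submodule.eq_of_le_of_finrank_le h5 ?_).symm
          exact Submodule.finrank_map_le _ _
        have h7 : ρ γ P0 ∈ LinearMap.range δ := by
          rw [← h6]
          exact ⟨P0, LinearMap.mem_range_self δ _, rfl⟩
        exact hγ (b.mem_range.1 h7)
      · intro z hz
        have e1 : ρ γ P0 + (-δ (ρ γ P0) + δ (δ (ρ γ P0))) = ρ γ (δ z) := by
          have hh : ρ γ (ρ (γ⁻¹ * x * γ)⁻¹ P0) = ρ γ (δ z) := by
            rw [← hz, rho_inv_apply]
          rw [← hh, mul_inv_rev, mul_inv_rev, inv_inv, map_mul, map_mul, Module.End.mul_apply,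
            Module.End.mul_apply, rho_apply_inv]
          refine (rho_injective ρ x ?_).symm
          rw [rho_apply_inv, map_add, map_add, map_neg, hTv, hTv (δ (ρ γ P0)),
            hTv (δ (δ (ρ γ P0))), b.d3]
          abel
        -- the image of the translate contains a vector outside the image
        obtain ⟨a, c, e, hace⟩ := b.coords (ρ γ P0)
        have ha : a ≠ 0 := by
          rintro rfl
          refine hγ ?_
          rw [hace]
          simp [b.d3]
        have hd : -δ (ρ γ P0) + δ (δ (ρ γ P0)) = (-a) • δ v + (a - c) • P0 := by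
          rw [hace, hP0]
          simp only [map_add, map_smul, b.d3, smul_zero, add_zero]
          module
        have h4 : δ v ∈ (LinearMap.range δ).map (ρ γ) := by
          refine ⟨(-a)⁻¹ • (δ z - P0 - (a - c) • δ u), Submodule.smul_mem _ _ (Submodule.sub_mem _
            (Submodule.sub_mem _ (LinearMap.mem_range_self δ z) (LinearMap.mem_range_self δ _))
            (Submodule.smul_mem _ _ (LinearMap.mem_range_self δ u))), ?_⟩
          rw [map_smul, map_sub, map_sub, map_smul, ← e1, hd, hu, add_sub_cancel_left,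
            add_sub_cancel_right, smul_smul, inv_mul_cancel₀ (neg_ne_zero.2 ha), one_smul]
        have h5 : LinearMap.range δ ≤ (LinearMap.range δ).map (ρ γ) := by
          intro z hz
          obtain ⟨i, j, rfl⟩ := b.mem_range_coords hz
          exact Submodule.add_mem _ (Submodule.smul_mem _ _ h4) (Submodule.smul_mem _ _
            ⟨δ u, LinearMap.mem_range_self δ u, hu⟩)
        have h6 : (LinearMap.range δ).map (ρ γ) = LinearMap.range δ := by
          haveI : FiniteDimensional (ZMod p) V :=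
            Module.finite_of_finrank_pos (by rw [b.dim]; norm_num)
          refine (Submodule.eq_of_le_of_finrank_le h5 ?_).symm
          exact Submodule.finrank_map_le _ _
        have h7 : ρ γ P0 ∈ LinearMap.range δ := by
          rw [← h6]
          exact ⟨P0, LinearMap.mem_range_self δ _, rfl⟩
        exact hγ (b.mem_range.1 h7)
    · exact ⟨γ, hγ, fun u hu => hin ⟨u, hu⟩⟩
  by_contra hall
  push Not at hall
  have hP0r : P0 ∈ LinearMap.range δ := LinearMap.mem_range_self δ _
  by_cases hline : ∀ γ, δ (ρ γ P0) = 0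
  · -- an invariant line
    set L := LinearMap.ker δ with hL
    have hLinv : ∀ γ, ∀ u ∈ L, ρ γ u ∈ L := fun γ u hu => by
      obtain ⟨e, rfl⟩ := b.eq_smul_of_ker hu
      rw [map_smul]
      exact L.smul_mem e (hline γ)
    set U := LinearMap.range δ with hU
    have hLU : L ≤ U := fun u hu => by
      obtain ⟨e, rfl⟩ := b.eq_smul_of_ker hu
      exact U.smul_mem e hP0r
    obtain ⟨a, ha⟩ : ∃ a, δ (δ (ρ a (δ v))) ≠ 0 := by
      by_contra! h
      refine hxne (chain_trivial ρ (by omega) hrad hLU hLinv (fun γ u hu => ?_)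
        (fun z => by rw [hTv, add_sub_cancel_left]; exact LinearMap.mem_range_self δ z)
        (fun u hu => by
          rw [hTv, add_sub_cancel_left]
          exact b.mem_range.1 hu) fun l hl => by rw [hTv, show δ l = 0 from hl, add_zero])
      obtain ⟨c, e, rfl⟩ := b.mem_range_coords hu
      rw [map_add, map_smul, map_smul]
      exact U.add_mem (U.smul_mem c (b.mem_range.2 (h γ)))
        (U.smul_mem e (b.mem_range.2 (hall γ)))
    set σ := onQuot ρ L hLinv with hσ
    have hA : ∀ z, (σ x - 1) (Submodule.Quotient.mk z) = Submodule.Quotient.mk (δ z) := fun z => by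
      rw [LinearMap.sub_apply, Module.End.one_apply, hσ, onQuot_mk, ← Submodule.Quotient.mk_sub,
        hTv, add_sub_cancel_left]
    have hmk : ∀ z, (Submodule.Quotient.mk z : V ⧸ L) = 0 ↔ δ z = 0 := fun z =>
      Submodule.Quotient.mk_eq_zero L
    -- the element fixing the line and trivial on it
    let H : Subgroup Γ :=
      { carrier := {γ | ρ γ P0 = P0}
        one_mem' := by simp
        mul_mem' := fun {a b} (ha : ρ a P0 = P0) (hb : ρ b P0 = P0) => by
          show ρ (a * b) P0 = P0
          rw [map_mul, Module.End.mul_apply, hb, ha]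
        inv_mem' := fun {a} (ha : ρ a P0 = P0) => by
          show ρ a⁻¹ P0 = P0
          conv_lhs => rw [← ha]
          exact rho_inv_apply ρ a P0 }
    have hxH : x ∈ H := show ρ x P0 = P0 by rw [hTv, hP0, b.d3, add_zero]
    have haH : a * x * a⁻¹ ∈ H := by
      show ρ (a * x * a⁻¹) P0 = P0
      rw [map_mul, map_mul, Module.End.mul_apply, Module.End.mul_apply, hTv (ρ a⁻¹ P0),
        hline a⁻¹, add_zero, rho_apply_inv]
    obtain ⟨θ, hθ, hθm, hθw, -⟩ := exists_torus σ x a (P := Submodule.Quotient.mk (δ v))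
      (fun h => b.ne ((hmk _).1 h)) (by rw [hA, (hmk _).2]; exact b.d3 v)
      (fun r => by
        obtain ⟨z, rfl⟩ := Submodule.Quotient.mk_surjective L r
        obtain ⟨c, e, hce⟩ := b.mem_range_coords (LinearMap.mem_range_self δ z)
        refine ⟨c, ?_⟩
        rw [hA, hce, Submodule.Quotient.mk_add, Submodule.Quotient.mk_smul,
          Submodule.Quotient.mk_smul, (hmk _).2 (b.d3 v), smul_zero, add_zero])
      (by rw [hσ, onQuot_mk, ← hσ, hA]; exact fun h => ha ((hmk _).1 h))
      (by
        rw [hσ, onQuot_mk, ← hσ, hA]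
        intro h
        have hr : ρ a⁻¹ (δ v) ∈ U := b.mem_range.2 ((hmk _).1 h)
        obtain ⟨c, e, hce⟩ := b.mem_range_coords hr
        have h1 := congrArg (fun z => δ (δ (ρ a z))) hce
        have hall' : δ (δ (ρ a (δ (δ v)))) = 0 := hall a
        simp only [rho_apply_inv, map_add, map_smul, hall', smul_zero, add_zero, b.d3] at h1
        obtain rfl : c = 0 := (smul_eq_zero.1 h1.symm).resolve_right ha
        rw [zero_smul, zero_add] at hce
        have h2' : δ (ρ a (ρ a⁻¹ (δ v))) = 0 := by rw [hce, map_smul, map_smul, hline, smul_zero]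
        rw [rho_apply_inv] at h2'
        exact b.ne h2')
      (l := -1) (neg_ne_zero.2 one_ne_zero) H hxH haH
    rw [hσ, onQuot_mk] at hθm
    rw [hσ, onQuot_mk, onQuot_mk] at hθw
    rw [← Submodule.Quotient.mk_smul, Submodule.Quotient.eq] at hθm
    rw [← Submodule.Quotient.mk_smul, Submodule.Quotient.eq, inv_neg, inv_one, neg_smul, one_smul,
      sub_neg_eq_add] at hθw
    rw [neg_smul, one_smul, sub_neg_eq_add] at hθm
    have hθL : ∀ l ∈ L, ρ θ l = l := fun l hl => by
      obtain ⟨e, rfl⟩ := b.eq_smul_of_ker hl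
      rw [map_smul, show ρ θ P0 = P0 from hθ]
    -- the torus element inverts the quotient
    obtain ⟨i, j, k, hijk⟩ := b.coords (ρ a (δ v))
    have hi : i ≠ 0 := by
      rintro rfl
      refine ha ?_
      rw [hijk]
      simp [b.d3]
    have hneg : ∀ z, ρ θ z + z ∈ L := by
      intro z
      obtain ⟨a₁, c₁, e₁, rfl⟩ := b.coords z
      have hv' : ρ θ v + v ∈ L := by
        have hv : v = i⁻¹ • (ρ a (δ v) - j • δ v - k • P0) := by
          rw [hijk, add_sub_right_comm, add_sub_cancel_right, add_sub_cancel_right, smul_smul,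
            inv_mul_cancel₀ hi, one_smul]
        have e : ρ θ v + v = i⁻¹ • ((ρ θ (ρ a (δ v)) + ρ a (δ v)) - j • (ρ θ (δ v) + δ v)
            - k • (ρ θ P0 + P0)) := by
          conv_lhs => rw [hv]
          simp only [map_smul, map_sub]
          module
        rw [e]
        exact L.smul_mem _ (L.sub_mem (L.sub_mem hθw (L.smul_mem _ hθm))
          (L.smul_mem _ (L.add_mem (by rw [hθL P0 (b.d3 v)]; exact b.d3 v) (b.d3 v))))
      have e : ρ θ (a₁ • v + c₁ • δ v + e₁ • δ (δ v)) + (a₁ • v + c₁ • δ v + e₁ • δ (δ v)) =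
          a₁ • (ρ θ v + v) + c₁ • (ρ θ (δ v) + δ v) + e₁ • (ρ θ P0 + P0) := by
        simp only [map_add, map_smul, hP0]
        module
      rw [e]
      exact L.add_mem (L.add_mem (L.smul_mem _ hv') (L.smul_mem _ hθm))
        (L.smul_mem _ (L.add_mem (by rw [hθL P0 (b.d3 v)]; exact b.d3 v) (b.d3 v)))
    -- it commutes with the block
    have hcomm : ρ θ * ρ x = ρ x * ρ θ := by
      have h1 := chain_trivial ρ (by omega) hrad (le_refl L) hLinv hLinv
        (γ := θ * x * (x * θ)⁻¹) ?_ ?_ ?_
      · have := congrArg (· * ρ (x * θ)) h1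
        simp only [← map_mul, inv_mul_cancel_right, one_mul] at this
        rw [← map_mul, this, map_mul]
      · intro z
        obtain ⟨z, rfl⟩ : ∃ z', ρ (x * θ) z' = z := ⟨_, rho_apply_inv ρ (x * θ) z⟩
        rw [map_mul _ (θ * x), Module.End.mul_apply, rho_inv_apply, map_mul, map_mul,
          Module.End.mul_apply, Module.End.mul_apply]
        have e : ρ θ (ρ x z) - ρ x (ρ θ z) =
            (ρ θ (ρ x z) + ρ x z) - ρ x (ρ θ z + z) := by
          rw [map_add]
          abel
        rw [e]
        exact L.sub_mem (hneg _) (hLinv x _ (hneg z))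
      all_goals
        intro z hz
        obtain ⟨z, rfl⟩ : ∃ z', ρ (x * θ) z' = z := ⟨_, rho_apply_inv ρ (x * θ) z⟩
        have hz' : z ∈ L := by
          rw [← rho_inv_apply ρ (x * θ) z]
          exact hLinv _ _ hz
        have hxz : ρ x z = z := by rw [hTv, show δ z = 0 from hz', add_zero]
        have e : ρ (θ * x * (x * θ)⁻¹) (ρ (x * θ) z) = ρ (x * θ) z := by
          rw [map_mul _ (θ * x), Module.End.mul_apply, rho_inv_apply, map_mul, map_mul,
            Module.End.mul_apply, Module.End.mul_apply, hxz, hθL z hz', hxz]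
        first
          | exact e
          | rw [e, sub_self]; exact L.zero_mem
    have hδθ : ∀ z, δ (ρ θ z) = ρ θ (δ z) := fun z => by
      simp only [hδ, LinearMap.sub_apply, Module.End.one_apply, map_sub]
      rw [← Module.End.mul_apply, ← hcomm, Module.End.mul_apply]
    have h1 : δ (δ (ρ θ v + v)) = 0 := by rw [show δ (ρ θ v + v) = 0 from hneg v, map_zero]
    rw [map_add, map_add, hδθ, hδθ, ← hP0, show ρ θ P0 = P0 from hθ, ← two_smul (ZMod p),
      smul_eq_zero] at h1
    exact b.ne (h1.resolve_left h2)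
  · -- an invariant plane
    push Not at hline
    obtain ⟨a, ha⟩ := hline
    set U := LinearMap.range δ with hU
    have haP : ρ a P0 ∈ U := b.mem_range.2 (hall a)
    obtain ⟨c₀, e₀, hce⟩ := b.mem_range_coords haP
    have hc0 : c₀ ≠ 0 := by
      rintro rfl
      refine ha ?_
      rw [hce]
      simp [b.d3]
    have hdv : δ v = c₀⁻¹ • (ρ a P0 - e₀ • P0) := by
      rw [hce, hP0, add_sub_cancel_right, smul_smul, inv_mul_cancel₀ hc0, one_smul]
    have hUinv : ∀ γ, ∀ u ∈ U, ρ γ u ∈ U := fun γ u hu => by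
      obtain ⟨c, e, rfl⟩ := b.mem_range_coords hu
      rw [map_add, map_smul, map_smul]
      refine U.add_mem (U.smul_mem c ?_) (U.smul_mem e (b.mem_range.2 (hall γ)))
      rw [hdv, map_smul, map_sub, map_smul]
      refine U.smul_mem _ (U.sub_mem ?_ (U.smul_mem _ (b.mem_range.2 (hall γ))))
      rw [← Module.End.mul_apply, ← map_mul]
      exact b.mem_range.2 (hall _)
    set σ := onSub ρ U hUinv with hσ
    have hA : ∀ z : U, (((σ x - 1) z : U) : V) = δ z := fun z => by
      rw [LinearMap.sub_apply, Module.End.one_apply, Submodule.coe_sub, hσ, onSub_apply, hTv,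
        add_sub_cancel_left]
    let H : Subgroup Γ :=
      { carrier := {γ | ∀ z, ρ γ z - z ∈ U}
        one_mem' := fun z => by simp
        mul_mem' := fun {a b} ha hb z => by
          rw [map_mul, Module.End.mul_apply, ← sub_add_sub_cancel _ (ρ b z)]
          exact U.add_mem (ha _) (hb z)
        inv_mem' := fun {a} ha z => by
          have h := U.neg_mem (ha (ρ a⁻¹ z))
          rwa [rho_apply_inv, neg_sub] at h }
    have hxH : x ∈ H := fun z => by
      rw [hTv, add_sub_cancel_left]
      exact LinearMap.mem_range_self δ z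
    have haH : a * x * a⁻¹ ∈ H := fun z => by
      have e : ρ (a * x * a⁻¹) z - z = ρ a (ρ x (ρ a⁻¹ z) - ρ a⁻¹ z) := by
        rw [map_sub, rho_apply_inv, map_mul, map_mul, Module.End.mul_apply, Module.End.mul_apply]
      rw [e]
      exact hUinv a _ (hxH _)
    obtain ⟨θ, hθ, hθm, hθw, -⟩ := exists_torus σ x a (P := (⟨P0, hP0r⟩ : U))
      (fun h => b.ne (congrArg Subtype.val h))
      (Subtype.ext (by rw [hA]; exact b.d3 v))
      (fun r => by
        obtain ⟨c, e, hce'⟩ := b.mem_range_coords r.2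
        refine ⟨c, Subtype.ext ?_⟩
        rw [hA, hce', map_add, map_smul, map_smul, b.d3, smul_zero, add_zero]
        rfl)
      (fun h => ha (by
        have h1 := congrArg Subtype.val h
        rw [hA, hσ, onSub_apply] at h1
        exact h1))
      (fun h => ha (by
        have h1 := congrArg Subtype.val h
        rw [hA, hσ, onSub_apply] at h1
        obtain ⟨e, he⟩ := b.eq_smul_of_ker (u := ρ a⁻¹ P0) h1
        have h3 := congrArg (ρ a) he
        rw [rho_apply_inv, map_smul] at h3
        have he0 : e ≠ 0 := fun h0 => b.ne (by rw [← hP0, h3, h0, zero_smul])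
        have h4 : ρ a P0 = e⁻¹ • P0 := by
          conv_rhs => rw [h3, smul_smul, inv_mul_cancel₀ he0, one_smul]
        rw [h4, map_smul, hP0, b.d3, smul_zero]))
      (l := -1) (neg_ne_zero.2 one_ne_zero) H hxH haH
    have hθP : ρ θ P0 = -P0 := by
      have h1 := congrArg Subtype.val hθm
      rw [hσ, onSub_apply, neg_smul, one_smul] at h1
      exact h1
    have hθa : ρ θ (ρ a P0) = -ρ a P0 := by
      have h1 := congrArg Subtype.val hθw
      rw [hσ, onSub_apply, inv_neg, inv_one, neg_smul, one_smul] at h1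
      exact h1
    have hθU : ∀ u ∈ U, ρ θ u = -u := fun u hu => by
      obtain ⟨c, e, rfl⟩ := b.mem_range_coords hu
      rw [← hP0, hdv]
      simp only [map_add, map_smul, map_sub, hθP, hθa]
      module
    have hcomm : ρ θ * ρ x = ρ x * ρ θ := by
      have h1 := chain_trivial ρ (by omega) hrad (le_refl U) hUinv hUinv
        (γ := θ * x * (x * θ)⁻¹) ?_ ?_ ?_
      · have := congrArg (· * ρ (x * θ)) h1
        simp only [← map_mul, inv_mul_cancel_right, one_mul] at this
        rw [← map_mul, this, map_mul]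
      · intro z
        exact H.mul_mem (H.mul_mem hθ hxH) (H.inv_mem (H.mul_mem hxH hθ)) z
      all_goals
        intro z hz
        obtain ⟨z, rfl⟩ : ∃ z', ρ (x * θ) z' = z := ⟨_, rho_apply_inv ρ (x * θ) z⟩
        have hz' : z ∈ U := by
          rw [← rho_inv_apply ρ (x * θ) z]
          exact hUinv _ _ hz
        have e : ρ (θ * x * (x * θ)⁻¹) (ρ (x * θ) z) = ρ (x * θ) z := by
          rw [map_mul _ (θ * x), Module.End.mul_apply, rho_inv_apply, map_mul, map_mul,
            Module.End.mul_apply, Module.End.mul_apply, hθU z hz', map_neg,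
            hθU _ (hUinv x z hz')]
        first
          | exact e
          | rw [e, sub_self]; exact U.zero_mem
    have hδθ : ∀ z, δ (ρ θ z) = ρ θ (δ z) := fun z => by
      simp only [hδ, LinearMap.sub_apply, Module.End.one_apply, map_sub]
      rw [← Module.End.mul_apply, ← hcomm, Module.End.mul_apply]
    have h1 : δ (δ (ρ θ v - v)) = 0 := b.mem_range.1 (hθ v)
    rw [map_sub, map_sub, hδθ, hδθ, ← hP0, hθP, sub_eq_zero, eq_comm, ← add_eq_zero_iff_eq_neg,
      ← two_smul (ZMod p), smul_eq_zero] at h1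
    exact b.ne (h1.resolve_left h2)

end CfsgLib.Fusion.RankThree
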