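import Cfsg.Agent.Lib.Fusion.RankThree.Radical
import Cfsg.Agent.Lib.Fusion.RankThree.Torus

/-!
# With a single block on the Frattini quotient every nontrivial small module is a single block
-/

set_option autoImplicit false
set_option linter.unusedSectionVars false
set_option linter.style.haveILetI false

namespace CfsgLib.Fusion.RankThree

universe u

variable {p : ℕ} [hp : Fact p.Prime] {V : Type u} [AddCommGroup V] [Module (ZMod p) V]
  {Γ : Type*} [Group Γ] {ρ : Γ →* Module.End (ZMod p) V}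
  {R : Sylow p Γ} {H : Subgroup Γ} {x : Γ} {v : V}
  {W : Type u} [AddCommGroup W] [Module (ZMod p) W] {σ : Γ →* Module.End (ZMod p) W}

/-- A map commuting with a block is a polynomial in it, so its `p`-th power is a scalar. -/
theorem Block.exists_scalar [Finite V] (hp5 : 5 ≤ p) {δ : Module.End (ZMod p) V}
    (b : Block δ v) {f : Module.End (ZMod p) V} (hf : Commute f δ) :
    ∃ a : ZMod p, f ^ p = a • (1 : Module.End (ZMod p) V) := by
  haveI : Nontrivial V := Module.nontrivial_of_finrank_pos (R := ZMod p) (by rw [b.dim]; norm_num)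
  obtain ⟨a, c, e, h⟩ := b.coords (f v)
  refine ⟨a, ?_⟩
  set N := c • δ + e • (δ * δ) with hN
  have hfd : ∀ z, f (δ z) = δ (f z) := fun z => LinearMap.congr_fun hf.eq z
  have hfN : f = a • (1 : Module.End (ZMod p) V) + N := by
    refine LinearMap.ext fun z => ?_
    obtain ⟨i, j, k, rfl⟩ := b.coords z
    simp only [hN, map_add, map_smul, hfd, h, LinearMap.add_apply, LinearMap.smul_apply,
      Module.End.one_apply, Module.End.mul_apply, b.d3, smul_zero, add_zero, map_zero]
    module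
  have hcomm : Commute δ (c • (1 : Module.End (ZMod p) V) + e • δ) :=
    ((Commute.one_right δ).smul_right c).add_right ((Commute.refl δ).smul_right e)
  have hNfac : N = δ * (c • (1 : Module.End (ZMod p) V) + e • δ) := by
    rw [hN, mul_add, mul_smul_comm, mul_one, mul_smul_comm]
  have hN3 : N ^ p = 0 := by
    rw [hNfac, hcomm.mul_pow, pow_eq_zero_of_le (by omega) b.cube, zero_mul]
  haveI : CharP (Module.End (ZMod p) V) p := charP_of_injective_algebraMap
    (algebraMap (ZMod p) (Module.End (ZMod p) V)).injective p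
  rw [hfN, add_pow_char_of_commute p ((Commute.one_left N).smul_left a), hN3, add_zero,
    smul_pow, one_pow, ZMod.pow_card]

variable (A : Setup ρ R H)

include A

/-- The representation on a module has no normal `p`-subgroup in its image. -/
theorem Setup.module_rad [Finite Γ] [Finite V] (hp5 : 5 ≤ p) (hx : x ∈ (R : Subgroup Γ))
    (b : Block (ρ x - 1) v) (hσ : ∀ γ, ρ γ = 1 → σ γ = 1) :
    ∀ N : Subgroup Γ, N.Normal → (∀ γ ∈ N, ∃ k, σ γ ^ p ^ k = 1) → ∀ γ ∈ N, σ γ = 1 := by
  intro N hN hNp γ hγ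
  haveI := hN
  have hx1 : ρ x ≠ 1 := fun h => b.ne (by simp [h])
  have h1 := A.normal_image_trivial hp5 hx hx1 b.cube (toEquiv σ)
    (fun γ hγ => toEquiv_eq_one.2 (hσ γ hγ)) N (fun γ hγ => by
      obtain ⟨k, hk⟩ := hNp γ hγ
      exact ⟨k, by rw [← map_pow, toEquiv_eq_one, map_pow, hk]⟩) γ hγ
  exact toEquiv_eq_one.1 h1

set_option maxHeartbeats 1600000 in
/-- A nontrivial module of dimension at most three is a single block. -/
theorem Setup.jordan_on_module [Finite Γ] [Finite V] [Finite W] (hp5 : 5 ≤ p)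
    (hx : x ∈ (R : Subgroup Γ)) (b : Block (ρ x - 1) v)
    (hdim : Module.finrank (ZMod p) W ≤ 3) (hσ : ∀ γ, ρ γ = 1 → σ γ = 1) (hσx : σ x ≠ 1) :
    ∃ w, Block (σ x - 1) w := by
  classical
  have hTp : ρ x ^ p = 1 := pow_p_of_cube (by omega) _ b.cube
  have hx1 : ρ x ≠ 1 := fun h => b.ne (by simp [h])
  have hσρ : ∀ γ γ', ρ γ = ρ γ' → σ γ = σ γ' := fun γ γ' h => by
    have h1 := hσ (γ⁻¹ * γ') (by rw [map_mul, ← h, ← map_mul, inv_mul_cancel, map_one])
    refine LinearMap.ext fun z => ?_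
    have h2 := congrArg (fun f : Module.End (ZMod p) W => σ γ (f z)) h1
    simp only [map_mul, Module.End.mul_apply, rho_apply_inv, Module.End.one_apply] at h2
    exact h2.symm
  have hσp : σ x ^ p = 1 := by rw [← map_pow]; exact hσ _ (by rw [map_pow, hTp])
  have hcube : (σ x - 1) ^ 3 = 0 := sub_one_cube _ (k := 1) (by rw [pow_one, hσp]) hdim
  set δ := σ x - 1 with hδ
  have hd : ∀ z, σ x z = z + δ z := fun z => by simp [hδ]
  suffices hne : ∃ w, δ (δ w) ≠ 0 by
    obtain ⟨w, hw⟩ := hne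
    refine ⟨w, hcube, hw, le_antisymm hdim ?_⟩
    have hd3 : ∀ z, δ (δ (δ z)) = 0 := fun z => LinearMap.congr_fun hcube z
    have hli : LinearIndependent (ZMod p) ![w, δ w, δ (δ w)] := by
      rw [Fintype.linearIndependent_iff]
      intro f hf
      rw [Fin.sum_univ_three] at hf
      simp only [Matrix.cons_val_zero, Matrix.cons_val_one, Matrix.cons_val] at hf
      have h1 := congrArg (fun u => δ (δ u)) hf
      simp only [map_add, map_smul, map_zero, hd3, smul_zero, add_zero] at h1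
      have ha : f 0 = 0 := (smul_eq_zero.1 h1).resolve_right hw
      rw [ha, zero_smul, zero_add] at hf
      have h2 := congrArg δ hf
      simp only [map_add, map_smul, map_zero, hd3, smul_zero, add_zero] at h2
      have hc : f 1 = 0 := (smul_eq_zero.1 h2).resolve_right hw
      rw [hc, zero_smul, zero_add] at hf
      intro i
      fin_cases i
      · exact ha
      · exact hc
      · exact (smul_eq_zero.1 hf).resolve_right hw
    simpa using hli.fintype_card_le_finrank
  by_contra! hsq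
  have hrad : ∀ N : Subgroup Γ, N.Normal → (∀ γ ∈ N, ∃ k, σ γ ^ p ^ k = 1) → ∀ γ ∈ N, σ γ = 1 :=
    A.module_rad hp5 hx b hσ
  obtain ⟨w0, hw0⟩ : ∃ w0, δ w0 ≠ 0 := by
    by_contra! h
    exact hσx (sub_eq_zero.1 (LinearMap.ext h))
  set P := δ w0 with hP
  have hrange : ∀ r, ∃ c : ZMod p, δ r = c • P := by
    have hrle : LinearMap.range δ ≤ LinearMap.ker δ := by
      rintro _ ⟨r, rfl⟩
      exact hsq r
    have hrk := LinearMap.finrank_range_add_finrank_ker δ
    have h1 := Submodule.finrank_mono hrle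
    have h0 : Module.finrank (ZMod p) (LinearMap.range δ) ≠ 0 := by
      intro h0
      rw [Submodule.finrank_eq_zero] at h0
      exact hw0 ((Submodule.eq_bot_iff _).1 h0 _ ⟨w0, rfl⟩)
    intro r
    obtain ⟨c, hc⟩ := exists_smul_eq_of_finrank_eq_one
      (show Module.finrank (ZMod p) (LinearMap.range δ) = 1 by omega)
      (show (⟨P, w0, rfl⟩ : LinearMap.range δ) ≠ 0 from fun h => hw0 (congrArg Subtype.val h))
      ⟨δ r, r, rfl⟩
    exact ⟨c, (congrArg Subtype.val hc).symm⟩
  have hdP : δ P = 0 := hsq w0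
  -- the image of the Sylow subgroup
  set f := (toEquiv σ).rangeRestrict
  haveI : Finite (W ≃ₗ[ZMod p] W) := Finite.of_injective _ DFunLike.coe_injective
  set PS := R.mapSurjective (toEquiv σ).rangeRestrict_surjective
  have hRx : ∀ γ ∈ (R : Subgroup Γ), ∃ n : ℕ, σ γ = σ x ^ n := fun γ hγ => by
    obtain ⟨n, hn⟩ := A.image_sylow hx hx1 γ hγ
    exact ⟨n, by rw [← map_pow]; exact hσρ _ _ (by rw [hn, map_pow])⟩
  have hcomm_mem : ∀ τ : Γ, σ τ ^ p = 1 → σ τ * σ x = σ x * σ τ → ∃ n : ℕ, σ τ = σ x ^ n := by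
    intro τ hτ hc
    have hz : IsPGroup p (Subgroup.zpowers (f τ)) := by
      rintro ⟨_, i, rfl⟩
      refine ⟨1, Subtype.ext ?_⟩
      show (f τ ^ i) ^ p ^ 1 = 1
      rw [pow_one, ← zpow_natCast, ← zpow_mul, mul_comm, zpow_mul, zpow_natCast,
        show f τ ^ p = 1 from Subtype.ext (by
          rw [SubmonoidClass.coe_pow]
          show toEquiv σ τ ^ p = 1
          rw [← map_pow, toEquiv_eq_one, map_pow, hτ]), one_zpow]
    have hle : Subgroup.zpowers (f τ) ≤
        Subgroup.normalizer ((PS : Subgroup (toEquiv σ).range) : Set (toEquiv σ).range) := by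
      refine Subgroup.zpowers_le.2 (Subgroup.mem_normalizer_iff_map_conj_eq.2
        (Subgroup.eq_of_le_of_card_ge ?_
          (Subgroup.card_map_of_injective (MulAut.conj (f τ)).injective).ge))
      rintro _ ⟨_, ⟨γ, hγ, rfl⟩, rfl⟩
      obtain ⟨n, hn⟩ := hRx γ hγ
      refine ⟨γ, hγ, Subtype.ext (LinearEquiv.ext fun z => ?_)⟩
      show σ γ z = σ τ (σ γ (σ τ⁻¹ z))
      rw [← Module.End.mul_apply, ← Module.End.mul_apply, hn,
        ((show Commute (σ τ) (σ x) from hc).pow_right n).eq, mul_assoc, ← map_mul, mul_inv_cancel,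
        map_one, mul_one]
    have heq : Subgroup.zpowers (f τ) ⊔ (PS : Subgroup (toEquiv σ).range) = PS :=
      PS.3 (hz.to_sup_of_normal_right' PS.2 hle) le_sup_right
    obtain ⟨γ, hγ, hγ'⟩ := (heq.le (Subgroup.mem_sup_left (Subgroup.mem_zpowers (f τ))) :
      f τ ∈ (PS : Subgroup (toEquiv σ).range))
    obtain ⟨n, hn⟩ := hRx γ hγ
    refine ⟨n, ?_⟩
    rw [← hn]
    exact LinearMap.ext fun z =>
      (DFunLike.congr_fun (congrArg Subtype.val hγ') z : toEquiv σ γ z = toEquiv σ τ z).symm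
  -- movement in one direction gives movement in both
  have hboth : ∀ a, δ (σ a P) ≠ 0 → δ (σ a⁻¹ P) ≠ 0 := by
    intro a ha hi
    set B : Module.End (ZMod p) W := σ a * δ * σ a⁻¹ with hB
    have hBz : ∀ z, B z = σ a (δ (σ a⁻¹ z)) := fun z => by rw [hB]; rfl
    have hy : ∀ z, σ (a * x * a⁻¹) z = z + B z := fun z => by
      rw [map_mul, map_mul, Module.End.mul_apply, Module.End.mul_apply, hd, map_add,
        rho_apply_inv, hBz]
    have hBd : ∀ z, B (δ z) = 0 := fun z => by
      obtain ⟨c, hc⟩ := hrange z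
      rw [hBz, hc, map_smul, map_smul, map_smul, hi, map_zero, smul_zero]
    have hBB : ∀ z, B (B z) = 0 := fun z => by
      rw [hBz (B z), hBz z, rho_inv_apply, hsq, map_zero]
    obtain ⟨y, hy'⟩ : ∃ y, a * x * a⁻¹ = y := ⟨_, rfl⟩
    rw [hy'] at hy
    have hτ : ∀ z, σ (y⁻¹ * x * y * x⁻¹) z = z + δ (B z) := by
      intro z
      obtain ⟨z, rfl⟩ : ∃ z', σ x z' = z := ⟨_, rho_apply_inv σ x z⟩
      refine rho_injective σ y ?_
      rw [← Module.End.mul_apply, ← map_mul, ← Module.End.mul_apply, ← map_mul,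
        show y * (y⁻¹ * x * y * x⁻¹) * x = x * y by group, map_mul, Module.End.mul_apply, hy z,
        hd (z + B z), hy, hd z]
      simp only [map_add, hBd, hBB, hsq, add_zero, map_zero, zero_add]
      abel
    set τ := y⁻¹ * x * y * x⁻¹
    have hτd : ∀ z, (σ τ - 1) z = δ (B z) := fun z => by
      rw [LinearMap.sub_apply, Module.End.one_apply, hτ, add_sub_cancel_left]
    have hτp : σ τ ^ p = 1 := LinearMap.ext fun z => by
      rw [pow_apply_of_sq (σ τ) (fun r => by rw [hτd, hτd, hBd, map_zero]) p z,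
        ZMod.natCast_self, zero_smul, add_zero, Module.End.one_apply]
    have hτc : σ τ * σ x = σ x * σ τ := LinearMap.ext fun z => by
      simp only [Module.End.mul_apply, hτ, hd, map_add, hBd, hsq, map_zero, add_zero, zero_add]
      abel
    obtain ⟨n, hn⟩ := hcomm_mem τ hτp hτc
    have hval : ∀ z, δ (B z) = (n : ZMod p) • δ z := fun z => by
      have h1 := LinearMap.congr_fun hn z
      rw [hτ, pow_apply_of_sq (σ x) hsq n z, ← hδ] at h1
      exact add_left_cancel h1
    have hn0 : (n : ZMod p) = 0 := by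
      have h1 := hval (σ a P)
      rw [hBz, rho_inv_apply, hdP, map_zero, map_zero, eq_comm, smul_eq_zero] at h1
      exact h1.resolve_right ha
    have h2 := hval (σ a w0)
    rw [hn0, zero_smul, hBz, rho_inv_apply] at h2
    exact ha h2
  -- a moving element
  obtain ⟨a, ha⟩ : ∃ a, δ (σ a P) ≠ 0 := by
    by_contra! h
    set U := Submodule.span (ZMod p) (Set.range fun γ => σ γ P)
    have hU : ∀ γ, ∀ u ∈ U, σ γ u ∈ U := fun γ u hu => by
      induction hu using Submodule.span_induction with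
      | mem u hu =>
        obtain ⟨γ', rfl⟩ := hu
        exact Submodule.subset_span ⟨γ * γ', show σ (γ * γ') P = _ by rw [map_mul]; rfl⟩
      | zero => rw [map_zero]; exact U.zero_mem
      | add _ _ _ _ hu hv => rw [map_add]; exact U.add_mem hu hv
      | smul c _ _ hu => rw [map_smul]; exact U.smul_mem c hu
    have hUd : ∀ u ∈ U, δ u = 0 := fun u hu => by
      induction hu using Submodule.span_induction with
      | mem u hu => obtain ⟨γ', rfl⟩ := hu; exact h γ'
      | zero => exact map_zero δ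
      | add _ _ _ _ hu hv => rw [map_add, hu, hv, add_zero]
      | smul c _ _ hu => rw [map_smul, hu, smul_zero]
    refine hσx (chain_trivial σ (by omega) hrad (L := ⊥) (U := U) bot_le
      (fun γ u hu => by rw [Submodule.mem_bot] at hu ⊢; rw [hu, map_zero]) hU (fun z => ?_)
      (fun u hu => by rw [Submodule.mem_bot, hd, hUd u hu, add_zero, sub_self])
      fun l hl => by rw [Submodule.mem_bot] at hl; rw [hl, map_zero])
    rw [hd, add_sub_cancel_left]
    obtain ⟨c, hc⟩ := hrange z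
    rw [hc]
    exact U.smul_mem c (Submodule.subset_span ⟨1, by simp⟩)
  have hi := hboth a ha
  -- the inverting element of determinant one
  set J : Subgroup Γ := (LinearMap.det.comp ρ).ker
  haveI hJn : J.Normal := MonoidHom.normal_ker _
  have hdet1 : LinearMap.det (ρ x) = 1 := by
    have h1 := congrArg LinearMap.det hTp
    rwa [map_pow, ZMod.pow_card, map_one] at h1
  have hxJ : x ∈ J := MonoidHom.mem_ker.2 hdet1
  obtain ⟨θ, hθJ, hθP, hθw, hθQ⟩ := exists_torus σ x a hw0 hdP hrange ha hi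
    (l := -1) (neg_ne_zero.2 one_ne_zero) J hxJ (hJn.conj_mem x hxJ a)
  set w := σ a P with hwdef
  rw [neg_smul, one_smul] at hθP
  rw [inv_neg, inv_one, neg_smul, one_smul] at hθw
  -- it commutes with the transvection
  have hθc : σ θ * σ x = σ x * σ θ := by
    refine LinearMap.ext fun z => ?_
    obtain ⟨c, hc⟩ := hrange w
    have hc0 : c ≠ 0 := fun h0 => ha (by rw [hc, h0, zero_smul])
    obtain ⟨s, hs⟩ := hrange (σ a⁻¹ P)
    have hs0 : s ≠ 0 := fun h0 => hi (by rw [hs, h0, zero_smul])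
    obtain ⟨e, he⟩ := hrange z
    set u := z - (e / c) • w with hu
    have hu0 : δ u = 0 := by
      rw [hu, map_sub, map_smul, he, hc, smul_smul, div_mul_cancel₀ _ hc0, sub_self]
    obtain ⟨g, hg⟩ := hrange (σ a⁻¹ u)
    set q := u - (g / s) • P with hq
    have hq0 : δ q = 0 := by rw [hq, map_sub, map_smul, hu0, hdP, smul_zero, sub_zero]
    have hq1 : δ (σ a⁻¹ q) = 0 := by
      rw [hq, map_sub, map_sub, map_smul, map_smul, hg, hs, smul_smul, div_mul_cancel₀ _ hs0,
        sub_self]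
    have hz : z = (e / c) • w + (g / s) • P + q := by rw [hq, hu]; abel
    rw [hz]
    simp only [Module.End.mul_apply, hd, map_add, map_smul, hθP, hθw, hθQ q hq0 hq1, hc, hdP,
      hq0, map_neg, smul_zero, add_zero, neg_zero, map_zero, smul_neg, smul_smul]
    try abel
  -- adjusted to normalise the Sylow subgroup
  set L : Subgroup Γ := J ⊓
    (Subgroup.zpowers (toEquiv σ x)).comap (toEquiv σ) with hL
  have hker : ∀ γ, ρ γ = 1 → γ ∈ L := fun γ h => ⟨MonoidHom.mem_ker.2 (by
    show LinearMap.det (ρ γ) = 1; rw [h, map_one]), by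
      show toEquiv σ γ ∈ Subgroup.zpowers (toEquiv σ x)
      rw [toEquiv_eq_one.2 (hσ γ h)]
      exact Subgroup.one_mem _⟩
  have hxL : x ∈ L := ⟨hxJ, Subgroup.mem_zpowers _⟩
  have hRL : (R : Subgroup Γ) ≤ L := fun γ hγ => by
    obtain ⟨n, hn⟩ := A.image_sylow hx hx1 γ hγ
    have h1 : γ * (x ^ n)⁻¹ ∈ L := hker _ (by
      rw [map_mul, hn, ← map_pow, ← map_mul, mul_inv_cancel, map_one])
    have h2 := L.mul_mem h1 (L.pow_mem hxL n)
    rwa [inv_mul_cancel_right] at h2
  have hθσ : toEquiv σ θ * toEquiv σ x = toEquiv σ x * toEquiv σ θ :=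
    LinearEquiv.ext fun z => LinearMap.congr_fun hθc z
  have hθL : ∀ γ ∈ L, θ * γ * θ⁻¹ ∈ L := fun γ hγ => ⟨hJn.conj_mem γ hγ.1 θ, by
    show toEquiv σ (θ * γ * θ⁻¹) ∈ Subgroup.zpowers (toEquiv σ x)
    obtain ⟨i, hi'⟩ := Subgroup.mem_zpowers_iff.1 (show toEquiv σ γ ∈ _ from hγ.2)
    rw [map_mul, map_mul, map_inv, ← hi',
      ((show Commute (toEquiv σ θ) (toEquiv σ x) from hθσ).zpow_right i).eq, mul_inv_cancel_right]
    exact Subgroup.zpow_mem _ (Subgroup.mem_zpowers _) i⟩
  obtain ⟨m, hm⟩ := MulAction.exists_smul_eq L ((MulAut.conj θ • R).subtype (by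
      rintro _ ⟨γ, hγ, rfl⟩
      exact hθL γ (hRL hγ))) (R.subtype hRL)
  set θ' := (m : Γ) * θ with hθ'
  have hθ'x : θ' * x * θ'⁻¹ ∈ (R : Subgroup Γ) := by
    have h1 : (⟨θ * x * θ⁻¹, hθL x hxL⟩ : L) ∈
        (((MulAut.conj θ • R).subtype (by
          rintro _ ⟨γ, hγ, rfl⟩
          exact hθL γ (hRL hγ)) : Sylow p L) : Subgroup L) := ⟨x, hx, rfl⟩
    have h2 : MulAut.conj m (⟨θ * x * θ⁻¹, hθL x hxL⟩ : L) ∈ ((R.subtype hRL : Sylow p L) :
        Subgroup L) := by
      rw [← hm, Sylow.coe_subgroup_smul]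
      exact Subgroup.smul_mem_pointwise_smul _ _ _ h1
    have h3 : ((MulAut.conj m (⟨θ * x * θ⁻¹, hθL x hxL⟩ : L) : L) : Γ) ∈ (R : Subgroup Γ) := h2
    rw [hθ', mul_inv_rev, show (m : Γ) * θ * x * (θ⁻¹ * (m : Γ)⁻¹) =
      (m : Γ) * (θ * x * θ⁻¹) * (m : Γ)⁻¹ by group]
    exact h3
  obtain ⟨i, hi'⟩ := Subgroup.mem_zpowers_iff.1 (show toEquiv σ (m : Γ) ∈ _ from m.2.2)
  have hmc : toEquiv σ θ' * toEquiv σ x = toEquiv σ x * toEquiv σ θ' := by
    rw [hθ', map_mul, mul_assoc, hθσ, ← mul_assoc, ← hi', ← zpow_add_one, add_comm, zpow_one_add,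
      mul_assoc]
  obtain ⟨n, hn⟩ := A.image_sylow hx hx1 _ hθ'x
  have hn1 : (n : ZMod p) = 1 := by
    have h1 : σ (θ' * x * θ'⁻¹) = σ (x ^ n) := hσρ _ _ (by rw [hn, map_pow])
    have h2 : σ (θ' * x * θ'⁻¹) = σ x := by
      refine LinearMap.ext fun z => ?_
      have h3 := DFunLike.congr_fun (mul_inv_eq_of_eq_mul hmc) z
      rw [← map_inv, ← map_mul, ← map_mul] at h3
      exact h3
    rw [h2, map_pow] at h1
    have h4 := LinearMap.congr_fun h1 w0
    rw [pow_apply_of_sq (σ x) hsq n, hd, ← hδ, add_right_inj] at h4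
    by_contra hne
    have h5 : (1 - (n : ZMod p)) • δ w0 = 0 := by rw [sub_smul, one_smul, ← h4, sub_self]
    exact hw0 ((smul_eq_zero.1 h5).resolve_left (sub_ne_zero.2 (Ne.symm hne)))
  have hρc : Commute (ρ θ') (ρ x - 1) := by
    suffices h : ρ θ' * ρ x = ρ x * ρ θ' from
      Commute.sub_right (show Commute (ρ θ') (ρ x) from h) (Commute.one_right _)
    have h1 : ρ x ^ n = ρ x := by
      have h2 : n % p = 1 := by
        have h3 := congrArg ZMod.val hn1
        rwa [ZMod.val_natCast, ZMod.val_one] at h3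
      rw [← Nat.div_add_mod n p, h2, pow_succ, pow_mul, hTp, one_pow, one_mul]
    rw [h1, map_mul, map_mul] at hn
    have h2 := congrArg (· * ρ θ') hn
    simp only [mul_assoc, ← map_mul ρ θ'⁻¹, inv_mul_cancel, map_one, mul_one] at h2
    rw [← h2]
  obtain ⟨c, hc⟩ := b.exists_scalar hp5 hρc
  have hdet : LinearMap.det (ρ θ') = 1 := MonoidHom.mem_ker.1 (J.mul_mem m.2.1 hθJ)
  have hc3 : c ^ 3 = 1 := by
    have h1 := congrArg LinearMap.det hc
    rw [map_pow, hdet, one_pow, LinearMap.det_smul, map_one, mul_one, b.dim] at h1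
    exact h1.symm
  have hρ3 : σ θ' ^ (p * 3) = 1 := by
    rw [← map_pow]
    refine hσ _ ?_
    rw [map_pow, pow_mul, hc, smul_pow, hc3, one_pow, one_smul]
  have hθ'P : σ θ' P = -P := by
    rw [hθ', map_mul, Module.End.mul_apply, hθP, map_neg, neg_inj]
    have h1 : toEquiv σ x P = P := by rw [toEquiv_apply, hd, hdP, add_zero]
    have key : ∀ j : ℤ, (toEquiv σ x ^ j) P = P := by
      intro j
      induction j with
      | zero => rfl
      | succ j ih => rw [zpow_add_one, LinearEquiv.mul_apply, h1, ih]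
      | pred j ih =>
        rw [zpow_sub_one, LinearEquiv.mul_apply,
          show (toEquiv σ x)⁻¹ P = P from (LinearEquiv.symm_apply_eq _).2 h1.symm, ih]
    rw [← toEquiv_apply (ρ := σ), ← hi', key]
  have hpow : ∀ j : ℕ, (σ θ' ^ j) P = (-1 : ZMod p) ^ j • P := by
    intro j
    induction j with
    | zero => simp
    | succ j ih =>
      rw [pow_succ', Module.End.mul_apply, ih, map_smul, hθ'P, pow_succ, mul_smul, neg_smul,
        one_smul]
  have h1 := hpow (p * 3)
  have hodd : Odd (p * 3) := (hp.1.odd_of_ne_two (by omega)).mul (by decide)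
  rw [hρ3, Module.End.one_apply, hodd.neg_one_pow, neg_smul, one_smul, eq_neg_iff_add_eq_zero,
    ← two_smul (ZMod p)] at h1
  refine hw0 ((smul_eq_zero.1 h1).resolve_left fun h2 => ?_)
  have h2' : ((2 : ℕ) : ZMod p) = 0 := by exact_mod_cast h2
  have := Nat.le_of_dvd (by norm_num) ((ZMod.natCast_eq_zero_iff 2 p).1 h2')
  omega

end CfsgLib.Fusion.RankThree
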