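import Cfsg.Agent.Lib.Fusion.RankThree.NormalEss
import Cfsg.Agent.Lib.Fusion.RankThree.ModuleJordan

/-!
# A normal essential subgroup with a single Jordan block on its Frattini quotient
-/

set_option autoImplicit false
set_option linter.unusedSectionVars false
set_option linter.style.haveILetI false

namespace CfsgLib.Fusion.RankThree

open Cfsg Cfsg.FusionSystem CfsgLib.Fusion
open scoped commutatorElement

universe u

variable {p : ℕ} [hp : Fact p.Prime]

section
variable {X : Type u} [Group X] [Finite X] {V : Type u} [AddCommGroup V] [Module (ZMod p) V]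
  {E : Subgroup X} {s : SecMap p E (step p E E) V} {x : X} {T : Module.End (ZMod p) V} {v : V}

/-- The Frattini subgroup of the whole group is the preimage of the image of the block. -/
theorem mem_frattini_iff_of_block (hn : E.Normal) (hi : E.index = p) (hx : x ∉ E)
    (hT : ∀ a ∈ E, T (s.π a) = s.π (x * a * x⁻¹)) (b : Block (T - 1) v) {a : X} :
    a ∈ step p (⊤ : Subgroup X) ⊤ ↔ a ∈ E ∧ (T - 1) ((T - 1) (s.π a)) = 0 := by
  haveI := hn
  have htop := sup_eq_top_of_index hi hx
  have hcE : ∀ a ∈ E, ∀ y : X, ⁅y, a⁆ ∈ E := fun a ha y => by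
    rw [commutatorElement_def]
    exact E.mul_mem (hn.conj_mem a ha y) (E.inv_mem ha)
  obtain ⟨N, hN, hmem⟩ := s.exists_kerSub hn htop (fun e he a ha => s.conj_eq ha he) hT
    ((T - 1) * (T - 1)) (((Commute.refl T).sub_left (Commute.one_left T)).mul_left
      ((Commute.refl T).sub_left (Commute.one_left T)))
  constructor
  · have hxE : ∀ e ∈ E, ⁅x, e⁆ ∈ N := fun e he => (hmem _).2 ⟨hcE e he x, by
      rw [s.map_comm_left hn hT he, Module.End.mul_apply, b.d3]⟩
    have hEE : ∀ a ∈ E, ∀ e ∈ E, ⁅a, e⁆ ∈ N := fun a ha e he => (hmem _).2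
      ⟨hcE e he a, by rw [(s.map_eq_zero _ (hcE e he a)).2 (comm_mem_step ha he), map_zero]⟩
    have hx' : ∀ y, ⁅x, y⁆ ∈ N := comm_top_mem hN htop
      (by rw [commutatorElement_self]; exact N.one_mem) hxE
    have hE' : ∀ a ∈ E, ∀ y, ⁅a, y⁆ ∈ N := fun a ha =>
      comm_top_mem hN htop (comm_mem_swap (hxE a ha)) (hEE a ha)
    have hall : ∀ a y : X, ⁅a, y⁆ ∈ N := fun a =>
      comm_top_mem hN htop (comm_mem_swap (hx' a)) fun e he => comm_mem_swap (hE' e he a)
    have hle : step p (⊤ : Subgroup X) ⊤ ≤ N := by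
      refine step_le (fun a _ b _ => hall a b) fun a _ => ?_
      obtain ⟨e, he, i, rfl⟩ := exists_dec htop a
      have h1 := mul_pow_mem hN (hall e (x ^ i)) p
      have h2 : e ^ p * (x ^ i) ^ p ∈ N := by
        refine N.mul_mem ((hmem _).2 ⟨E.pow_mem he p, ?_⟩) ?_
        · rw [(s.map_eq_zero _ (E.pow_mem he p)).2 (s.pow_mem he), map_zero]
        · rw [← pow_mul, mul_comm, pow_mul]
          refine N.pow_mem ?_ i
          have hxp : x ^ p ∈ E := hi ▸ E.pow_index_mem x
          refine (hmem _).2 ⟨hxp, ?_⟩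
          rw [Module.End.mul_apply, ← s.map_comm_left hn hT hxp,
            commutatorElement_eq_one_iff_mul_comm.2 (pow_succ' x p ▸ pow_succ x p), s.map_one,
            map_zero]
      have h3 := N.mul_mem h2 h1
      rwa [mul_inv_cancel_left] at h3
    intro h
    exact (hmem a).1 (hle h)
  · rintro ⟨ha, h⟩
    obtain ⟨w, hw⟩ := b.mem_range.2 h
    obtain ⟨c, hc, rfl⟩ := s.surj w
    rw [← s.map_comm_left hn hT hc] at hw
    have h1 := (s.eq_iff (hcE c hc x) ha).1 hw
    have h3 := (step p (⊤ : Subgroup X) ⊤).mul_mem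
      (comm_mem_step (p := p) (Subgroup.mem_top x) (Subgroup.mem_top c))
      (step_mono le_top le_top h1)
    rwa [mul_inv_cancel_left] at h3

end

variable {Ω : Type u} [Group Ω] {S : Subgroup Ω} [Finite S]
  {F : FusionSystem S} {E : Subgroup Ω}

/-- What a single Jordan block gives about the position of the subgroup in the whole group. -/
structure JFacts (F : FusionSystem S) (p : ℕ) (E : Subgroup Ω) : Prop where
  cardS : (frattini ↥S).index = p ^ 2
  cardE : Nat.card E * p = Nat.card S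
  phiS_le : phi S ≤ E
  omega : (∀ a ∈ omegaZ p E, ∀ y ∈ S, a * y = y * a) ∨
    (Nat.card (omegaZ p E) = p ^ 3 ∧
      ∀ y ∈ S, y ∉ E → ∃ a ∈ omegaZ p E, ⁅⁅a, y⁆, y⁆ ≠ 1)
  move : ∀ W ≤ E, S ≤ Subgroup.normalizer (W : Set Ω) → ¬ W ≤ phi E →
    ∃ γ ∈ F.autGroup E, ∃ a ∈ W, autFun γ a ∉ phi S
  whole : ∀ W ≤ E, S ≤ Subgroup.normalizer (W : Set Ω) → ¬ W ≤ phi S → W = E

variable {V : Type u} [AddCommGroup V] [Module (ZMod p) V]
  {s : SecMap p (E0 S E) (step p (E0 S E) (E0 S E)) V}
  {ρ : F.autGroup E →* Module.End (ZMod p) V} {R : Sylow p (F.autGroup E)}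
  {H : Subgroup (F.autGroup E)} {x : normalizerIn S E} {γx : F.autGroup E}
  {hle : E ≤ normalizerIn S E}

set_option maxHeartbeats 1600000 in
theorem Base.jfacts (B : Base hle s ρ R H x γx) (hn : S ≤ Subgroup.normalizer (E : Set Ω)) {v : V}
    (b : Block (ρ γx - 1) v) : JFacts F p E := by
  haveI := B.finiteX
  haveI := B.normal
  haveI := finite_mulAut (P := E) B.ess.1.1
  haveI : Finite E := finite_of_le B.ess.1.1
  haveI := s.finite
  have hES := B.ess.1.1
  have hNS : normalizerIn S E = S := normalizerIn_eq hn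
  have hpE : IsPGroup p E := isPGroup_of_le hES B.pS
  set δ := ρ γx - 1 with hδ
  have hKn : (step p (E0 S E) (E0 S E)).Normal := step_normal
  have hmemD := fun {a : (normalizerIn S E)} => mem_frattini_iff_of_block B.normal B.index B.notMem B.act b (a := a)
  have hphiS : phi S = (step p (⊤ : Subgroup (normalizerIn S E)) ⊤).map (normalizerIn S E).subtype := phi_top hNS B.pS
  have hphiE : phi E = (step p (E0 S E) (E0 S E)).map (normalizerIn S E).subtype := phi_eq hpE hle
  have hphimem : ∀ {a : (normalizerIn S E)}, (a : Ω) ∈ phi S → a ∈ step p (⊤ : Subgroup (normalizerIn S E)) ⊤ := by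
    intro a ha
    rw [hphiS] at ha
    exact (Subgroup.mem_map_iff_mem (normalizerIn S E).subtype_injective).1 ha
  have hsub : ∀ {W : Subgroup Ω}, S ≤ Subgroup.normalizer (W : Set Ω) →
      (W.subgroupOf (normalizerIn S E)).Normal := fun hW =>
    ⟨fun a ha y => (Subgroup.mem_normalizer_iff.1 (hW (hNS.le y.2)) a).1 ha⟩
  have hcomm : ∀ {W : Subgroup (normalizerIn S E)}, W.Normal → ∀ a ∈ W, ⁅x, a⁆ ∈ W := fun hW a ha => by
    rw [commutatorElement_def]
    exact Subgroup.mul_mem _ (hW.conj_mem a ha x) (Subgroup.inv_mem _ ha)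
  refine ⟨?_, ?_, ?_, ?_, ?_, ?_⟩
  · -- the index of the Frattini subgroup
    rw [frattini_index_eq hNS B.pS]
    have hU2 : Module.finrank (ZMod p) (LinearMap.range δ) = 2 := by
      have h1 := LinearMap.finrank_range_add_finrank_ker δ
      have h2 : Module.finrank (ZMod p) (LinearMap.ker δ) = 1 := by
        have hk : LinearMap.ker δ = Submodule.span (ZMod p) {δ (δ v)} := by
          refine le_antisymm (fun u hu => ?_) ?_
          · obtain ⟨e, rfl⟩ := b.eq_smul_of_ker hu
            exact Submodule.smul_mem _ e (Submodule.mem_span_singleton_self _)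
          · rw [Submodule.span_singleton_le_iff_mem]
            exact b.d3 v
        rw [hk, finrank_span_singleton b.ne]
      rw [b.dim] at h1
      omega
    set U := LinearMap.range δ
    let D := step p (⊤ : Subgroup (normalizerIn S E)) ⊤
    classical
    obtain ⟨f, hf⟩ : ∃ f : D →* Multiplicative U, ∀ a : D, ((f a).toAdd : V) = s.π (a : (normalizerIn S E)) :=
      ⟨MonoidHom.mk' (fun a => Multiplicative.ofAdd
        (⟨s.π (a : (normalizerIn S E)), b.mem_range.2 (hmemD.1 a.2).2⟩ : U)) fun a c =>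
          congrArg Multiplicative.ofAdd (Subtype.ext
            (s.map_mul _ (hmemD.1 a.2).1 _ (hmemD.1 c.2).1)), fun a => rfl⟩
    have hsur : Function.Surjective f := fun u => by
      obtain ⟨a, ha, h⟩ := s.surj (u.toAdd : V)
      have haD : a ∈ D := hmemD.2 ⟨ha, by rw [h]; exact b.mem_range.1 u.toAdd.2⟩
      exact ⟨⟨a, haD⟩, Multiplicative.toAdd.injective (Subtype.ext ((hf _).trans h))⟩
    have hker : f.ker = (step p (E0 S E) (E0 S E)).subgroupOf D := by
      ext a
      rw [MonoidHom.mem_ker, Subgroup.mem_subgroupOf, ← s.map_eq_zero _ (hmemD.1 a.2).1, ← hf]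
      exact ⟨fun h => by rw [h]; rfl, fun h => Multiplicative.toAdd.injective (Subtype.ext h)⟩
    have hUc : Nat.card U = p ^ 2 := by
      rw [Module.natCard_eq_pow_finrank (K := ZMod p), Nat.card_zmod, hU2]
    have h1 := f.ker.card_mul_index
    rw [Subgroup.index_ker, MonoidHom.range_eq_top.2 hsur, Subgroup.card_top, hker,
      Nat.card_congr (Subgroup.subgroupOfEquivOfLe
        (show step p (E0 S E) (E0 S E) ≤ D from step_mono le_top le_top)).toEquiv,
      Nat.card_congr Multiplicative.toAdd, hUc] at h1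
    have h2 := s.card_mul
    rw [Module.natCard_eq_pow_finrank (K := ZMod p), Nat.card_zmod, B.setup.dim] at h2
    have h3 := (E0 S E).card_mul_index
    rw [B.index, ← h2, ← D.card_mul_index, ← h1] at h3
    refine Nat.eq_of_mul_eq_mul_left (Nat.pos_of_ne_zero (mul_ne_zero
      (Nat.card_pos (α := step p (E0 S E) (E0 S E))).ne' (pow_ne_zero 2 hp.1.ne_zero))) ?_
    rw [← h3]
    ring
  · have h1 := (E0 S E).card_mul_index
    rw [B.index, Nat.card_congr (Subgroup.subgroupOfEquivOfLe hle).toEquiv] at h1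
    rw [h1, hNS]
  · rw [hphiS]
    rintro _ ⟨a, ha, rfl⟩
    exact (hmemD.1 ha).1
  · -- the central elements of order `p`
    have hAn : S ≤ Subgroup.normalizer (omegaZ p E : Set Ω) := by
      intro g hg
      haveI : Finite (omegaZ p E) := finite_of_le ((show omegaZ p E ≤ E from fun a ha => ha.1).trans hES)
      refine Subgroup.mem_normalizer_iff_map_conj_eq.2 (Subgroup.eq_of_le_of_card_ge ?_
        (Subgroup.card_map_of_injective (MulAut.conj g).injective).ge)
      rintro _ ⟨a, ha, rfl⟩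
      obtain ⟨β, hβ, e⟩ := exists_autInducedBy (P := E) hg (hn hg)
      have h1 := autFun_omegaZ (p := p) β ha
      rw [e a ha.1] at h1
      exact h1
    set A := (omegaZ p E).subgroupOf (normalizerIn S E) with hA
    haveI hAN : A.Normal := hsub hAn
    obtain ⟨W, _, _, ⟨sA⟩⟩ := exists_secMap (p := p) (A := A) (B := ⊥) bot_le
      (fun a _ c hc => by rw [Subgroup.mem_bot] at hc ⊢; rw [hc]; group)
      (fun a ha c hc => Subgroup.mem_bot.2 (commutatorElement_eq_one_iff_mul_comm.2
        (Subtype.ext ((mem_omegaZ.1 ha).2.2 c (mem_omegaZ.1 hc).1))))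
      (fun a ha => Subgroup.mem_bot.2 (Subtype.ext (mem_omegaZ.1 ha).2.1))
    haveI := sA.finite
    have hinA : ∀ γ : MulAut E, ∀ a ∈ A, lift hle γ a ∈ A := fun γ a ha => by
      show ((lift hle γ a : (normalizerIn S E)) : Ω) ∈ omegaZ p E
      rw [lift_val hle γ (mem_omegaZ.1 ha).1]
      exact autFun_omegaZ γ ha
    have hex : ∀ γ : F.autGroup E, ∃ T : Module.End (ZMod p) W,
        ∀ a ∈ A, T (sA.π a) = sA.π (lift hle (γ : MulAut E) a) := fun γ =>
      sA.exists_linear sA (lift hle (γ : MulAut E)) (hinA _)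
        (fun c hc => by
          rw [Subgroup.mem_bot] at hc ⊢
          refine Subtype.ext ?_
          rw [lift_val hle _ (by rw [hc]; exact E.one_mem), hc, Subgroup.coe_one]
          exact (isMor_autFun hES γ.2).map_one)
        fun a ha c hc => lift_mul hle _ (mem_omegaZ.1 ha).1 (mem_omegaZ.1 hc).1
    choose T hT using hex
    let σ : F.autGroup E →* Module.End (ZMod p) W :=
      { toFun := T
        map_one' := LinearMap.ext fun w => by
          obtain ⟨a, ha, rfl⟩ := sA.surj w
          rw [hT 1 a ha, Module.End.one_apply]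
          congr 1
          refine Subtype.ext ?_
          rw [lift_val hle _ (mem_omegaZ.1 ha).1]
          exact autFun_one (mem_omegaZ.1 ha).1
        map_mul' := fun γ γ' => LinearMap.ext fun w => by
          obtain ⟨a, ha, rfl⟩ := sA.surj w
          rw [Module.End.mul_apply, hT γ' a ha, hT γ _ (hinA _ a ha), hT (γ * γ') a ha,
            B.lift_comp γ γ' (show a ∈ E0 S E from (mem_omegaZ.1 ha).1)] }
    have hσ : ∀ γ : F.autGroup E, ∀ a ∈ A, σ γ (sA.π a) = sA.π (lift hle (γ : MulAut E) a) := hT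
    have hσker : ∀ γ, ρ γ = 1 → σ γ = 1 := fun γ hγ => by
      obtain ⟨e, he, hee⟩ := mem_inn.1 (B.hker γ hγ)
      refine LinearMap.ext fun w => ?_
      obtain ⟨a, ha, rfl⟩ := sA.surj w
      rw [hσ γ a ha, Module.End.one_apply]
      congr 1
      refine Subtype.ext ?_
      rw [lift_val hle _ (mem_omegaZ.1 ha).1]
      refine (hee _ (mem_omegaZ.1 ha).1).trans ?_
      show e * (a : Ω) * e⁻¹ = (a : Ω)
      rw [show e * (a : Ω) = (a : Ω) * e from ((mem_omegaZ.1 ha).2.2 e he).symm,
        mul_inv_cancel_right]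
    have hconj : ∀ i : ℕ, ∀ a ∈ A, (σ γx ^ i) (sA.π a) = sA.π (x ^ i * a * (x ^ i)⁻¹) := fun i =>
      sA.conj_pow_eq hAN (fun a ha => by
        rw [hσ γx a ha, B.conj_x a (mem_omegaZ.1 ha).1]) i
    have hz0 : ∀ a ∈ A, sA.π a = 0 → a = 1 := fun a ha h =>
      Subgroup.mem_bot.1 ((sA.map_eq_zero a ha).1 h)
    by_cases hσx : σ γx = 1
    · refine Or.inl fun a ha y hy => ?_
      obtain ⟨e, he, i, hei⟩ := exists_dec (sup_eq_top_of_index B.index B.notMem)
        (⟨y, hNS.ge hy⟩ : (normalizerIn S E))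
      set a' : (normalizerIn S E) := ⟨a, hle ha.1⟩
      have h1 := hconj i a' ha
      rw [hσx, one_pow, Module.End.one_apply, sA.eq_iff ha (hAN.conj_mem a' ha _), Subgroup.mem_bot,
        inv_mul_eq_one] at h1
      have h2 : (x : Ω) ^ i * a * ((x : Ω) ^ i)⁻¹ = a := (congrArg Subtype.val h1).symm
      have h3 : y = (e : Ω) * (x : Ω) ^ i := congrArg Subtype.val hei
      rw [h3, ← mul_assoc, ha.2.2 e he, mul_assoc, ← (mul_inv_eq_iff_eq_mul.1 h2), mul_assoc]
    · obtain ⟨w, bA⟩ := B.setup.jordan_on_module B.p5 B.mem_R b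
        (sA.finrank_le B.rankX) hσker hσx
      refine Or.inr ⟨?_, fun y hy hyE => ?_⟩
      · have h1 := sA.card_mul
        rw [Subgroup.card_bot, mul_one, Module.natCard_eq_pow_finrank (K := ZMod p), Nat.card_zmod,
          bA.dim, Nat.card_congr (Subgroup.subgroupOfEquivOfLe
            ((show omegaZ p E ≤ E from fun a ha => ha.1).trans hle)).toEquiv] at h1
        exact h1.symm
      · obtain ⟨e, he, i, hei⟩ := exists_dec (sup_eq_top_of_index B.index B.notMem)
          (⟨y, hNS.ge hy⟩ : (normalizerIn S E))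
        by_contra! hall
        set y' : (normalizerIn S E) := ⟨y, hNS.ge hy⟩
        set Ti := σ γx ^ i with hTi
        have hyc : ∀ a ∈ A, sA.π (y' * a * y'⁻¹) = Ti (sA.π a) := fun a ha => by
          rw [hTi, hconj i a ha]
          congr 1
          have hxa := hAN.conj_mem a ha (x ^ i)
          rw [hei]
          refine Subtype.ext ?_
          show (e : Ω) * (x : Ω) ^ i * a * ((e : Ω) * (x : Ω) ^ i)⁻¹ =
            (x : Ω) ^ i * a * ((x : Ω) ^ i)⁻¹
          have hc := (mem_omegaZ.1 hxa).2.2 e he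
          change (x : Ω) ^ i * (a : Ω) * ((x : Ω) ^ i)⁻¹ * (e : Ω) =
            (e : Ω) * ((x : Ω) ^ i * (a : Ω) * ((x : Ω) ^ i)⁻¹) at hc
          rw [show (e : Ω) * (x : Ω) ^ i * a * ((e : Ω) * (x : Ω) ^ i)⁻¹ =
            (e : Ω) * ((x : Ω) ^ i * a * ((x : Ω) ^ i)⁻¹) * (e : Ω)⁻¹ by group, ← hc,
            mul_inv_cancel_right]
        have hcA : ∀ a ∈ A, ⁅a, y'⁆ ∈ A ∧ sA.π ⁅a, y'⁆ = (1 - Ti) (sA.π a) := fun a ha => by
          have h1 : y' * a⁻¹ * y'⁻¹ ∈ A := hAN.conj_mem _ (A.inv_mem ha) y'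
          have e1 : ⁅a, y'⁆ = a * (y' * a⁻¹ * y'⁻¹) := by group
          rw [e1]
          refine ⟨A.mul_mem ha h1, ?_⟩
          rw [sA.map_mul _ ha _ h1, hyc _ (A.inv_mem ha), sA.map_inv ha, map_neg,
            LinearMap.sub_apply, Module.End.one_apply, sub_eq_add_neg]
        have hsq : ∀ u, (Ti - 1) ((Ti - 1) u) = 0 := by
          intro u
          obtain ⟨a, ha, rfl⟩ := sA.surj u
          have h1 := hcA a ha
          have h2 := hcA _ h1.1
          have h3 : ⁅⁅a, y'⁆, y'⁆ = 1 := Subtype.ext (by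
            simpa [commutatorElement_def] using hall a ha)
          rw [h3, sA.map_one, h1.2] at h2
          rw [show Ti - 1 = -(1 - Ti) by abel, LinearMap.neg_apply, LinearMap.neg_apply, map_neg,
            neg_neg]
          exact h2.2.symm
        have hpi : ¬ p ∣ i := by
          rintro ⟨c, rfl⟩
          refine hyE ?_
          have h4 : y' ∈ E0 S E := by
            rw [hei]
            refine (E0 S E).mul_mem he ?_
            rw [pow_mul]
            exact (E0 S E).pow_mem (B.index ▸ (E0 S E).pow_index_mem x) c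
          exact h4
        obtain ⟨m, -, hm⟩ := Nat.exists_mul_mod_eq_one_of_coprime
          (Nat.coprime_comm.1 (hp.1.coprime_iff_not_dvd.2 hpi)) hp.1.one_lt
        have hxp : σ γx ^ p = 1 := by
          rw [← map_pow]
          refine hσker _ ?_
          rw [map_pow, pow_p_of_cube (by have := B.p5; omega) _ b.cube]
        have hback : Ti ^ m = σ γx := by
          rw [hTi, ← pow_mul, ← Nat.div_add_mod (i * m) p, hm, pow_add, pow_mul, hxp, one_pow,
            one_mul, pow_one]
        have hlin : ∀ u, σ γx u - u = (m : ZMod p) • (Ti - 1) u := fun u => by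
          rw [← hback, pow_apply_of_sq Ti hsq, add_sub_cancel_left]
        refine bA.ne ?_
        have hd : ∀ u, (σ γx - 1) u = (m : ZMod p) • (Ti - 1) u := fun u => by
          rw [LinearMap.sub_apply, Module.End.one_apply, hlin]
        rw [hd, hd, map_smul, hsq, smul_zero, smul_zero]
  · -- moving
    intro W hWE hWn hW
    haveI hWN := hsub hWn
    set W' := W.subgroupOf (normalizerIn S E)
    obtain ⟨a, haW, haK⟩ : ∃ a, a ∈ W ∧ a ∉ phi E := by
      by_contra! h
      exact hW fun a ha => h a ha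
    set a' : (normalizerIn S E) := ⟨a, hle (hWE haW)⟩
    have haE : ∀ c ∈ W', c ∈ E0 S E := fun c hc => hWE hc
    have hne : s.π a' ≠ 0 := fun h => haK (by
      rw [hphiE]
      exact ⟨a', (s.map_eq_zero _ (haE _ haW)).1 h, rfl⟩)
    have hπc : ∀ c ∈ W', s.π ⁅x, c⁆ = δ (s.π c) := fun c hc =>
      s.map_comm_left B.normal B.act (haE c hc)
    obtain ⟨c, hcW, hc⟩ : ∃ c ∈ W', ∃ e : ZMod p, e ≠ 0 ∧ s.π c = e • δ (δ v) := by
      obtain ⟨i, j, k, hijk⟩ := b.coords (s.π a')
      by_cases hi : i = 0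
      · by_cases hj : j = 0
        · refine ⟨a', haW, k, fun hk => hne ?_, ?_⟩
          · rw [hijk, hi, hj, hk, zero_smul, zero_smul, zero_smul, add_zero, add_zero]
          · rw [hijk, hi, hj, zero_smul, zero_smul, zero_add, zero_add]
        · refine ⟨⁅x, a'⁆, hcomm hWN a' haW, j, hj, ?_⟩
          rw [hπc a' haW, hijk, hi, zero_smul, zero_add, map_add, map_smul, map_smul, b.d3,
            smul_zero, add_zero]
      · refine ⟨⁅x, ⁅x, a'⁆⁆, hcomm hWN _ (hcomm hWN a' haW), i, hi, ?_⟩
        rw [hπc _ (hcomm hWN a' haW), hπc a' haW, hijk]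
        simp only [map_add, map_smul, b.d3, smul_zero, add_zero, map_zero]
    obtain ⟨e, he, hce⟩ := hc
    obtain ⟨γ, hγ, -⟩ := exists_move_jordan ρ B.p5 B.setup.rad b
    refine ⟨γ, γ.2, c, hcW, fun hmem => hγ ?_⟩
    have h1 : lift hle (γ : MulAut E) c ∈ step p (⊤ : Subgroup (normalizerIn S E)) ⊤ := hphimem (by
      rw [lift_val hle _ (haE c hcW)]
      exact hmem)
    have h2 := (hmemD.1 h1).2
    rw [← B.hρ γ c (haE c hcW), hce, map_smul, map_smul, map_smul, smul_eq_zero] at h2
    exact h2.resolve_left he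
  · -- a large normal subgroup
    intro W hWE hWn hW
    haveI hWN := hsub hWn
    set W' := W.subgroupOf (normalizerIn S E)
    obtain ⟨a, haW, haD⟩ : ∃ a, a ∈ W ∧ a ∉ phi S := by
      by_contra! h
      exact hW fun a ha => h a ha
    set a' : (normalizerIn S E) := ⟨a, hle (hWE haW)⟩
    have haE : ∀ c ∈ W', c ∈ E0 S E := fun c hc => hWE hc
    have h2 : δ (δ (s.π a')) ≠ 0 := fun h => haD (by
      rw [hphiS]
      exact ⟨a', hmemD.2 ⟨hWE haW, h⟩, rfl⟩)
    have hπc : ∀ c ∈ W', s.π ⁅x, c⁆ = δ (s.π c) := fun c hc =>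
      s.map_comm_left B.normal B.act (haE c hc)
    have hKle : E0 S E ≤ step p (E0 S E) ⊤ ⊔ W' := by
      obtain ⟨i, j, k, hijk⟩ := b.coords (s.π a')
      have hi : i ≠ 0 := by
        rintro rfl
        exact h2 (by rw [hijk]; simp [b.d3])
      set Z := step p (E0 S E) ⊤ ⊔ W'
      have hKZ : step p (E0 S E) (E0 S E) ≤ Z := (step_mono le_rfl le_top).trans le_sup_left
      set c1 := ⁅x, a'⁆
      set c2 := ⁅x, c1⁆
      have hc1 : c1 ∈ W' := hcomm hWN a' haW
      have hc2 : c2 ∈ W' := hcomm hWN c1 hc1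
      intro z hz
      obtain ⟨i', j', k', hz'⟩ := b.coords (s.π z)
      set α := i' / i
      set β := (j' - α * j) / i
      set γ := (k' - α * k - β * j) / i
      set t := a' ^ α.val * c1 ^ β.val * c2 ^ γ.val
      have htW : t ∈ W' := W'.mul_mem (W'.mul_mem (W'.pow_mem haW _) (W'.pow_mem hc1 _))
        (W'.pow_mem hc2 _)
      have ht : s.π t = s.π z := by
        rw [s.map_mul _ (haE _ (W'.mul_mem (W'.pow_mem haW _) (W'.pow_mem hc1 _))) _
            (haE _ (W'.pow_mem hc2 _)), s.map_mul _ (haE _ (W'.pow_mem haW _)) _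
            (haE _ (W'.pow_mem hc1 _)), s.map_pow_cast (haE _ haW), s.map_pow_cast (haE _ hc1),
          s.map_pow_cast (haE _ hc2), ZMod.natCast_zmod_val, ZMod.natCast_zmod_val,
          ZMod.natCast_zmod_val, hπc _ hc1, hπc a' haW, hz', hijk]
        simp only [map_add, map_smul, b.d3, smul_zero, add_zero, map_zero, α, β, γ]
        match_scalars <;> field_simp <;> ring
      have h3 := hKZ ((s.eq_iff (haE t htW) hz).1 ht)
      have h4 := Z.mul_mem (Subgroup.mem_sup_right htW : t ∈ Z) h3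
      rwa [mul_inv_cancel_left] at h4
    refine le_antisymm hWE fun z hz => ?_
    exact le_of_le_step B.pX B.normal hWN hKle (show (⟨z, hle hz⟩ : (normalizerIn S E)) ∈ E0 S E from hz)

end CfsgLib.Fusion.RankThree
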