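import Cfsg.Agent.Lib.Fusion.RankThree.JordanFacts
import Cfsg.Agent.Lib.Fusion.Normal

/-!
# A system all of whose essential subgroups have a single Jordan block has a normal subgroup
-/

set_option autoImplicit false
set_option linter.unusedSectionVars false
set_option linter.style.haveILetI false

namespace CfsgLib.Fusion.RankThree

open Cfsg Cfsg.FusionSystem CfsgLib.Fusion
open scoped commutatorElement

universe u

variable {p : ℕ} [hp : Fact p.Prime] {Ω : Type u} [Group Ω] {S : Subgroup Ω} [Finite S]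
  {F : FusionSystem S}

/-- Commutators of elements of a subgroup lie in its Frattini subgroup. -/
theorem comm_mem_phi {P : Subgroup Ω} [Finite P] (hP : IsPGroup p P) {a b : Ω} (ha : a ∈ P)
    (hb : b ∈ P) : ⁅a, b⁆ ∈ phi P :=
  ⟨⁅(⟨a, ha⟩ : P), ⟨b, hb⟩⁆, CfsgLib.PGroups.commutator_le_frattini hP
    (Subgroup.commutator_mem_commutator (Subgroup.mem_top _) (Subgroup.mem_top _)),
    map_commutatorElement P.subtype _ _⟩

theorem card_phi_mul {P : Subgroup Ω} [Finite P] :
    Nat.card (phi P) * (frattini ↥P).index = Nat.card P := by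
  rw [phi, Subgroup.card_map_of_injective P.subtype_injective, Subgroup.card_mul_index]

/-- An elementary abelian subgroup has order at most `p ^ 3`. -/
theorem card_le_of_elementary (hrank : Cfsg.SectionalPRankLE p 3 S) {T : Subgroup Ω} (hT : T ≤ S)
    (hc : ∀ a ∈ T, ∀ b ∈ T, a * b = b * a) (hp' : ∀ a ∈ T, a ^ p = 1) :
    Nat.card T ≤ p ^ 3 := by
  obtain ⟨W, _, _, ⟨t⟩⟩ := exists_secMap (p := p) (A := T.subgroupOf S) (B := ⊥) bot_le
    (fun a _ c hc' => by rw [Subgroup.mem_bot] at hc' ⊢; rw [hc']; group)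
    (fun a ha c hc' => Subgroup.mem_bot.2 (commutatorElement_eq_one_iff_mul_comm.2
      (Subtype.ext (hc _ ha _ hc'))))
    (fun a ha => Subgroup.mem_bot.2 (Subtype.ext (hp' _ ha)))
  have h1 := t.card_le hrank
  have h2 := t.card_mul
  rw [Subgroup.card_bot, mul_one,
    Nat.card_congr (Subgroup.subgroupOfEquivOfLe hT).toEquiv] at h2
  omega

/-- Two commuting elementary subgroups of order `p ^ 3` coincide. -/
theorem eq_of_commute (hrank : Cfsg.SectionalPRankLE p 3 S) {A B : Subgroup Ω} (hA : A ≤ S)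
    (hB : B ≤ S) (hAc : ∀ a ∈ A, ∀ b ∈ A, a * b = b * a) (hBc : ∀ a ∈ B, ∀ b ∈ B, a * b = b * a)
    (hAp : ∀ a ∈ A, a ^ p = 1) (hBp : ∀ a ∈ B, a ^ p = 1)
    (hAB : ∀ a ∈ A, ∀ b ∈ B, a * b = b * a) (hcard : p ^ 3 ≤ Nat.card A) : B ≤ A := by
  let T : Subgroup Ω :=
    { carrier := {z | ∃ a ∈ A, ∃ b ∈ B, z = a * b}
      one_mem' := ⟨1, A.one_mem, 1, B.one_mem, (one_mul 1).symm⟩
      mul_mem' := by
        rintro _ _ ⟨a, ha, b, hb, rfl⟩ ⟨c, hc, d, hd, rfl⟩
        refine ⟨a * c, A.mul_mem ha hc, b * d, B.mul_mem hb hd, ?_⟩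
        exact (show Commute c b from hAB c hc b hb).symm.mul_mul_mul_comm a d
      inv_mem' := by
        rintro _ ⟨a, ha, b, hb, rfl⟩
        refine ⟨a⁻¹, A.inv_mem ha, b⁻¹, B.inv_mem hb, ?_⟩
        rw [mul_inv_rev]
        exact (show Commute a b from hAB a ha b hb).inv_inv.symm.eq }
  have hAT : A ≤ T := fun a ha => ⟨a, ha, 1, B.one_mem, (mul_one a).symm⟩
  have hBT : B ≤ T := fun b hb => ⟨1, A.one_mem, b, hb, (one_mul b).symm⟩
  have hTS : T ≤ S := by
    rintro _ ⟨a, ha, b, hb, rfl⟩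
    exact S.mul_mem (hA ha) (hB hb)
  have hle := card_le_of_elementary hrank hTS
    (by
      rintro _ ⟨a, ha, b, hb, rfl⟩ _ ⟨c, hc, d, hd, rfl⟩
      have e1 : Commute a (c * d) := (show Commute a c from hAc a ha c hc).mul_right
        (show Commute a d from hAB a ha d hd)
      have e2 : Commute b (c * d) := (show Commute b c from (hAB c hc b hb).symm).mul_right
        (show Commute b d from hBc b hb d hd)
      exact (e1.mul_left e2).eq)
    (by
      rintro _ ⟨a, ha, b, hb, rfl⟩
      rw [(show Commute a b from hAB a ha b hb).mul_pow, hAp a ha, hBp b hb, one_mul])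
  haveI : Finite T := finite_of_le hTS
  exact hBT.trans (Subgroup.eq_of_le_of_card_ge hAT (hle.trans hcard)).ge

/-- The Frattini subgroup of the whole group is invariant. -/
theorem autFun_phi (α : MulAut S) {a : Ω} (ha : a ∈ phi S) : autFun α a ∈ phi S := by
  obtain ⟨c, hc, rfl⟩ := ha
  exact ⟨α c, (Subgroup.characteristic_iff_map_eq.1
    (inferInstance : (frattini ↥S).Characteristic) α).le ⟨c, hc, rfl⟩, (autFun_coe α c).symm⟩

set_option maxHeartbeats 1600000 in
/-- All essential subgroups with a single block: some nontrivial subgroup is normal in the system. -/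
theorem exists_normal_of_jordan (hS : IsPGroup p S) (hrank : Cfsg.SectionalPRankLE p 3 S)
    (hF : F.IsSaturated p) (hSne : S ≠ ⊥)
    (hidx : ∀ E, F.IsEssential p E → (frattini ↥E).index = p ^ 3)
    (hnorm : ∀ E, F.IsEssential p E → S ≤ Subgroup.normalizer (E : Set Ω))
    (hJ : ∀ E, F.IsEssential p E → JFacts F p E) :
    ∃ Q, F.IsNormal Q ∧ Q ≠ ⊥ := by
  classical
  haveI : Nontrivial S := (Subgroup.nontrivial_iff_ne_bot S).2 hSne
  have hZ : ∃ z ∈ omegaZ p S, z ≠ 1 := by
    haveI := hS.center_nontrivial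
    have hd : p ∣ Nat.card (Subgroup.center S) :=
      (hS.to_subgroup _).card_eq_or_dvd.resolve_left fun h =>
        not_subsingleton (Subgroup.center S) (Nat.card_eq_one_iff_unique.1 h).1
    obtain ⟨z, hz⟩ := exists_prime_orderOf_dvd_card' p hd
    refine ⟨((z : S) : Ω), ⟨(z : S).2, ?_, fun e he => ?_⟩, fun h => ?_⟩
    · exact congrArg (fun z : Subgroup.center S => ((z : S) : Ω)) (hz ▸ pow_orderOf_eq_one z)
    · exact congrArg Subtype.val ((Subgroup.mem_center_iff.1 z.2 ⟨e, he⟩).symm)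
    · rw [show z = 1 from Subtype.ext (Subtype.ext h), orderOf_one] at hz
      exact hp.1.one_lt.ne hz
  obtain ⟨z, hz, hz1⟩ := hZ
  have hzE : ∀ E, F.IsEssential p E → z ∈ omegaZ p E := fun E hE =>
    ⟨centric_centralizer_le hE.1 (mem_centralizerIn.2 ⟨hz.1, fun y hy =>
      cj_fixed_iff.2 (hz.2.2 y (hE.1.1 hy))⟩), hz.2.1, fun e he => hz.2.2 e (hE.1.1 he)⟩
  by_cases hcen : ∀ E, F.IsEssential p E → ∀ a ∈ omegaZ p E, ∀ y ∈ S, a * y = y * a
  · -- all are central
    refine ⟨omegaZ p S, isNormal_of_invariant hS hF ?_, fun h => hz1 (Subgroup.mem_bot.1 (h ▸ hz))⟩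
    rintro P (rfl | hP)
    · exact ⟨fun a ha => ha.1, fun α _ a ha => autFun_omegaZ α ha⟩
    · have hle : omegaZ p S ≤ omegaZ p P := fun a ha =>
        ⟨centric_centralizer_le hP.1 (mem_centralizerIn.2 ⟨ha.1, fun y hy =>
          cj_fixed_iff.2 (ha.2.2 y (hP.1.1 hy))⟩), ha.2.1, fun e he => ha.2.2 e (hP.1.1 he)⟩
      refine ⟨hle.trans fun a ha => ha.1, fun α _ a ha => ?_⟩
      have h1 := autFun_omegaZ α (hle ha)
      exact ⟨hP.1.1 h1.1, h1.2.1, fun e he => hcen P hP _ h1 e he⟩
  push Not at hcen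
  obtain ⟨E, hE, a₀, ha₀, y₀, hy₀, hne₀⟩ := hcen
  have J := hJ E hE
  obtain ⟨hA3, hAmove⟩ := J.omega.resolve_left fun h => hne₀ (h a₀ ha₀ y₀ hy₀)
  set A := omegaZ p E with hAdef
  have hES := hE.1.1
  have hAE : A ≤ E := fun a ha => ha.1
  haveI : Finite E := finite_of_le hES
  have hpE : IsPGroup p E := isPGroup_of_le hES hS
  have hpS := hS
  have hAc : ∀ a ∈ A, ∀ b ∈ A, a * b = b * a := fun a ha b hb => ha.2.2 b hb.1
  have hAp : ∀ a ∈ A, a ^ p = 1 := fun a ha => ha.2.1
  have hAne : A ≠ ⊥ := fun h => by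
    rw [h, Subgroup.card_bot] at hA3
    exact absurd hA3.symm (Nat.one_lt_pow three_ne_zero hp.1.one_lt).ne'
  have hAn : S ≤ Subgroup.normalizer (A : Set Ω) := by
    intro g hg
    haveI : Finite A := finite_of_le (hAE.trans hES)
    refine Subgroup.mem_normalizer_iff_map_conj_eq.2 (Subgroup.eq_of_le_of_card_ge ?_
      (Subgroup.card_map_of_injective (MulAut.conj g).injective).ge)
    rintro _ ⟨a, ha, rfl⟩
    obtain ⟨β, -, e⟩ := exists_autInducedBy (P := E) hg (hnorm E hE hg)
    have h1 := autFun_omegaZ (p := p) β ha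
    rw [e a ha.1] at h1
    exact h1
  by_cases hAD : A ≤ phi S
  · -- the subgroup lies in the Frattini subgroup
    refine ⟨A, isNormal_of_invariant hS hF ?_, hAne⟩
    have hAS : A ≤ S := hAE.trans hES
    rintro P (hPeq | hP)
    · rw [hPeq]
      refine ⟨hAS, fun α hα a ha => ?_⟩
      let B : Subgroup Ω :=
        { carrier := {b | ∃ a ∈ A, autFun α a = b}
          one_mem' := ⟨1, A.one_mem, (isMor_autFun le_rfl hα).map_one⟩
          mul_mem' := by
            rintro _ _ ⟨a, ha, rfl⟩ ⟨c, hc, rfl⟩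
            exact ⟨a * c, A.mul_mem ha hc, autFun_map_mul α (hAS ha) (hAS hc)⟩
          inv_mem' := by
            rintro _ ⟨a, ha, rfl⟩
            exact ⟨a⁻¹, A.inv_mem ha, autFun_inv_map α (hAS ha)⟩ }
      refine eq_of_commute hrank hAS (B := B) ?_ hAc ?_ hAp ?_ ?_ hA3.ge ⟨a, ha, rfl⟩
      · rintro _ ⟨c, hc, rfl⟩; exact autFun_mem α (hAS hc)
      · rintro _ ⟨c, hc, rfl⟩ _ ⟨d, hd, rfl⟩
        rw [← autFun_map_mul α (hAS hc) (hAS hd), hAc c hc d hd, autFun_map_mul α (hAS hd) (hAS hc)]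
      · rintro _ ⟨c, hc, rfl⟩
        rw [autFun_of_mem α (hAS hc), ← SubgroupClass.coe_pow, ← map_pow,
          show (⟨c, hAS hc⟩ : S) ^ p = 1 from Subtype.ext (hAp c hc), map_one]
        rfl
      · rintro c hc _ ⟨d, hd, rfl⟩
        exact hc.2.2 _ (J.phiS_le (autFun_phi α (hAD hd)))
    · have J1 := hJ P hP
      have hAP : A ≤ P := hAD.trans J1.phiS_le
      refine ⟨hAP, fun α hα a ha => ?_⟩
      by_cases hPE : P = E
      · subst hPE
        exact autFun_omegaZ α ha
      have hPS := hP.1.1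
      haveI : Finite P := finite_of_le hPS
      -- the two subgroups meet in the Frattini subgroup
      have hmeet : ∀ b ∈ P, b ∈ E → b ∈ phi S := by
        intro b hbP hbE
        haveI : Finite (E ⊓ P : Subgroup Ω) := finite_of_le (inf_le_left.trans hES)
        have h1 : phi S ≤ E ⊓ P := le_inf J.phiS_le J1.phiS_le
        have h2 : E ⊓ P < P := lt_of_le_of_ne inf_le_right fun h => hPE
          (Subgroup.eq_of_le_of_card_ge (h ▸ inf_le_left)
            (Nat.le_of_mul_le_mul_right (by rw [J.cardE, J1.cardE]) hp.1.pos))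
        have h3 := card_lt_of_lt hPS h2
        obtain ⟨c, hc⟩ := Subgroup.card_dvd_of_le (inf_le_right : E ⊓ P ≤ P)
        obtain ⟨d, hd⟩ := Subgroup.card_dvd_of_le h1
        have h4 := card_phi_mul (P := S)
        rw [J.cardS, ← J1.cardE, hc, hd] at h4
        haveI : Finite (phi S) := finite_of_le (phi_le S)
        have h5 : p ^ 2 = d * c * p := Nat.eq_of_mul_eq_mul_left
          (Nat.card_pos (α := phi S)) (by rw [h4]; ring)
        have h6 : d * c = p := (Nat.eq_of_mul_eq_mul_right hp.1.pos (by rw [← h5, sq])).symm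
        have h7 : d = 1 := by
          rcases (Nat.dvd_prime hp.1).1 (h6 ▸ dvd_mul_right d c) with h | h
          · exact h
          · exfalso
            rw [h] at h6
            have h9 : c = 1 := Nat.eq_of_mul_eq_mul_left hp.1.pos (h6.trans (mul_one p).symm)
            rw [hc, h9, mul_one] at h3
            exact lt_irrefl _ h3
        have h8 : phi S = E ⊓ P := Subgroup.eq_of_le_of_card_ge h1 (by rw [hd, h7, mul_one])
        exact h8.ge ⟨hbE, hbP⟩
      -- it lies in the Frattini subgroup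
      have hAphi : A ≤ phi P := by
        by_contra hAphi
        obtain ⟨γ, hγ, c, hc, hb⟩ := J1.move A hAP hAn hAphi
        set b := autFun γ c with hbdef
        have hbP : b ∈ P := autFun_mem γ (hAP hc)
        have hbE : b ∉ E := fun h => hb (hmeet b hbP h)
        obtain ⟨a', ha', hne⟩ := hAmove b (hPS hbP) hbE
        refine hne ?_
        have hm := isMor_autFun hPS hγ
        obtain ⟨d, hd, hde⟩ : ∃ d ∈ P, autFun γ d = a' :=
          ⟨autFun γ⁻¹ a', autFun_mem _ (hAP ha'), autFun_inv_right γ (hAP ha')⟩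
        have hdc : d * c * d⁻¹ ∈ A :=
          (Subgroup.mem_normalizer_iff.1 (hAn (hPS hd)) c).1 hc
        have e1 : ⁅a', b⁆ = autFun γ (d * c * d⁻¹ * c⁻¹) := by
          rw [autFun_map_mul γ (hAP hdc) (P.inv_mem (hAP hc)),
            autFun_map_mul γ (P.mul_mem hd (hAP hc)) (P.inv_mem hd),
            autFun_map_mul γ hd (hAP hc), autFun_inv_map γ hd, autFun_inv_map γ (hAP hc), hde,
            ← hbdef, commutatorElement_def]
        have hin : d * c * d⁻¹ * c⁻¹ ∈ A := A.mul_mem hdc (A.inv_mem hc)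
        rw [commutatorElement_eq_one_iff_mul_comm, e1, hbdef,
          ← autFun_map_mul γ (hAP hin) (hAP hc), hAc _ hin c hc,
          autFun_map_mul γ (hAP hc) (hAP hin)]
      let B : Subgroup Ω :=
        { carrier := {b | ∃ a ∈ A, autFun α a = b}
          one_mem' := ⟨1, A.one_mem, (isMor_autFun hPS hα).map_one⟩
          mul_mem' := by
            rintro _ _ ⟨a, ha, rfl⟩ ⟨c, hc, rfl⟩
            exact ⟨a * c, A.mul_mem ha hc, autFun_map_mul α (hAP ha) (hAP hc)⟩
          inv_mem' := by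
            rintro _ ⟨a, ha, rfl⟩
            exact ⟨a⁻¹, A.inv_mem ha, autFun_inv_map α (hAP ha)⟩ }
      refine eq_of_commute hrank (hAE.trans hES) (B := B) ?_ hAc ?_ hAp ?_ ?_ hA3.ge ⟨a, ha, rfl⟩
      · rintro _ ⟨c, hc, rfl⟩; exact hPS (autFun_mem α (hAP hc))
      · rintro _ ⟨c, hc, rfl⟩ _ ⟨d, hd, rfl⟩
        rw [← autFun_map_mul α (hAP hc) (hAP hd), hAc c hc d hd, autFun_map_mul α (hAP hd) (hAP hc)]
      · rintro _ ⟨c, hc, rfl⟩
        rw [autFun_of_mem α (hAP hc), ← SubgroupClass.coe_pow, ← map_pow,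
          show (⟨c, hAP hc⟩ : P) ^ p = 1 from Subtype.ext (hAp c hc), map_one]
        rfl
      · rintro c hc _ ⟨d, hd, rfl⟩
        obtain ⟨w, hw, hwd⟩ := hAphi hd
        have hin : autFun α d ∈ phi P := ⟨α w, (Subgroup.characteristic_iff_map_eq.1
          (inferInstance : (frattini ↥P).Characteristic) α).le ⟨w, hw, rfl⟩, by
            rw [← hwd]; exact (autFun_coe α w).symm⟩
        refine hc.2.2 _ (J.phiS_le ?_)
        rw [phi_eq (N := S) (isPGroup_of_le hPS hS) hPS] at hin
        rw [phi_top rfl hS]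
        exact Subgroup.map_mono (step_mono le_top le_top) hin
  · -- the subgroup is elementary of index `p`
    have hAeq : A = E := J.whole A hAE hAn hAD
    have huniq : ∀ P ≤ S, Nat.card P = Nat.card E → phi S ≤ P →
        (∀ a ∈ P, ∀ b ∈ P, a * b = b * a) → P = E := by
      intro P hPS hcard hDP hPc
      by_contra hne
      haveI : Finite P := finite_of_le hPS
      obtain ⟨y, hy, hyE⟩ : ∃ y ∈ P, y ∉ E := by
        by_contra! h
        exact hne (Subgroup.eq_of_le_of_card_ge h hcard.ge)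
      obtain ⟨a, ha, hne'⟩ := hAmove y (hPS hy) hyE
      exact hne' (commutatorElement_eq_one_iff_mul_comm.2
        (hPc _ (hDP (comm_mem_phi hS (hES ha.1) (hPS hy))) y hy))
    refine ⟨E, isNormal_of_invariant hS hF ?_, hAeq ▸ hAne⟩
    rintro P (hPeq | hP)
    · rw [hPeq]
      refine ⟨hES, fun α hα a ha => ?_⟩
      have hf := (isMor_autFun le_rfl hα).restrict hES
      have hP := huniq (img E (autFun α)) hf.img_le hf.card_img (fun d hd => by
          obtain ⟨c, hc, hcd⟩ := hd
          refine hf.mem_img.2 ⟨autFun α⁻¹ d, J.phiS_le (autFun_phi _ ⟨c, hc, hcd⟩), ?_⟩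
          exact autFun_inv_right α (hcd ▸ c.2)) (by
          intro a ha b hb
          obtain ⟨c, hc, rfl⟩ := hf.mem_img.1 ha
          obtain ⟨d, hd, rfl⟩ := hf.mem_img.1 hb
          have hA' := hAc c (hAeq.ge hc) d (hAeq.ge hd)
          rw [← autFun_map_mul α (hES hc) (hES hd), hA', autFun_map_mul α (hES hd) (hES hc)])
      exact hP.le (mem_img_of_mem _ ha)
    · have hPE : P = E := by
        have J1 := hJ P hP
        have hPS := hP.1.1
        haveI : Finite P := finite_of_le hPS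
        have hcard : Nat.card P = Nat.card E :=
          Nat.eq_of_mul_eq_mul_right hp.1.pos (J1.cardE.trans J.cardE.symm)
        refine huniq P hPS hcard J1.phiS_le fun a ha b hb => ?_
        have h1 := card_phi_mul (P := P)
        rw [hidx P hP, hcard, ← hAeq, hA3] at h1
        have h2 : phi P = ⊥ := Subgroup.card_eq_one.1
          (Nat.eq_of_mul_eq_mul_right (pow_pos hp.1.pos 3) (h1.trans (one_mul _).symm))
        have h3 := comm_mem_phi (isPGroup_of_le hPS hS) ha hb
        rw [h2, Subgroup.mem_bot] at h3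
        exact commutatorElement_eq_one_iff_mul_comm.1 h3
      subst hPE
      exact ⟨le_rfl, fun α _ a ha => autFun_mem α ha⟩

end CfsgLib.Fusion.RankThree
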