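import Cfsg.Agent.Lib.Fusion.RankThree.JordanBasic

/-!
# The commutator form of a subgroup with a single Jordan block on its elementary quotient
-/

set_option autoImplicit false
set_option linter.unusedSectionVars false
set_option linter.style.haveILetI false

namespace CfsgLib.Fusion.RankThree

open scoped commutatorElement

universe u

variable {p : ℕ} [hp : Fact p.Prime] {X : Type u} [Group X] [Finite X] {V : Type u}
  [AddCommGroup V] [Module (ZMod p) V]

namespace Jordan

/-- The commutator form into the next elementary layer. -/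
structure Form {E : Subgroup X} (s : SecMap p E (step p E E) V) (x : X)
    (T : Module.End (ZMod p) V) {M : Type u} [AddCommGroup M] [Module (ZMod p) M]
    (sM : SecMap p (step p E E) (step p (step p E E) E) M) (TM : Module.End (ZMod p) M)
    (f : V →ₗ[ZMod p] V →ₗ[ZMod p] M) : Prop where
  conj : ∀ e ∈ E, ∀ c ∈ step p E E, sM.π (e * c * e⁻¹) = sM.π c
  act : ∀ c ∈ step p E E, TM (sM.π c) = sM.π (x * c * x⁻¹)
  dim : Module.finrank (ZMod p) M ≤ 3
  cube : (TM - 1) ^ 3 = 0
  eval : ∀ a ∈ E, ∀ b ∈ E, f (s.π a) (s.π b) = sM.π ⁅a, b⁆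
  equiv : ∀ a b, TM (f a b) = f (T a) (T b)
  alt : ∀ a, f a a = 0

variable {E : Subgroup X} {s : SecMap p E (step p E E) V} {x : X} {T : Module.End (ZMod p) V}
  {g : MulAut X} {v : V} (C : Ctx E s x T g v)

include C

/-- The form exists. -/
theorem exists_form : ∃ (M : Type u) (_ : AddCommGroup M) (_ : Module (ZMod p) M)
    (sM : SecMap p (step p E E) (step p (step p E E) E) M) (TM : Module.End (ZMod p) M)
    (f : V →ₗ[ZMod p] V →ₗ[ZMod p] M), Form s x T sM TM f := by
  haveI := C.normal
  haveI hKn : (step p E E).Normal := step_normal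
  have hKE : (step p E E) ≤ E := step_le_self C.normal
  have hK1n : (step p (step p E E) E).Normal := step_normal
  obtain ⟨M, _, _, ⟨sM⟩⟩ := exists_secMap (p := p) (A := (step p E E)) (B := step p (step p E E) E)
    (step_le_self hKn) (fun a _ b hb => hK1n.conj_mem b hb a)
    (fun a ha b hb => comm_mem_step ha (hKE hb)) fun a ha => pow_mem_step ha
  obtain ⟨TM, hTM⟩ := sM.exists_conj x (fun a ha => hKn.conj_mem a ha x)
    fun b hb => hK1n.conj_mem b hb x
  have hconj : ∀ e ∈ E, ∀ c ∈ (step p E E), sM.π (e * c * e⁻¹) = sM.π c := fun e he c hc => by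
    refine ((sM.eq_iff hc (hKn.conj_mem c hc e)).2 ?_).symm
    rw [show c⁻¹ * (e * c * e⁻¹) = ⁅c⁻¹, e⁆ by group]
    exact comm_mem_step ((step p E E).inv_mem hc) he
  obtain ⟨f, hf⟩ := s.exists_bilin s sM (fun a b => ⁅a, b⁆)
    (fun a ha b hb => comm_mem_step ha hb)
    (fun a ha a' ha' b hb => by
      rw [show ⁅a * a', b⁆ = a * ⁅a', b⁆ * a⁻¹ * ⁅a, b⁆ by group,
        sM.map_mul _ (hKn.conj_mem _ (comm_mem_step ha' hb) a) _ (comm_mem_step ha hb),
        hconj a ha _ (comm_mem_step ha' hb), add_comm])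
    (fun a ha b hb b' hb' => by
      rw [show ⁅a, b * b'⁆ = ⁅a, b⁆ * (b * ⁅a, b'⁆ * b⁻¹) by group,
        sM.map_mul _ (comm_mem_step ha hb) _ (hKn.conj_mem _ (comm_mem_step ha hb') b),
        hconj b hb _ (comm_mem_step ha hb')])
    (fun a ha b hb => comm_mem_step ha hb)
    fun a ha b hb => comm_mem_swap (comm_mem_step hb ha)
  have hdim := sM.finrank_le C.rank
  haveI := sM.finite
  obtain ⟨k, hk⟩ := sM.exists_unipotent C.pgroup hKn hTM
  refine ⟨M, inferInstance, inferInstance, sM, TM, f, hconj, hTM, hdim, sub_one_cube TM hk hdim,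
    hf, fun a b => ?_, fun a => ?_⟩
  · obtain ⟨a, ha, rfl⟩ := s.surj a
    obtain ⟨b, hb, rfl⟩ := s.surj b
    rw [hf a ha b hb, hTM _ (comm_mem_step ha hb), C.act a ha, C.act b hb,
      hf _ (C.normal.conj_mem a ha x) _ (C.normal.conj_mem b hb x)]
    congr 1
    group
  · obtain ⟨a, ha, rfl⟩ := s.surj a
    rw [hf a ha a ha, commutatorElement_self, sM.map_one]

/-- The elements of the subgroup along a cyclic vector. -/
theorem exists_decE {w : X} (hw : w ∈ E) (hw0 : (T - 1) ((T - 1) (s.π w)) ≠ 0) {a : X}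
    (ha : a ∈ E) : ∃ d ∈ DD p X, ∃ n : ℕ, a = w ^ n * d := by
  have b' : Block (T - 1) (s.π w) := ⟨C.block.cube, hw0, C.block.dim⟩
  obtain ⟨i, c, e, hi⟩ := b'.coords (s.π a)
  refine ⟨(w ^ i.val)⁻¹ * a, (mem_DD C).2 ⟨E.mul_mem (E.inv_mem (E.pow_mem hw _)) ha, ?_⟩, i.val,
    (mul_inv_cancel_left _ _).symm⟩
  rw [s.map_mul _ (E.inv_mem (E.pow_mem hw _)) _ ha, s.map_inv (E.pow_mem hw _),
    s.map_pow_cast hw, ZMod.natCast_zmod_val, hi]
  simp only [map_add, map_neg, map_smul, b'.d3, smul_zero, add_zero]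
  abel

/-- The commutators of the subgroup do not all vanish in the next layer. -/
theorem not_comm_le {w : X} (hw : w ∈ E) (hw0 : (T - 1) ((T - 1) (s.π w)) ≠ 0) :
    ¬ ∀ a ∈ E, ∀ b ∈ E, ⁅a, b⁆ ∈ step p (step p E E) E := by
  intro hall
  haveI := C.normal
  set K := step p E E with hK
  haveI hKn : K.Normal := step_normal
  set K1 := step p K E with hK1
  haveI hK1n : K1.Normal := step_normal
  haveI hpwn : (pw p (DD p X)).Normal := pw_normal DD_normal
  set R := D3 p X ⊔ pw p (DD p X) with hR
  haveI hRn : R.Normal := Subgroup.sup_normal _ _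
  have hRK : R ≤ K := sup_le (D3_le C) (pw_le fun a ha => s.pow_mem (DD_le C ha))
  have hRg : R.map g.toMonoidHom = R := by
    rw [hR, Subgroup.map_sup, map_D3, pw_map, map_DD]
  -- `Φ(E)` is generated modulo the next layer by one power
  have hKL : K ≤ K1 ⊔ R ⊔ Subgroup.zpowers (w ^ p) := by
    refine step_le (fun a ha b hb => Subgroup.mem_sup_left (Subgroup.mem_sup_left (hall a ha b hb)))
      fun a ha => ?_
    obtain ⟨d, hd, n, rfl⟩ := exists_decE C hw hw0 ha
    have h1 : (w ^ n) ^ p * d ^ p ∈ K1 ⊔ R ⊔ Subgroup.zpowers (w ^ p) := by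
      refine Subgroup.mul_mem _ (Subgroup.mem_sup_right ?_)
        (Subgroup.mem_sup_left (Subgroup.mem_sup_right (Subgroup.mem_sup_right (pow_mem_pw hd))))
      rw [← pow_mul, mul_comm, pow_mul]
      exact Subgroup.pow_mem _ (Subgroup.mem_zpowers _) _
    have h2 := mul_pow_mem hK1n (hall _ (E.pow_mem hw n) _ (DD_le C hd)) p
    have h3 := Subgroup.mul_mem _ h1 (Subgroup.mem_sup_left (Subgroup.mem_sup_left h2) :
      _ ∈ K1 ⊔ R ⊔ Subgroup.zpowers (w ^ p))
    rwa [mul_inv_cancel_left] at h3
  -- the next layer lies in `R`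
  haveI hK2n : (step p K1 E).Normal := step_normal
  set L := step p K1 E ⊔ R with hL
  haveI hLn : L.Normal := Subgroup.sup_normal _ _
  have hK1L : K1 ≤ L := by
    set π := QuotientGroup.mk' L with hπ
    have hq : ∀ a b : X, ⁅a, b⁆ ∈ L ↔ π a * π b = π b * π a := fun a b => by
      rw [← commutatorElement_eq_one_iff_mul_comm, ← map_commutatorElement]
      exact (QuotientGroup.eq_one_iff _).symm
    let Z : Subgroup X := (Subgroup.centralizer (π '' (E : Set X))).comap π
    have hZ : ∀ k, k ∈ Z ↔ ∀ e ∈ E, ⁅k, e⁆ ∈ L := fun k => by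
      rw [Subgroup.mem_comap, Subgroup.mem_centralizer_iff]
      constructor
      · exact fun h e he => (hq k e).2 (h _ ⟨e, he, rfl⟩).symm
      · rintro h _ ⟨e, he, rfl⟩
        exact ((hq k e).1 (h e he)).symm
    have hKZ : K ≤ Z := by
      refine hKL.trans (sup_le (sup_le (fun k hk => (hZ k).2 fun e he => ?_)
        fun r hr => (hZ r).2 fun e he => ?_) (Subgroup.zpowers_le.2 ((hZ _).2 fun e he => ?_)))
      · exact Subgroup.mem_sup_left (comm_mem_step hk he)
      · refine Subgroup.mem_sup_right ?_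
        rw [commutatorElement_def, mul_assoc r, mul_assoc r]
        exact R.mul_mem hr (by simpa [mul_assoc] using hRn.conj_mem _ (R.inv_mem hr) e)
      · obtain ⟨d, hd, n, rfl⟩ := exists_decE C hw hw0 he
        refine (hq _ _).2 ?_
        rw [map_mul, map_pow, map_pow]
        suffices h : π w ^ p * π d = π d * π w ^ p by
          rw [← mul_assoc, ← pow_add, add_comm, pow_add, mul_assoc, h, ← mul_assoc]
        -- the commutator of `w` and `d` commutes with `w`
        set c := ⁅w, d⁆
        have hc2 : c ∈ D2 p X :=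
          comm_mem_swap (comm_mem_step hd (Subgroup.mem_top w))
        have hcw : π c * π w = π w * π c := (hq c w).1 (Subgroup.mem_sup_right
          (Subgroup.mem_sup_left (comm_mem_step hc2 (Subgroup.mem_top w))))
        have hcp : π c ^ p = 1 := by
          rw [← map_pow]
          exact (QuotientGroup.eq_one_iff _).2 (Subgroup.mem_sup_right (Subgroup.mem_sup_right
            (pow_mem_pw (step_le_self DD_normal hc2))))
        have h1 : π w * π d = π c * (π d * π w) := by
          rw [← map_mul, ← map_mul, ← map_mul]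
          congr 1
          simp only [c]
          group
        have hn : ∀ k : ℕ, π w ^ k * π d = π c ^ k * (π d * π w ^ k) := by
          intro k
          induction k with
          | zero => simp
          | succ k ih =>
            rw [pow_succ', mul_assoc, ih, ← mul_assoc,
              ((Commute.pow_left (show Commute (π c) (π w) from hcw) k).symm).eq, mul_assoc,
              ← mul_assoc (π w), h1, mul_assoc (π c), mul_assoc (π d), ← mul_assoc (π c ^ k),
              ← pow_succ]
        rw [hn p, hcp, one_mul]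
    exact step_le (fun k hk e he => (hZ k).1 (hKZ hk) e he)
      fun k hk => Subgroup.mem_sup_right (Subgroup.mem_sup_right (pow_mem_pw (K_le_DD C hk)))
  have hK1R : K1 ≤ R := le_of_le_step C.pgroup hK1n hRn
    (hK1L.trans (sup_le_sup (step_mono le_rfl le_top) le_rfl))
  obtain ⟨a, ha, e, he, hae⟩ := exists_notMem C hRg hRK
  exact hae (hK1R (hall a (DD_le C ha) e he))

end Jordan

end CfsgLib.Fusion.RankThree
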