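import Cfsg.Agent.Lib.Fusion.RankThree.Weights

/-!
# A transvection: the actions on the two layers and a suitable torus element
-/

set_option autoImplicit false
set_option linter.unusedSectionVars false
set_option linter.style.haveILetI false

namespace CfsgLib.Fusion.RankThree

open scoped commutatorElement

universe u

variable {p : ℕ} [hp : Fact p.Prime] {X : Type u} [Group X] [Finite X]

namespace Transv

/-- The torus element with the weights needed for the final configuration. -/
structure Weighted {W W' : Type u} [AddCommGroup W] [Module (ZMod p) W] [AddCommGroup W']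
    [Module (ZMod p) W'] {G : Subgroup (MulAut X)} (σ : G →* Module.End (ZMod p) W)
    (τ : G →* Module.End (ZMod p) W') (zv wv : W) (vP vQ : W') (φ : G)
    (μz μw χP χQ b : ZMod p) : Prop where
  hz : σ φ zv = μz • zv
  hw : σ φ wv = μw • wv
  hP : τ φ vP = χP • vP
  hQ : τ φ vQ = χQ • vQ + b • vP
  z0 : μz ≠ 0
  w0 : μw ≠ 0
  ne1 : μz / μw ≠ χP
  ne2 : μz / μw ≠ χQ
  ne3 : μz / μw * χQ ≠ χP
  ne4 : μz / μw * μz ≠ χQ

variable {W W' : Type u} [AddCommGroup W] [Module (ZMod p) W] [AddCommGroup W']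
  [Module (ZMod p) W'] {G : Subgroup (MulAut X)} (σ : G →* Module.End (ZMod p) W)
  (τ : G →* Module.End (ZMod p) W')

/-- A torus element exists: either the given one, or one built from the moving element and a
conjugate. -/
theorem exists_weighted {g t : G} {zv xv wv : W} {vP vQ : W'} {l : ZMod p}
    (hl0 : l ≠ 0) (hl2 : l * l ≠ 1) (hl3 : l * l * l ≠ 1) (hl5 : l * l * l * l * l ≠ 1)
    (hz0 : zv ≠ 0) (hgz : (σ g - 1) zv = 0) (hgw : (σ g - 1) wv = zv)
    (hgr : ∀ r, ∃ c : ZMod p, (σ g - 1) r = c • zv)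
    (htx : σ t xv = (l * l) • xv) (htw : σ t wv = l⁻¹ • wv) {α β : ZMod p}
    (hzv : zv = α • xv + β • wv) (htP : τ t vP = l • vP) (htQ : τ t vQ = vQ)
    (hline : ∀ φ : G, ∃ χ : ZMod p, τ φ vP = χ • vP)
    (hgP : τ g vP = vP) (hgQ : ∀ u, ∃ b : ZMod p, τ g u = u + b • vP) :
    ∃ φ μz μw χP χQ b, Weighted σ τ zv wv vP vQ φ μz μw χP χQ b := by
  have hll : l * l - l⁻¹ ≠ 0 := fun h0 => hl3 (by
    have h1 := congrArg (· * l) (sub_eq_zero.1 h0)
    rwa [inv_mul_cancel₀ hl0] at h1)
  by_cases hβ : β = 0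
  · -- the fixed line is an eigenline of the given element
    have hzt : σ t zv = (l * l) • zv := by
      rw [hzv, hβ, zero_smul, add_zero, map_smul, htx, smul_comm]
    have hν : l * l / l⁻¹ = l * l * l := by rw [div_inv_eq_mul]
    refine ⟨t, l * l, l⁻¹, l, 1, 0, hzt, htw, htP, by rw [htQ, one_smul, zero_smul, add_zero],
      mul_ne_zero hl0 hl0, inv_ne_zero hl0, ?_, ?_, ?_, ?_⟩
    · rw [hν]
      intro h
      exact hl2 (mul_right_cancel₀ hl0 (h.trans (one_mul l).symm))
    · rw [hν]; exact hl3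
    · rw [hν, mul_one]
      intro h
      exact hl2 (mul_right_cancel₀ hl0 (h.trans (one_mul l).symm))
    · rw [hν]
      intro h
      exact hl5 (by rw [← h]; ring)
  · -- conjugate the moving element to the other line
    set ε := β * (l⁻¹ - l * l) with hε
    have hε0 : ε ≠ 0 := mul_ne_zero hβ (by
      intro h0
      exact hll (by rw [← neg_sub, h0, neg_zero]))
    have htz : σ t zv = (l * l) • zv + ε • wv := by
      rw [hzv, map_add, map_smul, map_smul, htx, htw, hε]
      module
    set i := (-(l * l) / ε).val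
    set a := g ^ i * t with ha
    have hgg : ∀ r, (σ g - 1) ((σ g - 1) r) = 0 := fun r => by
      obtain ⟨c, hc⟩ := hgr r
      rw [hc, map_smul, hgz, smul_zero]
    have haz : σ a zv = ε • wv := by
      rw [ha, map_mul, map_pow, Module.End.mul_apply, htz, map_add, map_smul, map_smul,
        pow_apply_of_sq (σ g) hgg, pow_apply_of_sq (σ g) hgg, hgz, hgw, smul_zero, add_zero,
        ZMod.natCast_zmod_val, smul_add, smul_smul, mul_div_cancel₀ _ hε0]
      module
    have hne1 : (σ g - 1) (σ a zv) ≠ 0 := by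
      rw [haz, map_smul, hgw]
      exact smul_ne_zero hε0 hz0
    have hne2 : (σ g - 1) (σ a⁻¹ zv) ≠ 0 := by
      intro h0
      -- the preimage computed directly
      have h3 : σ a⁻¹ zv = σ t⁻¹ zv := by
        rw [ha, mul_inv_rev, map_mul, Module.End.mul_apply]
        congr 1
        conv_lhs => arg 2; rw [show zv = σ (g ^ i) zv by
          rw [map_pow, pow_apply_of_sq (σ g) hgg, hgz, smul_zero, add_zero]]
        rw [← Module.End.mul_apply, ← map_mul, inv_mul_cancel, map_one, Module.End.one_apply]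
      have htix : σ t⁻¹ xv = (l * l)⁻¹ • xv := by
        conv_lhs => rw [show xv = (l * l)⁻¹ • σ t xv by
          rw [htx, smul_smul, inv_mul_cancel₀ (mul_ne_zero hl0 hl0), one_smul]]
        rw [map_smul, rho_inv_apply]
      have htiw : σ t⁻¹ wv = l • wv := by
        conv_lhs => rw [show wv = l • σ t wv by
          rw [htw, smul_smul, mul_inv_cancel₀ hl0, one_smul]]
        rw [map_smul, rho_inv_apply]
      have h4 : σ t⁻¹ zv = (l * l)⁻¹ • zv + (β * (l - (l * l)⁻¹)) • wv := by
        rw [hzv, map_add, map_smul, map_smul, htix, htiw]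
        module
      rw [h3, h4, map_add, map_smul, map_smul, hgz, hgw, smul_zero, zero_add, smul_eq_zero,
        or_iff_left hz0, mul_eq_zero, or_iff_right hβ, sub_eq_zero] at h0
      exact hl3 (by
        conv_lhs => rw [mul_comm (l * l) l]
        conv_lhs => arg 1; rw [h0]
        rw [inv_mul_cancel₀ (mul_ne_zero hl0 hl0)])
    -- the elements trivial on the layers below
    let H : Subgroup G :=
      { carrier := {φ | τ φ vP = vP ∧ ∃ b : ZMod p, τ φ vQ = vQ + b • vP}
        one_mem' := ⟨by simp, 0, by simp⟩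
        mul_mem' := fun {φ ψ} ⟨hφ, b, hb⟩ ⟨hψ, b', hb'⟩ => ⟨by
          rw [map_mul, Module.End.mul_apply, hψ, hφ], b + b', by
          rw [map_mul, Module.End.mul_apply, hb', map_add, map_smul, hb, hφ]
          module⟩
        inv_mem' := fun {φ} ⟨hφ, b, hb⟩ => by
          have h1 : τ φ⁻¹ vP = vP := by
            conv_lhs => rw [← hφ]
            exact rho_inv_apply τ φ vP
          refine ⟨h1, -b, ?_⟩
          have h2 := congrArg (τ φ⁻¹) hb
          rw [rho_inv_apply, map_add, map_smul, h1] at h2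
          rw [eq_sub_of_add_eq h2.symm]
          module }
    have hgH : g ∈ H := ⟨hgP, hgQ vQ⟩
    have hagH : a * g * a⁻¹ ∈ H := by
      obtain ⟨χ, hχ⟩ := hline a⁻¹
      obtain ⟨χ', hχ'⟩ := hline a
      refine ⟨?_, ?_⟩
      · rw [map_mul, map_mul, Module.End.mul_apply, Module.End.mul_apply, hχ, map_smul, hgP,
          ← hχ, rho_apply_inv]
      · obtain ⟨b, hb⟩ := hgQ (τ a⁻¹ vQ)
        refine ⟨b * χ', ?_⟩
        rw [map_mul, map_mul, Module.End.mul_apply, Module.End.mul_apply, hb, map_add, map_smul,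
          rho_apply_inv, hχ', smul_smul]
    obtain ⟨φ, ⟨hφP, b, hφQ⟩, hφz, hφa, -⟩ := exists_torus σ g a hz0 hgz hgr hne1 hne2 hl0 H
      hgH hagH
    have hφw : σ φ wv = l⁻¹ • wv := by
      have h1 : wv = ε⁻¹ • σ a zv := by rw [haz, smul_smul, inv_mul_cancel₀ hε0, one_smul]
      rw [h1, map_smul, hφa, smul_comm]
    have hν : l / l⁻¹ = l * l := div_inv_eq_mul l l
    refine ⟨φ, l, l⁻¹, 1, 1, b, hφz, hφw, by rw [hφP, one_smul], by rw [hφQ, one_smul], hl0,
      inv_ne_zero hl0, ?_, ?_, ?_, ?_⟩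
    · rw [hν]; exact hl2
    · rw [hν]; exact hl2
    · rw [hν, mul_one]; exact hl2
    · rw [hν]; exact hl3

end Transv

end CfsgLib.Fusion.RankThree
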