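import Cfsg.Agent.Lib.Fusion.RankThree.TransvFinal
import Cfsg.Agent.Lib.Fusion.RankThree.Jordan
import Cfsg.Agent.Lib.Fusion.SatCriterion

/-!
# An essential subgroup with three generators is normal in sectional rank three
-/

set_option autoImplicit false
set_option linter.unusedSectionVars false
set_option linter.style.haveILetI false

namespace CfsgLib.Fusion.RankThree

open Cfsg Cfsg.FusionSystem CfsgLib.Fusion

universe u

variable {p : ℕ} [hp : Fact p.Prime] {Ω : Type u} [Group Ω] {S : Subgroup Ω} [Finite S]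
  {F : FusionSystem S} {E : Subgroup Ω}

/-- The normaliser acting by conjugation. -/
theorem exists_conjHom (F : FusionSystem S) (hES : E ≤ S) :
    ∃ Ψ : normalizerIn S E →* F.autGroup E,
      (∀ y, (Ψ y : MulAut E) ∈ autInducedBy S E) ∧
      ∀ y, ∀ a ∈ E, autFun (Ψ y : MulAut E) a = cj (y : Ω) a := by
  have hn : ∀ y : normalizerIn S E, (y : Ω) ∈ Subgroup.normalizer (E : Set Ω) := fun y =>
    (mem_normalizerIn.1 y.2).2
  have hval : ∀ y : normalizerIn S E, ∀ a ∈ E,
      autFun (E.normalizerMonoidHom ⟨y, hn y⟩) a = cj (y : Ω) a := fun y a ha => by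
    rw [autFun_of_mem _ ha]
    rfl
  have hind : ∀ y : normalizerIn S E, E.normalizerMonoidHom ⟨y, hn y⟩ ∈ autInducedBy S E :=
    fun y => mem_autInducedBy.2 ⟨y, (mem_normalizerIn.1 y.2).1, hn y, hval y⟩
  refine ⟨MonoidHom.mk' (fun y => ⟨_, autInducedBy_le F hES (hind y)⟩) fun y y' =>
    Subtype.ext ?_, hind, hval⟩
  exact _root_.map_mul E.normalizerMonoidHom ⟨y, hn y⟩ ⟨y', hn y'⟩

set_option maxHeartbeats 800000 in
/-- In sectional rank three an essential subgroup with three generators is normal. -/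
theorem normal_of_rank_three (hp5 : 5 ≤ p) (hS : IsPGroup p S)
    (hrank : Cfsg.SectionalPRankLE p 3 S) (hF : F.IsSaturated p) (hE : F.IsEssential p E)
    (hrk : (frattini ↥E).index = p ^ 3) : S ≤ Subgroup.normalizer (E : Set Ω) := by
  by_contra hnot
  have hES : E ≤ S := hE.1.1
  set N := normalizerIn S E with hNdef
  have hle : E ≤ N := le_normalizerIn hES
  have hNS : N < S := lt_of_le_of_ne normalizerIn_le fun h => hnot fun y hy =>
    (mem_normalizerIn.1 (h.ge hy)).2
  -- an element moving the normaliser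
  obtain ⟨g0, hg0, hg0N⟩ := SetLike.exists_of_lt (lt_inf_normalizer hS hNS)
  classical
  have hex : ∃ j, g0 ^ p ^ j ∈ N := by
    obtain ⟨k, hk⟩ := hS ⟨g0, hg0.1⟩
    exact ⟨k, by rw [show g0 ^ p ^ k = 1 from congrArg Subtype.val hk]; exact N.one_mem⟩
  obtain ⟨j, hj⟩ : ∃ j, Nat.find hex = j + 1 := by
    refine Nat.exists_eq_succ_of_ne_zero fun h => hg0N ?_
    have h1 := Nat.find_spec hex
    rwa [h, pow_zero, pow_one] at h1
  set g := g0 ^ p ^ j with hgdef
  have hgp : g ^ p ∈ N := by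
    rw [hgdef, ← pow_mul, ← pow_succ, ← hj]
    exact Nat.find_spec hex
  have hgN : g ∉ N := Nat.find_min hex (by omega)
  have hgS : g ∈ S := S.pow_mem hg0.1 _
  have hgn : g ∈ Subgroup.normalizer (N : Set Ω) := Subgroup.pow_mem _ hg0.2 _
  haveI : Finite E := finite_of_le hES
  haveI : Finite N := finite_of_le normalizerIn_le
  haveI := finite_mulAut (P := E) hES
  have hmem_of : ∀ h : Ω, h ∈ S → (∀ a ∈ E, h * a * h⁻¹ ∈ E) → h ∈ N := fun h hh hc => by
    refine mem_normalizerIn.2 ⟨hh, Subgroup.mem_normalizer_iff_map_conj_eq.2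
      (Subgroup.eq_of_le_of_card_ge ?_
        (Subgroup.card_map_of_injective (MulAut.conj h).injective).ge)⟩
    rintro _ ⟨a, ha, rfl⟩
    exact hc a ha
  -- an element outside
  obtain ⟨x, hx⟩ : ∃ x : N, x ∉ E0 S E := by
    by_contra! h
    have hEN : E = N := le_antisymm hle fun y hy => h ⟨y, hy⟩
    refine hgN (hmem_of g hgS fun a ha => ?_)
    rw [hEN] at ha ⊢
    exact (Subgroup.mem_normalizer_iff.1 hgn a).1 ha
  obtain ⟨V, _, _, s, ρ, R, H, hρ, hsetup, hR, hker⟩ := exists_space hS hF hE hrk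
  haveI := s.finite
  obtain ⟨Ψ, hΨ, hΨe⟩ := exists_conjHom F hES
  have hinner : ∀ y : N, ρ (Ψ y) = 1 → y ∈ E0 S E := by
    intro y hy
    obtain ⟨e, he, hee⟩ := mem_inn.1 (hker _ hy)
    have h1 : e⁻¹ * (y : Ω) ∈ E := centric_centralizer_le hE.1 (mem_centralizerIn.2
      ⟨S.mul_mem (S.inv_mem (hES he)) (normalizerIn_le y.2), fun a ha => by
        rw [cj_mul, ← hΨe y a ha, hee a ha, cj_inv_cj]⟩)
    have h2 := E.mul_mem he h1
    rwa [mul_inv_cancel_left] at h2
  haveI hnormal : (E0 S E).Normal := ⟨fun a ha y =>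
    (Subgroup.mem_normalizer_iff.1 (mem_normalizerIn.1 y.2).2 a).1 ha⟩
  have hne : ρ (Ψ x) ≠ 1 := fun h => hx (hinner x h)
  have hxR : Ψ x ∈ (R : Subgroup (F.autGroup E)) := (hR _).2 (hΨ x)
  have hcube : (ρ (Ψ x) - 1) ^ 3 = 0 := by
    obtain ⟨k, hk⟩ := isPGroup_autInducedBy hS ⟨_, hΨ x⟩
    refine sub_one_cube (ρ (Ψ x)) (k := k) ?_ hsetup.dim.le
    have h1 : Ψ x ^ p ^ k = 1 := Subtype.ext (congrArg
      (fun z : autInducedBy S E => (z : MulAut E)) hk)
    rw [← map_pow, h1, map_one]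
  have hTp : ρ (Ψ x) ^ p = 1 := pow_p_of_cube (by omega) _ hcube
  have hindex : (E0 S E).index = p := by
    set q := QuotientGroup.mk' (E0 S E) with hq
    have hord : orderOf (q x) = p := by
      refine orderOf_eq_prime ?_ fun h => hx ((QuotientGroup.eq_one_iff x).1 h)
      rw [← map_pow]
      refine (QuotientGroup.eq_one_iff _).2 (hinner _ ?_)
      rw [map_pow, map_pow, hTp]
    have htop : Subgroup.zpowers (q x) = ⊤ := by
      refine eq_top_iff.2 fun z _ => ?_
      obtain ⟨y, rfl⟩ := QuotientGroup.mk'_surjective (E0 S E) z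
      obtain ⟨n, hn⟩ := hsetup.image_sylow hxR hne _ ((hR _).2 (hΨ y))
      have h1 : y * (x ^ n)⁻¹ ∈ E0 S E := hinner _ (by
        rw [map_mul, map_inv, map_mul, hn, map_pow Ψ, ← map_pow ρ, ← map_mul, mul_inv_cancel,
          map_one])
      have h2 : q y = q x ^ n := by
        rw [← map_pow]
        refine mul_inv_eq_one.1 ?_
        rw [← map_inv, ← map_mul]
        exact (QuotientGroup.eq_one_iff _).2 h1
      rw [h2]
      exact Subgroup.npow_mem_zpowers _ _
    rw [← hord, ← Nat.card_zpowers, htop, Subgroup.card_top]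
    rfl
  have B : Base hle s ρ R H x (Ψ x) :=
    { p5 := hp5
      pS := hS
      sat := hF
      ess := hE
      rankS := hrank
      normal := hnormal
      index := hindex
      notMem := hx
      hρ := hρ
      setup := hsetup
      hker := hker
      mem_R := hxR
      conj_x := fun a ha => Subtype.ext (by rw [lift_val hle _ ha, hΨe x (a : Ω) ha]; rfl)
      ne_one := hne }
  by_cases h2 : ∀ r, (ρ (Ψ x) - 1) ((ρ (Ψ x) - 1) r) = 0
  · exact B.false_of_transvection h2 hgS hgn hgN hgp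
  push Not at h2
  obtain ⟨v, hv⟩ := h2
  have b : Block (ρ (Ψ x) - 1) v := ⟨hcube, hv, hsetup.dim⟩
  obtain ⟨γ, hγ1, hγ2⟩ := exists_move_jordan ρ hp5 hsetup.rad b
  obtain ⟨gX, -, hgXe⟩ := exists_autInducedBy (P := N) (K := S) hgS hgn
  have hgv : ∀ a : N, (gX a : Ω) = g * a * g⁻¹ := fun a => by
    rw [← autFun_coe, hgXe _ a.2, cj_apply]
  have C : Jordan.Ctx (E0 S E) s x (ρ (Ψ x)) gX v :=
    { p5 := hp5
      pgroup := B.pX
      rank := B.rankX
      normal := hnormal
      index := hindex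
      notMem := hx
      act := B.act
      block := b
      move := fun h => hgN (hmem_of g hgS fun a ha => by
        have h1 : gX ⟨a, hle ha⟩ ∈ E0 S E := h ▸ ⟨⟨a, hle ha⟩, ha, rfl⟩
        rw [Subgroup.mem_subgroupOf, hgv] at h1
        exact h1)
      move2 := fun h => by
        have h1 : g * g ∈ N := hmem_of _ (S.mul_mem hgS hgS) fun a ha => by
          have h1 : (gX * gX) ⟨a, hle ha⟩ ∈ E0 S E := h ▸ ⟨⟨a, hle ha⟩, ha, rfl⟩
          rw [MulAut.mul_apply, Subgroup.mem_subgroupOf, hgv, hgv] at h1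
          rwa [show g * g * a * (g * g)⁻¹ = g * (g * a * g⁻¹) * g⁻¹ by group]
        obtain ⟨m, hm⟩ := hp.1.odd_of_ne_two (by omega)
        refine hgN ?_
        rw [show g = ((g * g) ^ m)⁻¹ * g ^ p by
          rw [hm, pow_succ, pow_mul, pow_two, inv_mul_cancel_left]]
        exact N.mul_mem (N.inv_mem (N.pow_mem h1 m)) hgp }
  exact Jordan.false_of_jordan C (lift hle (γ : MulAut E)) (fun a ha => lift_mem hle _ ha)
    (fun a ha c hc => lift_mul hle _ ha hc) (ρ γ) (fun a ha => hρ γ a ha) (rho_injective ρ γ)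
    hγ1 hγ2

end CfsgLib.Fusion.RankThree
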