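import Cfsg.Agent.Lib.Fusion.RankThree.Main

/-!
# A normal essential subgroup with three generators: standing data inside the whole group
-/

set_option autoImplicit false
set_option linter.unusedSectionVars false
set_option linter.style.haveILetI false

namespace CfsgLib.Fusion.RankThree

open Cfsg Cfsg.FusionSystem CfsgLib.Fusion

universe u

variable {p : ℕ} [hp : Fact p.Prime] {Ω : Type u} [Group Ω] {S : Subgroup Ω} [Finite S]
  {F : FusionSystem S} {E : Subgroup Ω}

/-- The Frattini subgroup of a subgroup, in the ambient group. -/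
noncomputable def phi (E : Subgroup Ω) : Subgroup Ω := (frattini ↥E).map E.subtype

theorem phi_le (E : Subgroup Ω) : phi E ≤ E := Subgroup.map_subtype_le _

/-- The elements of order dividing `p` in the centre. -/
def omegaZ (p : ℕ) (E : Subgroup Ω) : Subgroup Ω where
  carrier := {a | a ∈ E ∧ a ^ p = 1 ∧ ∀ e ∈ E, a * e = e * a}
  one_mem' := ⟨E.one_mem, one_pow _, fun e _ => by rw [one_mul, mul_one]⟩
  mul_mem' := fun {a b} ha hb => ⟨E.mul_mem ha.1 hb.1, by
      rw [(show Commute a b from ha.2.2 b hb.1).mul_pow, ha.2.1, hb.2.1, one_mul],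
    fun e he => by rw [mul_assoc, hb.2.2 e he, ← mul_assoc, ha.2.2 e he, mul_assoc]⟩
  inv_mem' := fun {a} ha => ⟨E.inv_mem ha.1, by rw [inv_pow, ha.2.1, inv_one],
    fun e he => ((show Commute a e from ha.2.2 e he).inv_left).eq⟩

theorem mem_omegaZ {a : Ω} : a ∈ omegaZ p E ↔ a ∈ E ∧ a ^ p = 1 ∧ ∀ e ∈ E, a * e = e * a := Iff.rfl

theorem autFun_omegaZ (γ : MulAut E) {a : Ω} (ha : a ∈ omegaZ p E) :
    autFun γ a ∈ omegaZ p E := by
  obtain ⟨hE, hp1, hc⟩ := ha
  refine ⟨autFun_mem γ hE, ?_, fun e he => ?_⟩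
  · rw [autFun_of_mem γ hE, ← SubgroupClass.coe_pow, ← map_pow,
      show (⟨a, hE⟩ : E) ^ p = 1 from Subtype.ext hp1, map_one]
    rfl
  · rw [← autFun_inv_right γ he, ← autFun_map_mul γ hE (autFun_mem _ he),
      hc _ (autFun_mem _ he), autFun_map_mul γ (autFun_mem _ he) hE]

/-- The Frattini subgroup is the second term of the series, seen from any overgroup. -/
theorem phi_eq (hE : IsPGroup p E) [Finite E] {N : Subgroup Ω} (h : E ≤ N) :
    phi E = (step p (E.subgroupOf N) (E.subgroupOf N)).map N.subtype := by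
  have h1 : (⊤ : Subgroup E).map (Subgroup.inclusion h) = E.subgroupOf N := by
    rw [← MonoidHom.range_eq_map]
    ext y
    exact ⟨fun ⟨e, he⟩ => he ▸ e.2, fun hy => ⟨⟨y, hy⟩, rfl⟩⟩
  rw [phi, frattini_eq_step hE, ← h1, ← step_map_hom, Subgroup.map_map]
  rfl

/-- The Frattini subgroup of the whole group, seen from a subgroup equal to it. -/
theorem phi_top {N : Subgroup Ω} (hN : N = S) (hS : IsPGroup p S) :
    phi S = (step p (⊤ : Subgroup N) ⊤).map N.subtype := by
  subst hN
  rw [phi, frattini_eq_step hS]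

theorem frattini_index_eq {N : Subgroup Ω} (hN : N = S) (hS : IsPGroup p S) :
    (frattini ↥S).index = (step p (⊤ : Subgroup N) ⊤).index := by
  subst hN
  rw [frattini_eq_step hS]

/-- The normaliser is the whole group. -/
theorem normalizerIn_eq (hn : S ≤ Subgroup.normalizer (E : Set Ω)) : normalizerIn S E = S :=
  le_antisymm normalizerIn_le fun _ h => mem_normalizerIn.2 ⟨h, hn h⟩

set_option maxHeartbeats 800000 in
/-- The standing data of an essential subgroup with three generators. -/
theorem exists_base (hp5 : 5 ≤ p) (hS : IsPGroup p S) (hrank : Cfsg.SectionalPRankLE p 3 S)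
    (hF : F.IsSaturated p) (hE : F.IsEssential p E) (hrk : (frattini ↥E).index = p ^ 3) :
    ∃ (V : Type u) (_ : AddCommGroup V) (_ : Module (ZMod p) V)
      (s : SecMap p (E0 S E) (step p (E0 S E) (E0 S E)) V)
      (ρ : F.autGroup E →* Module.End (ZMod p) V) (R : Sylow p (F.autGroup E))
      (H : Subgroup (F.autGroup E)) (x : normalizerIn S E) (γx : F.autGroup E),
      Base (le_normalizerIn hE.1.1) s ρ R H x γx := by
  have hES := hE.1.1
  set N := normalizerIn S E with hNdef
  have hle : E ≤ N := le_normalizerIn hES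
  have hn := normal_of_rank_three hp5 hS hrank hF hE hrk
  have hNS : N = S := normalizerIn_eq hn
  haveI : Finite E := finite_of_le hES
  haveI : Finite N := finite_of_le normalizerIn_le
  haveI := finite_mulAut (P := E) hES
  obtain ⟨x, hx⟩ : ∃ x : N, x ∉ E0 S E := by
    by_contra! h
    refine (essential_lt hS hF hE).ne (le_antisymm hES fun y hy => ?_)
    exact h ⟨y, hNS.ge hy⟩
  obtain ⟨V, _, _, s, ρ, R, H, hρ, hsetup, hR, hker⟩ := exists_space hS hF hE hrk
  haveI := s.finite
  obtain ⟨Ψ, hΨ, hΨe⟩ := exists_conjHom F hES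
  have hinner : ∀ y : N, ρ (Ψ y) = 1 → y ∈ E0 S E := by
    intro y hy
    obtain ⟨e, he, hee⟩ := mem_inn.1 (hker _ hy)
    have h1 : e⁻¹ * (y : Ω) ∈ E := centric_centralizer_le hE.1 (mem_centralizerIn.2
      ⟨S.mul_mem (S.inv_mem (hES he)) (normalizerIn_le y.2), fun a ha => by
        rw [cj_mul, ← hΨe y a ha, hee a ha, cj_inv_cj]⟩)
    have h2 := E.mul_mem he h1
    rwa [mul_inv_cancel_left] at h2
  haveI hnormal : (E0 S E).Normal := ⟨fun a ha y =>
    (Subgroup.mem_normalizer_iff.1 (mem_normalizerIn.1 y.2).2 a).1 ha⟩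
  have hne : ρ (Ψ x) ≠ 1 := fun h => hx (hinner x h)
  have hxR : Ψ x ∈ (R : Subgroup (F.autGroup E)) := (hR _).2 (hΨ x)
  have hcube : (ρ (Ψ x) - 1) ^ 3 = 0 := by
    obtain ⟨k, hk⟩ := isPGroup_autInducedBy hS ⟨_, hΨ x⟩
    refine sub_one_cube (ρ (Ψ x)) (k := k) ?_ hsetup.dim.le
    have h1 : Ψ x ^ p ^ k = 1 := Subtype.ext (congrArg
      (fun z : autInducedBy S E => (z : MulAut E)) hk)
    rw [← map_pow, h1, map_one]
  have hTp : ρ (Ψ x) ^ p = 1 := pow_p_of_cube (by omega) _ hcube
  have hindex : (E0 S E).index = p := by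
    set q := QuotientGroup.mk' (E0 S E) with hq
    have hord : orderOf (q x) = p := by
      refine orderOf_eq_prime ?_ fun h => hx ((QuotientGroup.eq_one_iff x).1 h)
      rw [← map_pow]
      refine (QuotientGroup.eq_one_iff _).2 (hinner _ ?_)
      rw [map_pow, map_pow, hTp]
    have htop : Subgroup.zpowers (q x) = ⊤ := by
      refine eq_top_iff.2 fun z _ => ?_
      obtain ⟨y, rfl⟩ := QuotientGroup.mk'_surjective (E0 S E) z
      obtain ⟨n, hn⟩ := hsetup.image_sylow hxR hne _ ((hR _).2 (hΨ y))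
      have h1 : y * (x ^ n)⁻¹ ∈ E0 S E := hinner _ (by
        rw [map_mul, map_inv, map_mul, hn, map_pow Ψ, ← map_pow ρ, ← map_mul, mul_inv_cancel,
          map_one])
      have h2 : q y = q x ^ n := by
        rw [← map_pow]
        refine mul_inv_eq_one.1 ?_
        rw [← map_inv, ← map_mul]
        exact (QuotientGroup.eq_one_iff _).2 h1
      rw [h2]
      exact Subgroup.npow_mem_zpowers _ _
    rw [← hord, ← Nat.card_zpowers, htop, Subgroup.card_top]
    rfl
  exact ⟨V, inferInstance, inferInstance, s, ρ, R, H, x, Ψ x,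
    { p5 := hp5
      pS := hS
      sat := hF
      ess := hE
      rankS := hrank
      normal := hnormal
      index := hindex
      notMem := hx
      hρ := hρ
      setup := hsetup
      hker := hker
      mem_R := hxR
      conj_x := fun a ha => Subtype.ext (by rw [lift_val hle _ ha, hΨe x (a : Ω) ha]; rfl)
      ne_one := hne }⟩

end CfsgLib.Fusion.RankThree
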