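import Cfsg.Agent.Lib.Fusion.RankThree.BigFamily

/-!
# In sectional rank three a system without core has a small essential subgroup
-/

set_option autoImplicit false
set_option linter.unusedSectionVars false
set_option linter.style.haveILetI false

namespace CfsgLib.Fusion.RankThree

open Cfsg Cfsg.FusionSystem CfsgLib.Fusion

universe u

variable {p : ℕ} [hp : Fact p.Prime] {Ω : Type u} [Group Ω] {S : Subgroup Ω} [Finite S]
  {F : FusionSystem S}

/-- An essential subgroup with three generators has a block or a transvection. -/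
theorem jordan_or_transv (hp5 : 5 ≤ p) (hS : IsPGroup p S) (hrank : Cfsg.SectionalPRankLE p 3 S)
    (hF : F.IsSaturated p) {E : Subgroup Ω} (hE : F.IsEssential p E)
    (hrk : (frattini ↥E).index = p ^ 3) :
    S ≤ Subgroup.normalizer (E : Set Ω) ∧ (JFacts F p E ∨ TFacts F p E) := by
  have hn := normal_of_rank_three hp5 hS hrank hF hE hrk
  refine ⟨hn, ?_⟩
  haveI : Finite (normalizerIn S E) := finite_of_le normalizerIn_le
  obtain ⟨V, _, _, s, ρ, R, H, x, γx, B⟩ := exists_base hp5 hS hrank hF hE hrk
  haveI := s.finite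
  by_cases h2 : ∀ r, (ρ γx - 1) ((ρ γx - 1) r) = 0
  · exact Or.inr (B.tfacts hn h2)
  push Not at h2
  obtain ⟨v, hv⟩ := h2
  have hcube : (ρ γx - 1) ^ 3 = 0 := by
    haveI := finite_mulAut (P := E) hE.1.1
    obtain ⟨k, hk⟩ := R.2 ⟨γx, B.mem_R⟩
    have h1 : γx ^ p ^ k = 1 := congrArg Subtype.val hk
    exact sub_one_cube _ (k := k) (by rw [← map_pow, h1, map_one]) B.setup.dim.le
  exact Or.inl (B.jfacts hn ⟨hcube, hv, B.setup.dim⟩)

/-- Without a pearl the core is not trivial. -/
theorem false_of_no_pearl (hp5 : 5 ≤ p) (hS : IsPGroup p S) (hrank : Cfsg.SectionalPRankLE p 3 S)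
    (hrank2 : ¬ Cfsg.SectionalPRankLE p 2 S) (hF : F.IsSaturated p) (hO : F.core = ⊥)
    (hnone : ∀ E, F.IsEssential p E →
      ((Cfsg.IsElementaryAbelian p E ∧ Nat.card E = p ^ 2) ∨
        (Cfsg.IsExtraspecial p ↥E ∧ Nat.card E = p ^ 3 ∧ ∀ x ∈ E, x ^ p = 1)) → False) :
    False := by
  classical
  have hcore : ∀ Q : Subgroup Ω, F.IsNormal Q → Q ≠ ⊥ → False := fun Q hQ hne =>
    hne (le_bot_iff.1 (hO ▸ le_core hQ))
  have hSne : S ≠ ⊥ := by
    intro h
    refine hrank2 fun H N _ A _ _ => ?_
    haveI : Subsingleton S := by rw [h]; infer_instance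
    haveI : Subsingleton H := inferInstance
    haveI : Subsingleton (↥H ⧸ N) := Quotient.instSubsingletonQuotient _
    haveI : Subsingleton A := inferInstance
    rw [Nat.card_of_subsingleton (1 : A)]
    exact Nat.one_le_pow _ _ hp.1.pos
  have hcases : ∀ E, F.IsEssential p E →
      ((frattini ↥E).index = p ^ 3 ∧ S ≤ Subgroup.normalizer (E : Set Ω) ∧
        (JFacts F p E ∨ TFacts F p E)) ∨ BigFacts S p E := by
    intro E hE
    have hES := hE.1.1
    haveI : Finite E := finite_of_le hES
    haveI := finite_mulAut (P := E) hES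
    obtain ⟨V, _, _, s, -, -, -, -, hcard⟩ := exists_space_top hS hE
    haveI := s.finite
    have hd := s.finrank_le (sectionalPRankLE_inj (Subgroup.inclusion hES)
      (Subgroup.inclusion_injective hES) hrank)
    rw [Module.natCard_eq_pow_finrank (K := ZMod p) (V := V), Nat.card_zmod] at hcard
    rcases Nat.lt_or_eq_of_le hd with h | h
    · exact Or.inr ((small_or_big hp5 hS hrank hF hE hcard.symm (by omega)).resolve_left
        (hnone E hE))
    · rw [h] at hcard
      exact Or.inl ⟨hcard.symm, jordan_or_transv hp5 hS hrank hF hE hcard.symm⟩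
  by_cases hbig : ∃ E, BigFacts S p E ∧ F.IsEssential p E
  · obtain ⟨E, B, hE⟩ := hbig
    have honly : ∀ P, F.IsEssential p P → P = E := by
      intro P hP
      rcases hcases P hP with ⟨hidx, hn, hJ | hT⟩ | hB
      · by_contra hne
        exact B.no_jordan hS hP.1.1 hn hidx hne hJ
      · exact (B.no_transv hS hT).elim
      · exact B.unique' hS hP.1.1 hB.card hB.cardZ
    refine hcore E (isNormal_of_invariant hS hF ?_) fun h => ?_
    · rintro P (hPS | hP)
      · rw [hPS]
        exact ⟨B.le, fun α _ a ha => B.invariant hS α ha⟩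
      · rw [honly P hP]
        exact ⟨le_rfl, fun α _ a ha => autFun_mem α ha⟩
    · have h1 := B.card
      rw [h, Subgroup.card_bot] at h1
      exact (Nat.one_lt_pow (by norm_num) hp.1.one_lt).ne h1
  push Not at hbig
  have hall : ∀ E, F.IsEssential p E → (frattini ↥E).index = p ^ 3 ∧
      S ≤ Subgroup.normalizer (E : Set Ω) ∧ (JFacts F p E ∨ TFacts F p E) := fun E hE =>
    (hcases E hE).resolve_right fun B => hbig E B hE
  by_cases hne : ∃ E, F.IsEssential p E
  swap
  · push Not at hne
    refine hcore S (isNormal_of_invariant hS hF ?_) hSne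
    rintro P (hPS | hP)
    · rw [hPS]
      exact ⟨le_rfl, fun α _ a ha => autFun_mem α ha⟩
    · exact absurd hP (hne P)
  by_cases hT : ∃ E, F.IsEssential p E ∧ TFacts F p E
  · obtain ⟨E₀, hE₀, T⟩ := hT
    have hallT : ∀ E, F.IsEssential p E → TFacts F p E := fun E hE => by
      rcases (hall E hE).2.2 with hJ | hT'
      · exfalso
        have h1 := card_phi_mul (P := S)
        rw [hJ.cardS] at h1
        have h2 := T.phiS_small
        rw [← h1] at h2
        haveI : Finite (phi S) := finite_of_le (phi_le S)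
        have h3 := Nat.le_of_mul_le_mul_left h2 Nat.card_pos
        have h4 : p ^ 2 < p ^ 3 := Nat.pow_lt_pow_right hp.1.one_lt (by norm_num)
        omega
      · exact hT'
    obtain ⟨Q, hQ, hQ0⟩ := exists_normal_of_transv (by omega) hS hF hne hallT
    exact hcore Q hQ hQ0
  · push Not at hT
    obtain ⟨Q, hQ, hQ0⟩ := exists_normal_of_jordan hS hrank hF hSne (fun E hE => (hall E hE).1)
      (fun E hE => (hall E hE).2.1) fun E hE => (hall E hE).2.2.resolve_right (hT E hE)
    exact hcore Q hQ hQ0

end CfsgLib.Fusion.RankThree
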