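import Cfsg.Agent.Lib.Fusion.RankThree.Layers

/-!
# A transvection: the layers as vector spaces with their group of automorphisms
-/

set_option autoImplicit false
set_option linter.unusedSectionVars false
set_option linter.style.haveILetI false

namespace CfsgLib.Fusion.RankThree

open scoped commutatorElement

universe u

variable {p : ℕ} [hp : Fact p.Prime] {X : Type u} [Group X] [Finite X]

/-- The action on a section by automorphisms preserving its two ends. -/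
theorem SecMap.exists_action {A B : Subgroup X} {W : Type u} [AddCommGroup W] [Module (ZMod p) W]
    (sW : SecMap p A B W) (G : Subgroup (MulAut X)) (hA : ∀ φ ∈ G, ∀ a ∈ A, φ a ∈ A)
    (hB : ∀ φ ∈ G, ∀ a ∈ B, φ a ∈ B) :
    ∃ σ : G →* Module.End (ZMod p) W, ∀ φ : G, ∀ a ∈ A, σ φ (sW.π a) = sW.π ((φ : MulAut X) a) := by
  have hex : ∀ φ : G, ∃ T : Module.End (ZMod p) W,
      ∀ a ∈ A, T (sW.π a) = sW.π ((φ : MulAut X) a) := fun φ =>
    sW.exists_linear sW (fun a => (φ : MulAut X) a) (hA _ φ.2) (hB _ φ.2)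
      fun a _ b _ => _root_.map_mul (φ : MulAut X) a b
  choose T hT using hex
  refine ⟨{ toFun := T, map_one' := ?_, map_mul' := fun φ ψ => ?_ }, hT⟩
  · refine LinearMap.ext fun v => ?_
    obtain ⟨a, ha, rfl⟩ := sW.surj v
    rw [hT 1 a ha, Module.End.one_apply]
    rfl
  · refine LinearMap.ext fun v => ?_
    obtain ⟨a, ha, rfl⟩ := sW.surj v
    rw [Module.End.mul_apply, hT ψ a ha, hT φ _ (hA _ ψ.2 a ha), hT (φ * ψ) a ha]
    rfl

namespace Transv

variable {V : Type u} [AddCommGroup V] [Module (ZMod p) V] {E : Subgroup X}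
  {s : SecMap p E (step p E E) V} {x : X} {T : Module.End (ZMod p) V} {θ : MulAut X}
  {h : Module.End (ZMod p) V} {c l : ZMod p} {vw vP vQ : V}

/-- Everything needed in the group for the final configuration, before adjoining the moving
element. -/
structure Inner (s : SecMap p E (step p E E) V) (T : Module.End (ZMod p) V)
    (g φ : MulAut X) {W : Type u} [AddCommGroup W] [Module (ZMod p) W]
    (sZ : SecMap p (s.pre (LinearMap.ker (T - 1))) (step p E E) W) (z w : X)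
    (Tg TΘ : Module.End (ZMod p) W) (k : ℕ) (m c e b χP χQ : ZMod p) (vP vQ : W) : Prop where
  central : ∀ a ∈ s.pre (LinearMap.ker (T - 1)), ∀ y : X, ⁅y, a⁆ ∈ step p E E
  expK : ∀ y : X, y ^ p ∈ step p E E
  gen : ∀ y : X, ∃ a b : ℕ, ∃ ζ ∈ s.pre (LinearMap.ker (T - 1)), y = z ^ a * w ^ b * ζ
  free : ∀ a b : ℕ, z ^ a * w ^ b ∈ s.pre (LinearMap.ker (T - 1)) → p ∣ a ∧ p ∣ b
  zw : ⁅w, z⁆ ∈ s.pre (LinearMap.ker (T - 1)) ∧ sZ.π ⁅w, z⁆ = c • vP
  c0 : c ≠ 0
  gz : g z * z⁻¹ ∈ s.pre (LinearMap.ker (T - 1))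
  gw : g w * w⁻¹ = z
  gK : ∀ a ∈ step p E E, g a ∈ step p E E
  gZ : ∀ a ∈ s.pre (LinearMap.ker (T - 1)), g a ∈ s.pre (LinearMap.ker (T - 1))
  φK : ∀ a ∈ step p E E, φ a ∈ step p E E
  φZ : ∀ a ∈ s.pre (LinearMap.ker (T - 1)), φ a ∈ s.pre (LinearMap.ker (T - 1))
  φz : ∃ ζ ∈ s.pre (LinearMap.ker (T - 1)), φ z = z ^ m.val * ζ
  actg : ∀ a ∈ s.pre (LinearMap.ker (T - 1)), Tg (sZ.π a) = sZ.π (g a)
  actΘ : ∀ a ∈ s.pre (LinearMap.ker (T - 1)), TΘ (sZ.π a) = sZ.π (φ a)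
  gP : Tg vP = vP
  gQ : Tg vQ = vQ + e • vP
  span : ∀ v, ∃ γ δ : ZMod p, v = γ • vP + δ • vQ
  indep : ∀ γ δ : ZMod p, γ • vP + δ • vQ = 0 → γ = 0 ∧ δ = 0
  θP : TΘ vP = χP • vP
  θQ : TΘ vQ = χQ • vQ + b • vP
  m0 : m ≠ 0
  ne1 : (k : ZMod p) ≠ χP
  ne2 : (k : ZMod p) ≠ χQ
  ne3 : (k : ZMod p) * χQ ≠ χP
  ne4 : (k : ZMod p) * m ≠ χQ
  twist : ∀ a ∈ E, (φ * g * φ⁻¹ * (g ^ k)⁻¹) a ∈ E
  twistV : ∀ a ∈ E, ∀ u, s.π a = u →
    T (s.π ((φ * g * φ⁻¹ * (g ^ k)⁻¹) a) - u) = s.π ((φ * g * φ⁻¹ * (g ^ k)⁻¹) a) - u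
  twistU : ∀ a ∈ s.pre (LinearMap.ker (T - 1)), ∃ γ : ZMod p, ∀ a' ∈ s.pre (LinearMap.ker (T - 1)),
    sZ.π a' = vP → sZ.π ((φ * g * φ⁻¹ * (g ^ k)⁻¹) a) = sZ.π a + γ • sZ.π a'
  twistP : ∀ a ∈ s.pre (LinearMap.ker (T - 1)), sZ.π a = vP →
    sZ.π ((φ * g * φ⁻¹ * (g ^ k)⁻¹) a) = vP

variable (C₀ : Ctx E s x T θ h c l vw vP vQ)

set_option maxHeartbeats 1600000 in
include C₀ in
/-- From the moving automorphism and the torus element, the inner configuration. -/
theorem exists_inner (hl5 : l * l * l * l * l ≠ 1) (G₀ : Subgroup (MulAut X)) {g : MulAut X}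
    (hθ : θ ∈ G₀) (hg : g ∈ G₀) (hgp : ∃ k, g ^ p ^ k = 1) (hgE : E.map g.toMonoidHom ≠ E) :
    ∃ φ ∈ G₀, ∃ (W : Type u) (_ : AddCommGroup W) (_ : Module (ZMod p) W)
      (sZ : SecMap p (s.pre (LinearMap.ker (T - 1))) (step p E E) W) (z w : X)
      (Tg TΘ : Module.End (ZMod p) W) (k : ℕ) (m c e b χP χQ : ZMod p) (uP uQ : W),
      Inner s T g φ sZ z w Tg TΘ k m c e b χP χQ uP uQ := by
  haveI := C₀.normal
  obtain ⟨w, hw, hwπ⟩ := s.surj vw
  obtain ⟨q, hq, hqπ⟩ := s.surj vQ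
  obtain ⟨p0, hp0, hp0π⟩ := s.surj vP
  have hgK := map_step_eq C₀ g hgE
  obtain ⟨x, C, r, hr, hrT, hrx⟩ := exists_adjust C₀ hw hwπ
  have hxK := x_pow_mem C hr hrT hrx
  have hl := C.l0
  haveI hKn : (step p E E).Normal := step_normal
  have hKE : step p E E ≤ E := step_le_self C.normal
  set Zs := s.pre (LinearMap.ker (T - 1)) with hZs
  haveI hZn : Zs.Normal := plane_normal C
  have hKZ : step p E E ≤ Zs := fun a ha => (mem_plane C).2 ⟨hKE ha, by
    rw [(s.map_eq_zero a (hKE ha)).2 ha, map_zero]⟩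
  have hline : ∀ a y : X, ⁅a, y⁆ ∈ Zs := fun a y => by
    obtain ⟨h1, h2⟩ := comm_mem_line C a y
    exact (mem_plane C).2 ⟨h1, fixed_span C h2⟩
  have hcen : ∀ a ∈ Zs, ∀ y, ⁅y, a⁆ ∈ step p E E := fun a ha y =>
    fixed_central C ((mem_plane C).1 ha).1 ((mem_plane C).1 ha).2 y
  obtain ⟨W, _, _, ⟨sZ⟩⟩ := exists_secMap (p := p) (A := Zs) (B := step p E E) hKZ
    (fun a _ b hb => hKn.conj_mem b hb a) (fun a _ b hb => hcen b hb a)
    fun a _ => pow_mem_K C hxK a
  obtain ⟨W2, _, _, ⟨sX⟩⟩ := exists_secMap (p := p) (A := (⊤ : Subgroup X)) (B := Zs) le_top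
    (fun a _ b hb => hZn.conj_mem b hb a) (fun a _ b _ => hline a b)
    fun a _ => hKZ (pow_mem_K C hxK a)
  -- the automorphisms fixing the Frattini subgroup
  let St : Subgroup (MulAut X) :=
    { carrier := {φ | (step p E E).map φ.toMonoidHom = step p E E}
      one_mem' := Subgroup.map_id _
      mul_mem' := fun {φ ψ} (hφ : (step p E E).map φ.toMonoidHom = step p E E)
          (hψ : (step p E E).map ψ.toMonoidHom = step p E E) => by
        show (step p E E).map (φ * ψ).toMonoidHom = step p E E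
        rw [show (φ * ψ).toMonoidHom = φ.toMonoidHom.comp ψ.toMonoidHom from rfl,
          ← Subgroup.map_map, hψ, hφ]
      inv_mem' := fun {φ} (hφ : (step p E E).map φ.toMonoidHom = step p E E) => by
        show (step p E E).map φ⁻¹.toMonoidHom = step p E E
        conv_lhs => rw [← hφ]
        rw [Subgroup.map_map, show φ⁻¹.toMonoidHom.comp φ.toMonoidHom = MonoidHom.id X from
          MonoidHom.ext fun a => φ.symm_apply_apply a, Subgroup.map_id] }
  set G := G₀ ⊓ St with hG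
  have hθK : θ ∈ St := by
    refine Subgroup.eq_of_le_of_card_ge ?_ (Subgroup.card_map_of_injective θ.injective).ge
    rintro _ ⟨a, ha, rfl⟩
    exact step_mapsTo (fun a => θ a) (fun a _ b _ => map_mul θ a b) le_rfl le_rfl C.mapsE C.mapsE ha
  set gG : G := ⟨g, hg, hgK⟩ with hgG
  set tG : G := ⟨θ, hθ, hθK⟩ with htG
  have hGK : ∀ φ ∈ G, ∀ a ∈ step p E E, φ a ∈ step p E E := fun φ hφ a ha => by
    have h1 : (step p E E).map φ.toMonoidHom = step p E E := hφ.2
    exact h1 ▸ ⟨a, ha, rfl⟩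
  have hGZ : ∀ φ ∈ G, ∀ a ∈ Zs, φ a ∈ Zs := fun φ hφ a ha =>
    plane_char C hw hwπ (hGK φ hφ) ha
  obtain ⟨σ, hσ⟩ := sX.exists_action G (fun φ _ a _ => Subgroup.mem_top _) hGZ
  obtain ⟨τ, hτ⟩ := sZ.exists_action G hGZ hGK
  haveI := sX.finite
  haveI := sZ.finite
  -- the basis of the upper layer
  set xv := sX.π x with hxv
  set wv := sX.π w with hwv
  have hind2 : ∀ i j : ZMod p, i • xv + j • wv = 0 → i = 0 ∧ j = 0 := by
    intro i j hij
    rw [hxv, hwv, ← ZMod.natCast_zmod_val i, ← ZMod.natCast_zmod_val j,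
      ← sX.map_pow_cast (Subgroup.mem_top x), ← sX.map_pow_cast (Subgroup.mem_top w),
      ← sX.map_mul _ (Subgroup.mem_top _) _ (Subgroup.mem_top _),
      sX.map_eq_zero _ (Subgroup.mem_top _)] at hij
    obtain ⟨hi, hj⟩ := plane_free C hw hwπ hij
    constructor
    · rw [← ZMod.natCast_zmod_val i]; exact (ZMod.natCast_eq_zero_iff _ p).2 hi
    · rw [← ZMod.natCast_zmod_val j]; exact (ZMod.natCast_eq_zero_iff _ p).2 hj
  have hspan2 : ∀ y, ∃ i j : ZMod p, sX.π y = i • xv + j • wv := by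
    intro y
    obtain ⟨i, j, ζ, hζ, rfl⟩ := plane_gen C y hw hwπ
    refine ⟨i, j, ?_⟩
    rw [sX.map_mul _ (Subgroup.mem_top _) _ (Subgroup.mem_top _),
      (sX.map_eq_zero ζ (Subgroup.mem_top _)).2 hζ, add_zero,
      sX.map_mul _ (Subgroup.mem_top _) _ (Subgroup.mem_top _),
      sX.map_pow_cast (Subgroup.mem_top _), sX.map_pow_cast (Subgroup.mem_top _)]
  have hdim2 : Module.finrank (ZMod p) W2 = 2 := by
    have hb : LinearIndependent (ZMod p) ![xv, wv] := by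
      rw [Fintype.linearIndependent_iff]
      intro f hf
      rw [Fin.sum_univ_two] at hf
      obtain ⟨h0, h1⟩ := hind2 _ _ hf
      intro i; fin_cases i <;> assumption
    have hsp : ⊤ ≤ Submodule.span (ZMod p) (Set.range ![xv, wv]) := by
      intro v _
      obtain ⟨y, -, rfl⟩ := sX.surj v
      obtain ⟨i, j, hij⟩ := hspan2 y
      rw [hij]
      exact Submodule.add_mem _ (Submodule.smul_mem _ _ (Submodule.subset_span ⟨0, rfl⟩))
        (Submodule.smul_mem _ _ (Submodule.subset_span ⟨1, rfl⟩))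
    rw [Module.finrank_eq_card_basis (Module.Basis.mk hb hsp), Fintype.card_fin]
  obtain ⟨kg, hkg⟩ := hgp
  have hgord : gG ^ p ^ kg = 1 := Subtype.ext hkg
  have hsq := sub_one_sq (σ gG) (k := kg) (by rw [← map_pow, hgord, map_one]) hdim2.le
  -- the fixed vector
  set z := g w * w⁻¹ with hz
  set zv := sX.π z with hzv
  have hgz : (σ gG - 1) wv = zv := by
    rw [LinearMap.sub_apply, Module.End.one_apply, hwv, hσ gG w (Subgroup.mem_top _), hzv, hz,
      sX.map_mul _ (Subgroup.mem_top _) _ (Subgroup.mem_top _), sX.map_inv (Subgroup.mem_top _),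
      sub_eq_add_neg]
  have hzw : ∀ i : ZMod p, zv ≠ i • wv := by
    intro i hi
    apply hgE
    refine Subgroup.eq_of_le_of_card_ge ?_ (Subgroup.card_map_of_injective g.injective).ge
    have hgwE : g w ∈ E := by
      have h1 : sX.π (g w) = sX.π (w ^ (i + 1).val) := by
        rw [sX.map_pow_cast (Subgroup.mem_top _), ZMod.natCast_zmod_val, add_smul, one_smul,
          ← hwv, ← hi, hzv, hz, sX.map_mul _ (Subgroup.mem_top _) _ (Subgroup.mem_top _),
          sX.map_inv (Subgroup.mem_top _), hwv, neg_add_cancel_right]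
      have h2 := ((mem_plane C).1 ((sX.eq_iff (Subgroup.mem_top _) (Subgroup.mem_top _)).1 h1.symm)).1
      have h3 := E.mul_mem (E.pow_mem hw (i + 1).val) h2
      rwa [mul_inv_cancel_left] at h3
    rintro _ ⟨e, he, rfl⟩
    obtain ⟨a, b, d, habd⟩ := C.span (s.π e)
    have h1 : (w ^ a.val)⁻¹ * e ∈ Zs := by
      refine (mem_plane C).2 ⟨E.mul_mem (E.inv_mem (E.pow_mem hw _)) he, ?_⟩
      rw [s.map_mul _ (E.inv_mem (E.pow_mem hw _)) _ he, s.map_inv (E.pow_mem hw _),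
        s.map_pow_cast hw, ZMod.natCast_zmod_val, hwπ, habd]
      simp only [map_add, map_neg, map_smul, C.dw, C.dP, C.dQ]
      module
    have h2 := ((mem_plane C).1 (hGZ g gG.2 _ h1)).1
    rw [map_mul, map_inv, map_pow] at h2
    show g e ∈ E
    exact (E.mul_mem_cancel_left (E.inv_mem (E.pow_mem hgwE _))).1 h2
  have hz0 : zv ≠ 0 := fun h0 => hzw 0 (by rw [h0, zero_smul])
  have hgzv : (σ gG - 1) zv = 0 := by rw [← hgz]; exact hsq wv
  obtain ⟨α, β, hαβ⟩ := hspan2 z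
  have hα : α ≠ 0 := fun h0 => hzw β (by rw [hzv, hαβ, h0, zero_smul, zero_add])
  have hspan2' : ∀ y, ∃ i j : ZMod p, sX.π y = i • zv + j • wv := by
    intro y
    obtain ⟨i, j, hij⟩ := hspan2 y
    refine ⟨i / α, j - i / α * β, ?_⟩
    rw [hij, hzv, hαβ]
    match_scalars <;> field_simp <;> ring
  have hgr : ∀ v, ∃ γ : ZMod p, (σ gG - 1) v = γ • zv := by
    intro v
    obtain ⟨y, -, rfl⟩ := sX.surj v
    obtain ⟨i, j, hij⟩ := hspan2' y
    exact ⟨j, by rw [hij, map_add, map_smul, map_smul, hgzv, hgz, smul_zero, zero_add]⟩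
  have htx : σ tG xv = (l * l) • xv := by
    rw [hxv, hσ tG x (Subgroup.mem_top _)]
    show sX.π (θ x) = _
    rw [hrx, sX.map_mul _ (Subgroup.mem_top _) _ (Subgroup.mem_top _),
      (sX.map_eq_zero r (Subgroup.mem_top _)).2 ((mem_plane C).2 ⟨hr, hrT⟩), zero_add,
      sX.map_pow_cast (Subgroup.mem_top _), ZMod.natCast_zmod_val]
  have htw : σ tG wv = l⁻¹ • wv := by
    rw [hwv, hσ tG w (Subgroup.mem_top _)]
    show sX.π (θ w) = _
    rw [← ZMod.natCast_zmod_val l⁻¹, ← sX.map_pow_cast (Subgroup.mem_top _),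
      sX.eq_iff (Subgroup.mem_top _) (Subgroup.mem_top _)]
    refine (mem_plane C).2 ⟨E.mul_mem (E.inv_mem (C.mapsE w hw)) (E.pow_mem hw _), ?_⟩
    rw [s.map_mul _ (E.inv_mem (C.mapsE w hw)) _ (E.pow_mem hw _), s.map_inv (C.mapsE w hw),
      ← C.hθ w hw, hwπ, C.hw, s.map_pow_cast hw, ZMod.natCast_zmod_val, hwπ, neg_add_cancel,
      map_zero]
  -- the lower layer
  have hp0Z : p0 ∈ Zs := (mem_plane C).2 ⟨hp0, by rw [hp0π, C.dP]⟩
  have hqZ : q ∈ Zs := (mem_plane C).2 ⟨hq, by rw [hqπ, C.dQ]⟩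
  set uP := sZ.π p0 with huP
  set uQ := sZ.π q with huQ
  have hsame : ∀ a ∈ Zs, ∀ γ δ : ZMod p, s.π a = γ • vP + δ • vQ → sZ.π a = γ • uP + δ • uQ := by
    intro a ha γ δ hγδ
    have hy : p0 ^ γ.val * q ^ δ.val ∈ E := E.mul_mem (E.pow_mem hp0 _) (E.pow_mem hq _)
    have h1 : s.π (p0 ^ γ.val * q ^ δ.val) = s.π a := by
      rw [s.map_mul _ (E.pow_mem hp0 _) _ (E.pow_mem hq _), s.map_pow_cast hp0, s.map_pow_cast hq,
        hp0π, hqπ, ZMod.natCast_zmod_val, ZMod.natCast_zmod_val, hγδ]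
    have h2 := (s.eq_iff hy ((mem_plane C).1 ha).1).1 h1
    rw [← (sZ.eq_iff (Zs.mul_mem (Zs.pow_mem hp0Z _) (Zs.pow_mem hqZ _)) ha).2 h2,
      sZ.map_mul _ (Zs.pow_mem hp0Z _) _ (Zs.pow_mem hqZ _), sZ.map_pow_cast hp0Z,
      sZ.map_pow_cast hqZ, ← huP, ← huQ, ZMod.natCast_zmod_val, ZMod.natCast_zmod_val]
  have hspanZ : ∀ v, ∃ γ δ : ZMod p, v = γ • uP + δ • uQ := by
    intro v
    obtain ⟨a, ha, rfl⟩ := sZ.surj v
    obtain ⟨γ, δ, h1⟩ := eq_of_fixed C ((mem_plane C).1 ha).2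
    exact ⟨γ, δ, hsame a ha γ δ h1⟩
  have hindZ : ∀ γ δ : ZMod p, γ • uP + δ • uQ = 0 → γ = 0 ∧ δ = 0 := by
    intro γ δ h0
    rw [huP, huQ, ← ZMod.natCast_zmod_val γ, ← ZMod.natCast_zmod_val δ, ← sZ.map_pow_cast hp0Z,
      ← sZ.map_pow_cast hqZ, ← sZ.map_mul _ (Zs.pow_mem hp0Z _) _ (Zs.pow_mem hqZ _),
      sZ.map_eq_zero _ (Zs.mul_mem (Zs.pow_mem hp0Z _) (Zs.pow_mem hqZ _))] at h0
    have h1 := (s.map_eq_zero _ (E.mul_mem (E.pow_mem hp0 _) (E.pow_mem hq _))).2 h0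
    rw [s.map_mul _ (E.pow_mem hp0 _) _ (E.pow_mem hq _), s.map_pow_cast hp0, s.map_pow_cast hq,
      hp0π, hqπ, ZMod.natCast_zmod_val, ZMod.natCast_zmod_val] at h1
    exact (C.indep 0 γ δ (by rw [zero_smul, zero_add, h1])).2
  have hcomm : ∀ a y : X, ∃ γ : ZMod p, sZ.π ⁅a, y⁆ = γ • uP := by
    intro a y
    obtain ⟨γ, hγ⟩ := Submodule.mem_span_singleton.1 (comm_mem_line C a y).2
    exact ⟨γ, by rw [hsame _ (hline a y) γ 0 (by rw [← hγ, zero_smul, add_zero]), zero_smul,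
      add_zero]⟩
  have hxwZ : sZ.π ⁅x, w⁆ = c • uP := by
    rw [hsame _ (hline x w) c 0 (by
      rw [s.map_comm_left C.normal C.act hw, hwπ, LinearMap.sub_apply, Module.End.one_apply, C.dw,
        add_sub_cancel_left, zero_smul, add_zero]), zero_smul, add_zero]
  have hlineG : ∀ φ : G, ∃ χ : ZMod p, τ φ uP = χ • uP := by
    intro φ
    obtain ⟨γ, hγ⟩ := hcomm ((φ : MulAut X) x) ((φ : MulAut X) w)
    refine ⟨c⁻¹ * γ, ?_⟩
    have h1 : τ φ (c • uP) = γ • uP := by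
      rw [← hxwZ, hτ φ _ (hline x w), map_commutatorElement, hγ]
    rw [map_smul] at h1
    rw [mul_smul, ← h1, smul_smul, inv_mul_cancel₀ C.c0, one_smul]
  have hgiter : ∀ (u : W) (γ : ZMod p), τ gG u = γ • u → ∀ n : ℕ, (τ gG ^ n) u = γ ^ n • u := by
    intro u γ hu n
    induction n with
    | zero => simp
    | succ n ih => rw [pow_succ', Module.End.mul_apply, ih, map_smul, hu, smul_smul, pow_succ]
  have hgP : τ gG uP = uP := by
    obtain ⟨χ, hχ⟩ := hlineG gG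
    have h1 := hgiter uP χ hχ (p ^ kg)
    rw [← map_pow, hgord, map_one, Module.End.one_apply, ZMod.pow_card_pow] at h1
    rw [hχ, ← h1]
  have hgQ : ∀ u, ∃ b : ZMod p, τ gG u = u + b • uP := by
    obtain ⟨γ, δ, hQ⟩ := hspanZ (τ gG uQ)
    have hiter : ∀ n : ℕ, ∃ γ' : ZMod p, (τ gG ^ n) uQ = γ' • uP + δ ^ n • uQ := by
      intro n
      induction n with
      | zero => exact ⟨0, by simp⟩
      | succ n ih =>
        obtain ⟨γ', hγ'⟩ := ih
        refine ⟨γ' + δ ^ n * γ, ?_⟩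
        rw [pow_succ', Module.End.mul_apply, hγ', map_add, map_smul, map_smul, hgP, hQ, pow_succ]
        module
    obtain ⟨γ', hγ'⟩ := hiter (p ^ kg)
    rw [← map_pow, hgord, map_one, Module.End.one_apply, ZMod.pow_card_pow] at hγ'
    obtain ⟨-, hδ⟩ := hindZ γ' (δ - 1) (by
      rw [sub_smul, one_smul, ← add_sub_assoc, ← hγ', sub_self])
    rw [sub_eq_zero] at hδ
    intro u
    obtain ⟨γ₁, δ₁, rfl⟩ := hspanZ u
    refine ⟨δ₁ * γ, ?_⟩
    rw [map_add, map_smul, map_smul, hgP, hQ, hδ]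
    module
  have htP : τ tG uP = l • uP := by
    rw [huP, hτ tG p0 hp0Z, hsame _ (hGZ θ tG.2 _ hp0Z) l 0 (by
      show s.π (θ p0) = _
      rw [← C.hθ p0 hp0, hp0π, C.hP, zero_smul, add_zero]), zero_smul, add_zero, ← huP]
  have htQ : τ tG uQ = uQ := by
    rw [huQ, hτ tG q hqZ, hsame _ (hGZ θ tG.2 _ hqZ) 0 1 (by
      show s.π (θ q) = _
      rw [← C.hθ q hq, hqπ, C.hQ, zero_smul, zero_add, one_smul]), zero_smul, zero_add, one_smul,
      ← huQ]
  obtain ⟨φ, μz, μw, χP, χQ, b, hwt⟩ := exists_weighted σ τ C.l0 C.l2 C.l3 hl5 hz0 hgzv hgz hgr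
    htx htw hαβ htP htQ hlineG hgP hgQ
  obtain ⟨cw, hcw⟩ := hcomm w z
  obtain ⟨e, he⟩ := hgQ uQ
  set k := (μz / μw).val
  have hk : (k : ZMod p) = μz / μw := ZMod.natCast_zmod_val _
  -- the twist acts trivially on the upper layer
  set ψ := φ * gG * φ⁻¹ * (gG ^ k)⁻¹ with hψ
  have hψval : ∀ a : X,
      (ψ : MulAut X) a = ((φ : MulAut X) * g * (φ : MulAut X)⁻¹ * (g ^ k)⁻¹) a := fun a => rfl
  have hφinv : ∀ (u : W2) (μ : ZMod p), μ ≠ 0 → σ φ u = μ • u → σ φ⁻¹ u = μ⁻¹ • u := by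
    intro u μ hμ hu
    conv_lhs => rw [show u = μ⁻¹ • σ φ u by rw [hu, smul_smul, inv_mul_cancel₀ hμ, one_smul]]
    rw [map_smul, rho_inv_apply]
  have hσψ : σ ψ = 1 := by
    have h1 : σ (φ * gG * φ⁻¹) = σ (gG ^ k) := by
      refine LinearMap.ext fun u => ?_
      obtain ⟨y, -, rfl⟩ := sX.surj u
      obtain ⟨i, j, hij⟩ := hspan2' y
      have hgd : ∀ v, σ gG v = v + (σ gG - 1) v := fun v => by simp
      rw [hij, map_pow, pow_apply_of_sq (σ gG) hsq, map_mul, map_mul, Module.End.mul_apply,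
        Module.End.mul_apply, map_add (σ φ⁻¹), map_smul, map_smul, hφinv _ _ hwt.z0 hwt.hz,
        hφinv _ _ hwt.w0 hwt.hw, hgd]
      simp only [map_add, map_smul, hgzv, hgz, hwt.hz, hwt.hw, smul_zero, zero_add, hk]
      match_scalars <;> field_simp [hwt.z0, hwt.w0]
    rw [hψ, map_mul, h1, ← map_mul, mul_inv_cancel, map_one]
  have hψX : ∀ a, sX.π ((ψ : MulAut X) a) = sX.π a := fun a => by
    rw [← hσ ψ a (Subgroup.mem_top a), hσψ, Module.End.one_apply]
  have hψE : ∀ a ∈ E, (ψ : MulAut X) a ∈ E ∧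
      T (s.π ((ψ : MulAut X) a) - s.π a) = s.π ((ψ : MulAut X) a) - s.π a := by
    intro a ha
    obtain ⟨h2, h3⟩ := (mem_plane C).1
      ((sX.eq_iff (Subgroup.mem_top _) (Subgroup.mem_top _)).1 (hψX a).symm)
    have h4 : (ψ : MulAut X) a ∈ E := by
      have h5 := E.mul_mem ha h2
      rwa [mul_inv_cancel_left] at h5
    rw [s.map_mul _ (E.inv_mem ha) _ h4, s.map_inv ha, neg_add_eq_sub] at h3
    exact ⟨h4, h3⟩
  -- and unipotently on the lower one
  let H : Subgroup G :=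
    { carrier := {φ | τ φ uP = uP ∧ ∀ u, ∃ b : ZMod p, τ φ u = u + b • uP}
      one_mem' := ⟨by simp, fun u => ⟨0, by simp⟩⟩
      mul_mem' := fun {φ₁ φ₂} ⟨h1, h1'⟩ ⟨h2, h2'⟩ => ⟨by
        rw [map_mul, Module.End.mul_apply, h2, h1], fun u => by
        obtain ⟨b₂, hb₂⟩ := h2' u
        obtain ⟨b₁, hb₁⟩ := h1' u
        refine ⟨b₁ + b₂, ?_⟩
        rw [map_mul, Module.End.mul_apply, hb₂, map_add, map_smul, hb₁, h1]
        module⟩
      inv_mem' := fun {φ₁} ⟨h1, h1'⟩ => by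
        have h2 : τ φ₁⁻¹ uP = uP := by
          conv_lhs => rw [← h1]
          exact rho_inv_apply τ φ₁ uP
        refine ⟨h2, fun u => ?_⟩
        obtain ⟨b₁, hb₁⟩ := h1' u
        refine ⟨-b₁, ?_⟩
        have h3 := congrArg (τ φ₁⁻¹) hb₁
        rw [rho_inv_apply, map_add, map_smul, h2] at h3
        rw [eq_sub_of_add_eq h3.symm]
        module }
  have hgH : gG ∈ H := ⟨hgP, hgQ⟩
  have hψH : ψ ∈ H := by
    refine H.mul_mem ?_ (H.inv_mem (H.pow_mem hgH k))
    obtain ⟨χ', hχ'⟩ := hlineG φ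
    obtain ⟨χ'', hχ''⟩ := hlineG φ⁻¹
    refine ⟨?_, fun u => ?_⟩
    · rw [map_mul, map_mul, Module.End.mul_apply, Module.End.mul_apply, hχ'', map_smul, hgP,
        ← hχ'', rho_apply_inv]
    · obtain ⟨b₁, hb₁⟩ := hgQ (τ φ⁻¹ u)
      refine ⟨b₁ * χ', ?_⟩
      rw [map_mul, map_mul, Module.End.mul_apply, Module.End.mul_apply, hb₁, map_add, map_smul,
        rho_apply_inv, hχ', smul_smul]
  refine ⟨φ, φ.2.1, W, inferInstance, inferInstance, sZ, z, w, τ gG, τ φ, k, μz, cw, e, b, χP, χQ,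
    uP, uQ, ?_⟩
  exact
    { central := hcen
      expK := pow_mem_K C hxK
      gen := fun y => by
        obtain ⟨i, j, hij⟩ := hspan2' y
        refine ⟨i.val, j.val, (z ^ i.val * w ^ j.val)⁻¹ * y, ?_, (mul_inv_cancel_left _ _).symm⟩
        rw [← sX.eq_iff (Subgroup.mem_top _) (Subgroup.mem_top _),
          sX.map_mul _ (Subgroup.mem_top _) _ (Subgroup.mem_top _),
          sX.map_pow_cast (Subgroup.mem_top _), sX.map_pow_cast (Subgroup.mem_top _),
          ZMod.natCast_zmod_val, ZMod.natCast_zmod_val, hij]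
      free := fun i j hij => by
        rw [← sX.map_eq_zero _ (Subgroup.mem_top _),
          sX.map_mul _ (Subgroup.mem_top _) _ (Subgroup.mem_top _),
          sX.map_pow_cast (Subgroup.mem_top _), sX.map_pow_cast (Subgroup.mem_top _), ← hzv,
          ← hwv, hzv, hαβ] at hij
        obtain ⟨h1, h2⟩ := hind2 ((i : ZMod p) * α) ((i : ZMod p) * β + (j : ZMod p)) (by
          rw [← hij]
          module)
        have hi : (i : ZMod p) = 0 := (mul_eq_zero.1 h1).resolve_right hα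
        rw [hi, zero_mul, zero_add] at h2
        exact ⟨(ZMod.natCast_eq_zero_iff _ p).1 hi, (ZMod.natCast_eq_zero_iff _ p).1 h2⟩
      zw := ⟨hline w z, hcw⟩
      c0 := by
        intro h0
        rw [h0, zero_smul] at hcw
        -- otherwise `w` would be central
        have hzc : ⁅z, w⁆ ∈ step p E E :=
          comm_mem_swap ((sZ.map_eq_zero _ (hline w z)).1 hcw)
        obtain ⟨i, j, hij⟩ := hspan2' x
        have hζ : (z ^ i.val * w ^ j.val)⁻¹ * x ∈ Zs := by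
          rw [← sX.eq_iff (Subgroup.mem_top _) (Subgroup.mem_top _),
            sX.map_mul _ (Subgroup.mem_top _) _ (Subgroup.mem_top _),
            sX.map_pow_cast (Subgroup.mem_top _), sX.map_pow_cast (Subgroup.mem_top _),
            ZMod.natCast_zmod_val, ZMod.natCast_zmod_val, hij]
        refine exists_moved C hw hwπ C.notMem ?_
        set π := QuotientGroup.mk' (step p E E)
        have hq1 : ∀ y, ⁅y, w⁆ ∈ step p E E → y ∈ (Subgroup.centralizer {π w}).comap π :=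
          fun y hy => by
            rw [Subgroup.mem_comap, Subgroup.mem_centralizer_singleton_iff,
              ← commutatorElement_eq_one_iff_mul_comm, ← map_commutatorElement]
            exact (QuotientGroup.eq_one_iff _).2 hy
        set Cw := (Subgroup.centralizer {π w}).comap π with hCw
        have hx1 : x ∈ Cw := by
          rw [← mul_inv_cancel_left (z ^ i.val * w ^ j.val) x]
          refine Cw.mul_mem (Cw.mul_mem (Cw.pow_mem (hq1 z hzc) _) (Cw.pow_mem (hq1 w ?_) _))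
            (hq1 _ (comm_mem_swap (hcen _ hζ w)))
          rw [commutatorElement_self]
          exact Subgroup.one_mem _
        rw [hCw, Subgroup.mem_comap, Subgroup.mem_centralizer_singleton_iff,
          ← commutatorElement_eq_one_iff_mul_comm, ← map_commutatorElement] at hx1
        exact (QuotientGroup.eq_one_iff _).1 hx1
      gz := by
        rw [← sX.map_eq_zero _ (Subgroup.mem_top _),
          sX.map_mul _ (Subgroup.mem_top _) _ (Subgroup.mem_top _), sX.map_inv (Subgroup.mem_top _),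
          ← hσ gG z (Subgroup.mem_top _), ← hzv, ← sub_eq_add_neg]
        exact hgzv
      gw := rfl
      gK := hGK g gG.2
      gZ := hGZ g gG.2
      φK := hGK _ φ.2
      φZ := hGZ _ φ.2
      φz := by
        refine ⟨(z ^ μz.val)⁻¹ * (φ : MulAut X) z, ?_, (mul_inv_cancel_left _ _).symm⟩
        rw [← sX.eq_iff (Subgroup.mem_top _) (Subgroup.mem_top _),
          ← hσ φ z (Subgroup.mem_top _), sX.map_pow_cast (Subgroup.mem_top _),
          ZMod.natCast_zmod_val, ← hzv, hwt.hz]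
      actg := fun a ha => hτ gG a ha
      actΘ := fun a ha => hτ φ a ha
      gP := hgP
      gQ := he
      span := hspanZ
      indep := hindZ
      θP := hwt.hP
      θQ := hwt.hQ
      m0 := hwt.z0
      ne1 := by rw [hk]; exact hwt.ne1
      ne2 := by rw [hk]; exact hwt.ne2
      ne3 := by rw [hk]; exact hwt.ne3
      ne4 := by rw [hk]; exact hwt.ne4
      twist := fun a ha => (hψE a ha).1
      twistV := fun a ha u hu => hu ▸ (hψE a ha).2
      twistU := fun a ha => by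
        obtain ⟨γ, hγ⟩ := hψH.2 (sZ.π a)
        refine ⟨γ, fun a' _ ha' => ?_⟩
        rw [ha', ← hγ, hτ ψ a ha]
        rfl
      twistP := fun a ha haP => by
        have h1 := hτ ψ a ha
        rw [haP, hψH.1] at h1
        exact h1.symm }

end Transv

end CfsgLib.Fusion.RankThree
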