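import Cfsg.Agent.Lib.Fusion.RankThree.Action
import Cfsg.Agent.S0633

/-!
# Every representation of the automorphisms of an essential subgroup is free of normal `p`-subgroups
-/

set_option autoImplicit false
set_option linter.unusedSectionVars false
set_option linter.style.haveILetI false

namespace CfsgLib.Fusion.RankThree

universe u

variable {p : ℕ} [hp : Fact p.Prime] {V : Type u} [AddCommGroup V] [Module (ZMod p) V]
  {Γ : Type*} [Group Γ] {ρ : Γ →* Module.End (ZMod p) V}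

/-- The representation by linear automorphisms. -/
noncomputable def toEquiv (ρ : Γ →* Module.End (ZMod p) V) : Γ →* (V ≃ₗ[ZMod p] V) :=
  MonoidHom.mk' (fun γ => LinearEquiv.ofLinear (ρ γ) (ρ γ⁻¹)
      (LinearMap.ext fun v => rho_apply_inv ρ γ v) (LinearMap.ext fun v => rho_inv_apply ρ γ v))
    fun γ γ' => LinearEquiv.ext fun v => by
      simp [map_mul, Module.End.mul_apply]

theorem toEquiv_apply (γ : Γ) (v : V) : toEquiv ρ γ v = ρ γ v := rfl

theorem toEquiv_eq_one {γ : Γ} : toEquiv ρ γ = 1 ↔ ρ γ = 1 := by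
  constructor
  · exact fun h => LinearMap.ext fun v => DFunLike.congr_fun h v
  · exact fun h => LinearEquiv.ext fun v => by rw [toEquiv_apply, h]; rfl

variable {R : Sylow p Γ} {H : Subgroup Γ} (A : Setup ρ R H)

include A

set_option maxHeartbeats 800000 in
/-- A normal subgroup with `p`-group image in a group on which the representation factors has
trivial image there. -/
theorem Setup.normal_image_trivial [Finite Γ] [Finite V] (hp5 : 5 ≤ p) {x : Γ}
    (hx : x ∈ (R : Subgroup Γ)) (hx1 : ρ x ≠ 1) (hcube : (ρ x - 1) ^ 3 = 0) {G' : Type*} [Group G']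
    (σ : Γ →* G') (hσ : ∀ γ, ρ γ = 1 → σ γ = 1) (M : Subgroup Γ) [hMn : M.Normal]
    (hMp : ∀ γ ∈ M, ∃ k, σ γ ^ p ^ k = 1) : ∀ γ ∈ M, σ γ = 1 := by
  classical
  have hTp : ρ x ^ p = 1 := pow_p_of_cube (by omega) _ hcube
  have hσρ : ∀ γ γ', ρ γ = ρ γ' → σ γ = σ γ' := fun γ γ' h => by
    have h1 := hσ (γ⁻¹ * γ') (by rw [map_mul, ← h, ← map_mul, inv_mul_cancel, map_one])
    rwa [map_mul, map_inv, inv_mul_eq_one] at h1
  -- elements of `p`-power order are conjugate to powers of `x` modulo the kernel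
  have hconj : ∀ γ : Γ, (∃ k, ρ γ ^ p ^ k = 1) → ∃ δ, ∃ n : ℕ, ρ (δ * γ * δ⁻¹) = ρ x ^ n := by
    intro γ hγ
    obtain ⟨k, hk⟩ := hγ
    have hz : IsPGroup p (Subgroup.zpowers γ) := by
      rintro ⟨_, i, rfl⟩
      have h1 : γ ^ p ^ k ∈ (R : Subgroup Γ) := A.ker_R _ (by rw [map_pow, hk])
      obtain ⟨j, hj⟩ := R.2 ⟨_, h1⟩
      refine ⟨k + j, Subtype.ext ?_⟩
      have h2 : (γ ^ p ^ k) ^ p ^ j = 1 := congrArg Subtype.val hj
      show (γ ^ i) ^ p ^ (k + j) = 1
      rw [pow_add, ← zpow_natCast, ← zpow_mul, mul_comm i, zpow_mul, zpow_natCast, pow_mul, h2,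
        one_zpow]
    obtain ⟨Q, hQ⟩ := hz.exists_le_sylow
    obtain ⟨δ, hδ⟩ := MulAction.exists_smul_eq Γ Q R
    obtain ⟨n, hn⟩ := A.image_sylow hx hx1 (δ * γ * δ⁻¹) (by
      rw [← hδ, Sylow.coe_subgroup_smul, Subgroup.mem_pointwise_smul_iff_inv_smul_mem]
      simp only [← map_inv, MulAut.smul_def, MulAut.conj_apply]
      simpa [mul_assoc] using hQ (Subgroup.mem_zpowers γ))
    exact ⟨δ, n, hn⟩
  -- a power of `x` of exponent prime to `p`
  have hunit : ∀ n : ℕ, ¬ p ∣ n → ∃ m : ℕ, ρ x ^ (n * m) = ρ x := by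
    intro n hn
    obtain ⟨m, -, hm⟩ := Nat.exists_mul_mod_eq_one_of_coprime
      (Nat.coprime_comm.1 (hp.1.coprime_iff_not_dvd.2 hn)) hp.1.one_lt
    refine ⟨m, ?_⟩
    rw [← Nat.div_add_mod (n * m) p, hm, pow_add, pow_mul, hTp, one_pow, one_mul, pow_one]
  have hmove : ∀ N : Subgroup Γ, N.Normal → ∀ γ ∈ N, ∀ δ : Γ, ∀ n : ℕ, ¬ p ∣ n →
      ρ (δ * γ * δ⁻¹) = ρ x ^ n → ∃ x' ∈ N, ρ x' = ρ x := by
    intro N hN γ hγ δ n hn he
    obtain ⟨m, hm⟩ := hunit n hn
    exact ⟨(δ * γ * δ⁻¹) ^ m, N.pow_mem (hN.conj_mem γ hγ δ) m, by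
      rw [map_pow, he, ← pow_mul, hm]⟩
  -- the elements of `p`-power order behind an element of `M`
  have hppart : ∀ γ ∈ M, σ γ ≠ 1 → ∃ γ' ∈ M, σ γ' ≠ 1 ∧ ∃ k, ρ γ' ^ p ^ k = 1 := by
    intro γ hγ hne
    obtain ⟨k, hk⟩ := hMp γ hγ
    obtain ⟨e, m, hm, hem⟩ := Nat.exists_eq_pow_mul_and_not_dvd
      (orderOf_pos γ).ne' p hp.1.one_lt.ne'
    refine ⟨γ ^ m, M.pow_mem hγ m, fun h => hne ?_, e, ?_⟩
    · have hcop : Nat.Coprime (p ^ k) m := (hp.1.coprime_iff_not_dvd.2 hm).pow_left k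
      have h1 : orderOf (σ γ) ∣ p ^ k := orderOf_dvd_of_pow_eq_one hk
      have h2 : orderOf (σ γ) ∣ m := orderOf_dvd_of_pow_eq_one (by rw [← map_pow]; exact h)
      exact orderOf_eq_one_iff.1 (Nat.eq_one_of_dvd_coprimes hcop h1 h2)
    · rw [← map_pow, ← pow_mul, mul_comm m, ← hem, pow_orderOf_eq_one, map_one]
  intro γ hγ
  by_contra hne
  obtain ⟨γ', hγ', hne', hk'⟩ := hppart γ hγ hne
  obtain ⟨δ, n, hn⟩ := hconj γ' hk'
  have hσn : σ δ * σ γ' * (σ δ)⁻¹ = σ x ^ n := by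
    rw [← map_inv, ← map_mul, ← map_mul, ← map_pow]
    exact hσρ _ _ (by rw [hn, map_pow])
  have hσxp : σ x ^ p = 1 := by rw [← map_pow]; exact hσ _ (by rw [map_pow, hTp])
  have hpn : ¬ p ∣ n := by
    rintro ⟨c, rfl⟩
    rw [pow_mul, hσxp, one_pow] at hσn
    exact hne' (conj_eq_one_iff.1 hσn)
  have hσx : σ x ≠ 1 := fun h => hne' (by
    rw [h, one_pow] at hσn
    exact conj_eq_one_iff.1 hσn)
  obtain ⟨x', hx'M, hx'⟩ := hmove M hMn γ' hγ' δ n hpn hn
  -- the image of `M` on the space is `p`-solvable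
  set L : Γ →* (V ≃ₗ[ZMod p] V) := toEquiv ρ
  set HB := M.map L with hHB
  haveI : Finite (V ≃ₗ[ZMod p] V) := Finite.of_injective _ DFunLike.coe_injective
  have hsol : Cfsg.IsPSolvable p HB := by
    refine CfsgLib.PLocal.isPSolvable_map L ?_
    set N0 := (σ.comp M.subtype).ker
    haveI : N0.Normal := MonoidHom.normal_ker _
    refine CfsgLib.PLocal.isPSolvable_of_normal N0 ?_ (CfsgLib.PLocal.isPSolvable_of_isPGroup ?_)
    · -- the kernel
      set N1 := (L.comp (M.subtype.comp N0.subtype)).ker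
      haveI : N1.Normal := MonoidHom.normal_ker _
      refine CfsgLib.PLocal.isPSolvable_of_normal N1
        (CfsgLib.PLocal.isPSolvable_of_isPGroup ?_) (CfsgLib.PLocal.isPSolvable_of_coprime ?_)
      · rintro ⟨y, hy⟩
        have hy1 : ρ ((y : M) : Γ) = 1 := toEquiv_eq_one.1 (MonoidHom.mem_ker.1 hy)
        obtain ⟨j, hj⟩ := R.2 ⟨_, A.ker_R _ hy1⟩
        refine ⟨j, Subtype.ext (Subtype.ext (Subtype.ext ?_))⟩
        simpa using congrArg Subtype.val hj
      · rw [← Subgroup.index_eq_card, Subgroup.index_ker]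
        refine Nat.coprime_comm.1 (hp.1.coprime_iff_not_dvd.2 fun hd => ?_)
        obtain ⟨⟨_, y, rfl⟩, hord⟩ :=
          exists_prime_orderOf_dvd_card' (G := (L.comp (M.subtype.comp N0.subtype)).range) p hd
        have hy0 : σ ((y : M) : Γ) = 1 := MonoidHom.mem_ker.1 y.2
        have hLp : L ((y : M) : Γ) ^ p = 1 := by
          have h := pow_orderOf_eq_one
            ((L.comp (M.subtype.comp N0.subtype)).rangeRestrict y)
          rw [show orderOf ((L.comp (M.subtype.comp N0.subtype)).rangeRestrict y) = p from hord] at h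
          exact congrArg Subtype.val h
        have hy1 : ρ ((y : M) : Γ) ^ p ^ 1 = 1 := by
          rw [pow_one, ← map_pow, ← toEquiv_eq_one, map_pow]
          exact hLp
        obtain ⟨δ', n', hn'⟩ := hconj _ ⟨1, hy1⟩
        have hp' : p ∣ n' := by
          by_contra hpn'
          obtain ⟨m', hm'⟩ := hunit n' hpn'
          have h : σ ((δ' * ((y : M) : Γ) * δ'⁻¹) ^ m') = 1 := by
            rw [map_pow, map_mul, map_mul, hy0, mul_one, ← map_mul, mul_inv_cancel, map_one, one_pow]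
          rw [hσρ _ x (by rw [map_pow, hn', ← pow_mul, hm'])] at h
          exact hσx h
        obtain ⟨c, rfl⟩ := hp'
        rw [pow_mul, hTp, one_pow] at hn'
        have hy2 : ρ ((y : M) : Γ) = 1 := by
          have h : ρ δ' * ρ ((y : M) : Γ) * ρ δ'⁻¹ = 1 := by rw [← map_mul, ← map_mul]; exact hn'
          calc ρ ((y : M) : Γ) = ρ δ'⁻¹ * (ρ δ' * ρ ((y : M) : Γ) * ρ δ'⁻¹) * ρ δ' := by
                simp only [← map_mul]; congr 1; group
            _ = 1 := by rw [h, mul_one, ← map_mul, inv_mul_cancel, map_one]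
        refine hp.1.one_lt.ne' ?_
        rw [← hord, orderOf_eq_one_iff]
        exact Subtype.ext (toEquiv_eq_one.2 hy2)
    · rintro z
      obtain ⟨⟨y, hy⟩, rfl⟩ := QuotientGroup.mk'_surjective N0 z
      obtain ⟨k, hk⟩ := hMp y hy
      refine ⟨k, ?_⟩
      rw [← map_pow]
      exact (QuotientGroup.eq_one_iff _).2 (by
        show σ ((⟨y, hy⟩ ^ p ^ k : M) : Γ) = 1
        rw [SubmonoidClass.coe_pow, map_pow]; exact hk)
  -- its core is trivial
  have hO : Cfsg.pCore p HB = ⊥ := by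
    rw [eq_bot_iff]
    intro z hz
    haveI : (HB.subgroupOf L.range).Normal := ⟨by
      rintro ⟨_, a, rfl⟩ ha ⟨_, g, rfl⟩
      obtain ⟨m, hm, hma⟩ := ha
      exact ⟨g * m * g⁻¹, hMn.conj_mem m hm g, by simp [hma]⟩⟩
    set N := (((Cfsg.pCore p HB).map HB.subtype).comap L) with hN
    have hNn : N.Normal := by
      refine ⟨fun a ha g => ?_⟩
      have hnorm : L g ∈ Subgroup.normalizer (HB : Set (V ≃ₗ[ZMod p] V)) := by
        refine Subgroup.mem_normalizer_iff_map_conj_eq.2 (Subgroup.eq_of_le_of_card_ge ?_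
          (Subgroup.card_map_of_injective (MulAut.conj (L g)).injective).ge)
        rintro _ ⟨_, ⟨m, hm, rfl⟩, rfl⟩
        exact ⟨g * m * g⁻¹, hMn.conj_mem m hm g, by simp⟩
      show L (g * a * g⁻¹) ∈ (Cfsg.pCore p HB).map HB.subtype
      rw [map_mul, map_mul, map_inv]
      exact (Subgroup.mem_normalizer_iff.1
        (CfsgLib.Base.normalizer_le_normalizer_map_subtype HB (Cfsg.pCore p HB) hnorm) _).1 ha
    obtain ⟨m, hm, hmz⟩ : ∃ m ∈ M, L m = (z : V ≃ₗ[ZMod p] V) := z.2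
    have h1 := A.rad N hNn (fun a ha => by
      obtain ⟨k, hk⟩ := CfsgLib.Base.isPGroup_map_pCore p HB ⟨_, ha⟩
      refine ⟨k, ?_⟩
      rw [← map_pow, ← toEquiv_eq_one, map_pow]
      exact congrArg Subtype.val hk) m (Subgroup.mem_comap.2 (by rw [hmz]; exact ⟨z, hz, rfl⟩))
    exact Subgroup.mem_bot.2 (Subtype.ext (hmz ▸ toEquiv_eq_one.2 h1))
  haveI : Nontrivial V := Module.nontrivial_of_finrank_pos (R := ZMod p) (by rw [A.dim]; norm_num)
  haveI : FiniteDimensional (ZMod p) V :=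
    Module.finite_of_finrank_pos (by rw [A.dim]; norm_num)
  -- Theorem B of Hall and Higman
  have hxB : L x ∈ HB := ⟨x', hx'M, LinearEquiv.ext fun v => by
    rw [toEquiv_apply, toEquiv_apply, hx']⟩
  have hord : orderOf (L x) = p ^ 1 := by
    rw [pow_one]
    refine orderOf_eq_prime ?_ fun h => hx1 (toEquiv_eq_one.1 h)
    rw [← map_pow, toEquiv_eq_one, map_pow, hTp]
  have hcoe : ((L x : V ≃ₗ[ZMod p] V) : Module.End (ZMod p) V) = ρ x := LinearMap.ext fun v => rfl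
  have hdvd : minpoly (ZMod p) ((L x : V ≃ₗ[ZMod p] V) : Module.End (ZMod p) V) ∣
      (Polynomial.X - 1) ^ 3 := minpoly.dvd _ _ (by
    rw [map_pow, map_sub, Polynomial.aeval_X, map_one, hcoe, hcube])
  obtain ⟨r, hr3, hr⟩ := (dvd_prime_pow (Polynomial.prime_X_sub_C (1 : ZMod p)) _).1
    (by simpa using hdvd)
  rw [map_one] at hr
  have hr' : minpoly (ZMod p) ((L x : V ≃ₗ[ZMod p] V) : Module.End (ZMod p) V) =
      (Polynomial.X - 1) ^ r :=
    Polynomial.eq_of_monic_of_associated (minpoly.monic (Algebra.IsIntegral.isIntegral _))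
      ((Polynomial.monic_X_sub_C (1 : ZMod p)).pow r |> fun h => by rwa [map_one] at h) hr
  rcases Cfsg.Agent.S0633.result HB hsol hO (L x) hxB 1 hord r hr' with h | ⟨n₀, q, m, h1, h2, -, -, -, -, h3⟩
  · rw [pow_one] at h; omega
  · obtain rfl : n₀ = 1 := by omega
    rw [Nat.sub_self, pow_zero, one_mul, pow_one] at h3
    omega

end CfsgLib.Fusion.RankThree
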