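import Mathlib
import Cfsg.Prelude.Def_CaseTheorems

/-!
# Elementary sections as vector spaces over the field with `p` elements
-/

set_option autoImplicit false
set_option linter.unusedSectionVars false
set_option linter.style.haveILetI false

namespace CfsgLib.Fusion.RankThree

open scoped commutatorElement

universe u

variable {p : ℕ} [hp : Fact p.Prime] {X : Type u} [Group X]

/-- The subgroup generated by the `p`-th powers of the members of `A`. -/
def pw (p : ℕ) (A : Subgroup X) : Subgroup X := Subgroup.closure ((fun a => a ^ p) '' (A : Set X))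

theorem pow_mem_pw {A : Subgroup X} {a : X} (ha : a ∈ A) : a ^ p ∈ pw p A :=
  Subgroup.subset_closure ⟨a, ha, rfl⟩

theorem pw_le {A B : Subgroup X} (h : ∀ a ∈ A, a ^ p ∈ B) : pw p A ≤ B := by
  rw [pw, Subgroup.closure_le]
  rintro _ ⟨a, ha, rfl⟩
  exact h a ha

theorem pw_normal {A : Subgroup X} (hA : A.Normal) : (pw p A).Normal := by
  constructor
  intro n hn g
  have h : (pw p A).map (MulAut.conj g).toMonoidHom ≤ pw p A := by
    rw [pw, MonoidHom.map_closure, Subgroup.closure_le]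
    rintro _ ⟨_, ⟨a, ha, rfl⟩, rfl⟩
    refine Subgroup.subset_closure ⟨g * a * g⁻¹, hA.conj_mem a ha g, ?_⟩
    simp [conj_pow]
  exact h ⟨n, hn, rfl⟩

theorem pw_map {A : Subgroup X} {Y : Type u} [Group Y] (f : X →* Y) :
    (pw p A).map f = pw p (A.map f) := by
  rw [pw, pw, MonoidHom.map_closure, ← Set.image_comp, Subgroup.coe_map, ← Set.image_comp]
  congr 1
  exact Set.image_congr fun a _ => map_pow f a p

/-- The next term `[A, B] A^p` of a series. -/
def step (p : ℕ) (A B : Subgroup X) : Subgroup X := ⁅A, B⁆ ⊔ pw p A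

theorem step_map {A B : Subgroup X} (f : MulAut X) :
    (step p A B).map f.toMonoidHom = step p (A.map f.toMonoidHom) (B.map f.toMonoidHom) := by
  rw [step, step, Subgroup.map_sup, Subgroup.map_commutator, pw_map]

theorem step_normal {A B : Subgroup X} [A.Normal] [B.Normal] : (step p A B).Normal := by
  have := pw_normal (p := p) (‹A.Normal›)
  exact Subgroup.sup_normal _ _

theorem comm_mem_step {A B : Subgroup X} {a b : X} (ha : a ∈ A) (hb : b ∈ B) :
    ⁅a, b⁆ ∈ step p A B :=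
  Subgroup.mem_sup_left (Subgroup.commutator_mem_commutator ha hb)

theorem pow_mem_step {A B : Subgroup X} {a : X} (ha : a ∈ A) : a ^ p ∈ step p A B :=
  Subgroup.mem_sup_right (pow_mem_pw ha)

/-- An elementary section `A / B` presented by a map onto a vector space. -/
structure SecMap (p : ℕ) (A B : Subgroup X) (V : Type u) [AddCommGroup V]
    [Module (ZMod p) V] where
  /-- The projection, meaningful on `A`. -/
  π : X → V
  le : B ≤ A
  map_mul : ∀ a ∈ A, ∀ b ∈ A, π (a * b) = π a + π b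
  map_eq_zero : ∀ a ∈ A, (π a = 0 ↔ a ∈ B)
  surj : ∀ v, ∃ a ∈ A, π a = v

theorem exists_secMap {A B : Subgroup X} (hBA : B ≤ A)
    (hn : ∀ a ∈ A, ∀ b ∈ B, a * b * a⁻¹ ∈ B) (hc : ∀ a ∈ A, ∀ b ∈ A, ⁅a, b⁆ ∈ B)
    (hpw : ∀ a ∈ A, a ^ p ∈ B) :
    ∃ (V : Type u) (_ : AddCommGroup V) (_ : Module (ZMod p) V), Nonempty (SecMap p A B V) := by
  classical
  haveI : (B.subgroupOf A).Normal := ⟨fun b hb a => hn a a.2 b hb⟩
  haveI : IsMulCommutative (A ⧸ B.subgroupOf A) := by
    refine ⟨⟨fun x y => ?_⟩⟩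
    obtain ⟨a, rfl⟩ := QuotientGroup.mk'_surjective (B.subgroupOf A) x
    obtain ⟨b, rfl⟩ := QuotientGroup.mk'_surjective (B.subgroupOf A) y
    rw [← commutatorElement_eq_one_iff_mul_comm, ← map_commutatorElement,
      QuotientGroup.mk'_apply, QuotientGroup.eq_one_iff]
    exact hc a a.2 b b.2
  letI : CommGroup (A ⧸ B.subgroupOf A) := { mul_comm := mul_comm' }
  letI : Module (ZMod p) (Additive (A ⧸ B.subgroupOf A)) := AddCommGroup.zmodModule fun u => by
    obtain ⟨a, ha⟩ := QuotientGroup.mk'_surjective (B.subgroupOf A) u.toMul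
    refine Additive.toMul.injective ?_
    rw [toMul_nsmul, ← ha, ← map_pow, toMul_zero, QuotientGroup.mk'_apply,
      QuotientGroup.eq_one_iff]
    exact hpw a a.2
  refine ⟨Additive (A ⧸ B.subgroupOf A), inferInstance, inferInstance, ⟨{
    π := fun x => if h : x ∈ A then Additive.ofMul (QuotientGroup.mk' _ (⟨x, h⟩ : A)) else 0
    le := hBA
    map_mul := fun a ha b hb => ?_
    map_eq_zero := fun a ha => ?_
    surj := fun v => ?_ }⟩⟩
  · rw [dif_pos (A.mul_mem ha hb), dif_pos ha, dif_pos hb, ← ofMul_mul, ← _root_.map_mul]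
    rfl
  · rw [dif_pos ha, ofMul_eq_zero, QuotientGroup.mk'_apply, QuotientGroup.eq_one_iff]
    exact Iff.rfl
  · obtain ⟨⟨a, ha⟩, h⟩ := QuotientGroup.mk'_surjective (B.subgroupOf A) v.toMul
    exact ⟨a, ha, by rw [dif_pos ha, h, ofMul_toMul]⟩

namespace SecMap

variable {A B : Subgroup X} {V : Type u} [AddCommGroup V] [Module (ZMod p) V]
  (s : SecMap p A B V)

include s

theorem map_one : s.π 1 = 0 := (s.map_eq_zero 1 A.one_mem).2 B.one_mem

theorem map_inv {a : X} (ha : a ∈ A) : s.π a⁻¹ = -s.π a := by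
  rw [eq_neg_iff_add_eq_zero, ← s.map_mul _ (A.inv_mem ha) _ ha, inv_mul_cancel, s.map_one]

theorem map_pow {a : X} (ha : a ∈ A) (n : ℕ) : s.π (a ^ n) = n • s.π a := by
  induction n with
  | zero => rw [pow_zero, zero_nsmul, s.map_one]
  | succ n ih => rw [pow_succ, s.map_mul _ (A.pow_mem ha n) _ ha, ih, succ_nsmul]

theorem map_pow_cast {a : X} (ha : a ∈ A) (n : ℕ) : s.π (a ^ n) = (n : ZMod p) • s.π a := by
  rw [s.map_pow ha, Nat.cast_smul_eq_nsmul]

theorem eq_iff {a b : X} (ha : a ∈ A) (hb : b ∈ A) : s.π a = s.π b ↔ a⁻¹ * b ∈ B := by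
  rw [← s.map_eq_zero _ (A.mul_mem (A.inv_mem ha) hb), s.map_mul _ (A.inv_mem ha) _ hb,
    s.map_inv ha, neg_add_eq_zero]

theorem conj_eq {a c : X} (ha : a ∈ A) (hc : c ∈ A) : s.π (c * a * c⁻¹) = s.π a := by
  rw [s.map_mul _ (A.mul_mem hc ha) _ (A.inv_mem hc), s.map_mul _ hc _ ha, s.map_inv hc]
  abel

theorem map_comm {a b : X} (ha : a ∈ A) (hb : b ∈ A) (_hab : ⁅a, b⁆ ∈ A) : s.π ⁅a, b⁆ = 0 := by
  rw [commutatorElement_def, s.map_mul _ (by simpa using A.mul_mem (A.mul_mem ha hb) (A.inv_mem ha))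
    _ (A.inv_mem hb), s.conj_eq hb ha, s.map_inv hb, add_neg_cancel]

theorem comm_mem {a b : X} (ha : a ∈ A) (hb : b ∈ A) : ⁅a, b⁆ ∈ B := by
  have h : ⁅a, b⁆ ∈ A := A.mul_mem (A.mul_mem (A.mul_mem ha hb) (A.inv_mem ha)) (A.inv_mem hb)
  exact (s.map_eq_zero _ h).1 (s.map_comm ha hb h)

theorem pow_mem {a : X} (ha : a ∈ A) : a ^ p ∈ B := by
  rw [← s.map_eq_zero _ (A.pow_mem ha p), s.map_pow_cast ha, ZMod.natCast_self, zero_smul]

/-- A map of `X` preserving `A` and `B` and multiplicative on `A` gives a linear map. -/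
theorem exists_linear {A' B' : Subgroup X} {V' : Type u} [AddCommGroup V'] [Module (ZMod p) V']
    (t : SecMap p A' B' V') (f : X → X) (hA : ∀ a ∈ A, f a ∈ A')
    (hB : ∀ b ∈ B, f b ∈ B') (hmul : ∀ a ∈ A, ∀ b ∈ A, f (a * b) = f a * f b) :
    ∃ T : V →ₗ[ZMod p] V', ∀ a ∈ A, T (s.π a) = t.π (f a) := by
  classical
  choose r hr hrv using s.surj
  have key : ∀ a ∈ A, ∀ b ∈ A, s.π a = s.π b → t.π (f a) = t.π (f b) := by
    intro a ha b hb h
    have h1 := (s.eq_iff ha hb).1 h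
    have h2 : f b = f a * f (a⁻¹ * b) := by
      rw [← hmul a ha _ (s.le h1), mul_inv_cancel_left]
    rw [h2, t.map_mul _ (hA a ha) _ (t.le (hB _ h1)), (t.map_eq_zero _ (t.le (hB _ h1))).2 (hB _ h1),
      add_zero]
  let T₀ : V →+ V' := AddMonoidHom.mk' (fun v => t.π (f (r v))) fun v w => by
    rw [key _ (hr (v + w)) _ (A.mul_mem (hr v) (hr w)) (by
      rw [hrv, s.map_mul _ (hr v) _ (hr w), hrv, hrv]), hmul _ (hr v) _ (hr w),
      t.map_mul _ (hA _ (hr v)) _ (hA _ (hr w))]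
  refine ⟨T₀.toZModLinearMap p, fun a ha => ?_⟩
  exact key _ (hr _) _ ha (hrv _)

/-- A map of two variables, additive in each modulo the targets, gives a bilinear map. -/
theorem exists_bilin {A' B' A'' B'' : Subgroup X} {V' V'' : Type u} [AddCommGroup V']
    [Module (ZMod p) V'] [AddCommGroup V''] [Module (ZMod p) V''] (t : SecMap p A' B' V')
    (r' : SecMap p A'' B'' V'') (c : X → X → X) (hm : ∀ a ∈ A, ∀ b ∈ A', c a b ∈ A'')
    (hl : ∀ a ∈ A, ∀ a' ∈ A, ∀ b ∈ A', r'.π (c (a * a') b) = r'.π (c a b) + r'.π (c a' b))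
    (hr : ∀ a ∈ A, ∀ b ∈ A', ∀ b' ∈ A', r'.π (c a (b * b')) = r'.π (c a b) + r'.π (c a b'))
    (hlB : ∀ a ∈ B, ∀ b ∈ A', c a b ∈ B'') (hrB : ∀ a ∈ A, ∀ b ∈ B', c a b ∈ B'') :
    ∃ F : V →ₗ[ZMod p] V' →ₗ[ZMod p] V'', ∀ a ∈ A, ∀ b ∈ A', F (s.π a) (t.π b) = r'.π (c a b) := by
  classical
  choose ra hra hrav using s.surj
  choose rb hrb hrbv using t.surj
  have key : ∀ a ∈ A, ∀ a' ∈ A, ∀ b ∈ A', ∀ b' ∈ A', s.π a = s.π a' → t.π b = t.π b' →
      r'.π (c a b) = r'.π (c a' b') := by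
    intro a ha a' ha' b hb b' hb' hs ht
    have h1 := (s.eq_iff ha ha').1 hs
    have h2 := (t.eq_iff hb hb').1 ht
    have e1 := hl a ha _ (s.le h1) b' hb'
    have e2 := hr a ha b hb _ (t.le h2)
    rw [mul_inv_cancel_left] at e1 e2
    rw [e1, e2, (r'.map_eq_zero _ (hm _ (s.le h1) _ hb')).2 (hlB _ h1 _ hb'),
      (r'.map_eq_zero _ (hm _ ha _ (t.le h2))).2 (hrB _ ha _ h2), add_zero, add_zero]
  let F₁ : V → (V' →ₗ[ZMod p] V'') := fun v =>
    (AddMonoidHom.mk' (fun w => r'.π (c (ra v) (rb w))) fun w w' => by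
      rw [key _ (hra v) _ (hra v) _ (hrb (w + w')) _ (A'.mul_mem (hrb w) (hrb w')) rfl (by
        rw [hrbv, t.map_mul _ (hrb w) _ (hrb w'), hrbv, hrbv]),
        hr _ (hra v) _ (hrb w) _ (hrb w')] : V' →+ V'').toZModLinearMap p
  let F₀ : V →+ (V' →ₗ[ZMod p] V'') := AddMonoidHom.mk' F₁ fun v v' => LinearMap.ext fun w => by
    show r'.π (c (ra (v + v')) (rb w)) = r'.π (c (ra v) (rb w)) + r'.π (c (ra v') (rb w))
    rw [key _ (hra (v + v')) _ (A.mul_mem (hra v) (hra v')) _ (hrb w) _ (hrb w) (by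
      rw [hrav, s.map_mul _ (hra v) _ (hra v'), hrav, hrav]) rfl,
      hl _ (hra v) _ (hra v') _ (hrb w)]
  refine ⟨F₀.toZModLinearMap p, fun a ha b hb => ?_⟩
  exact key _ (hra _) _ ha _ (hrb _) _ hb (hrav _) (hrbv _)

/-- Multiplication by elements outside `A` through conjugation. -/
theorem exists_conj (n : X) (hA : ∀ a ∈ A, n * a * n⁻¹ ∈ A) (hB : ∀ b ∈ B, n * b * n⁻¹ ∈ B) :
    ∃ T : V →ₗ[ZMod p] V, ∀ a ∈ A, T (s.π a) = s.π (n * a * n⁻¹) :=
  s.exists_linear s (fun a => n * a * n⁻¹) hA hB fun a _ b _ => by group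

theorem finite [Finite X] : Finite V :=
  Finite.of_surjective (fun a : A => s.π a) fun v => by
    obtain ⟨a, ha, h⟩ := s.surj v
    exact ⟨⟨a, ha⟩, h⟩

theorem card_mul [Finite X] : Nat.card V * Nat.card B = Nat.card A := by
  classical
  let φ : A →* Multiplicative V := MonoidHom.mk' (fun a => Multiplicative.ofAdd (s.π a))
    fun a b => congrArg Multiplicative.ofAdd (s.map_mul _ a.2 _ b.2)
  have hker : φ.ker = B.subgroupOf A := by
    ext a
    rw [MonoidHom.mem_ker, Subgroup.mem_subgroupOf, ← s.map_eq_zero _ a.2]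
    exact Iff.rfl
  have hsur : Function.Surjective φ := fun v => by
    obtain ⟨a, ha, h⟩ := s.surj v.toAdd
    exact ⟨⟨a, ha⟩, congrArg Multiplicative.ofAdd h⟩
  have := φ.ker.card_mul_index
  rw [Subgroup.index_ker, MonoidHom.range_eq_top.2 hsur, Subgroup.card_top, hker,
    Nat.card_congr (Subgroup.subgroupOfEquivOfLe s.le).toEquiv,
    Nat.card_congr Multiplicative.toAdd] at this
  rw [mul_comm]
  exact this

/-- An elementary section is bounded by the sectional rank. -/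
theorem card_le {k : ℕ} [Finite X] (h : Cfsg.SectionalPRankLE p k X) : Nat.card V ≤ p ^ k := by
  classical
  let φ : A →* Multiplicative V := MonoidHom.mk' (fun a => Multiplicative.ofAdd (s.π a))
    fun a b => congrArg Multiplicative.ofAdd (s.map_mul _ a.2 _ b.2)
  have hsur : Function.Surjective φ := fun v => by
    obtain ⟨a, ha, h⟩ := s.surj v.toAdd
    exact ⟨⟨a, ha⟩, congrArg Multiplicative.ofAdd h⟩
  let e := QuotientGroup.quotientKerEquivOfSurjective φ hsur
  have hc : IsMulCommutative (⊤ : Subgroup (A ⧸ φ.ker)) :=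
    ⟨⟨fun a b => Subtype.ext (e.injective (by
      rw [Subgroup.coe_mul, Subgroup.coe_mul, _root_.map_mul, _root_.map_mul, mul_comm]))⟩⟩
  have := h A φ.ker ⊤ hc fun a _ => e.injective (by
    rw [_root_.map_pow, _root_.map_one, ← Multiplicative.toAdd.injective.eq_iff, toAdd_pow,
      toAdd_one, ← Nat.cast_smul_eq_nsmul (ZMod p), ZMod.natCast_self, zero_smul])
  rwa [Subgroup.card_top, Nat.card_congr e.toEquiv, Nat.card_congr Multiplicative.toAdd] at this

theorem finrank_le {k : ℕ} [Finite X] (h : Cfsg.SectionalPRankLE p k X) :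
    Module.finrank (ZMod p) V ≤ k := by
  have := s.finite
  have h1 := s.card_le h
  rw [Module.natCard_eq_pow_finrank (K := ZMod p) (V := V), Nat.card_zmod] at h1
  exact (Nat.pow_le_pow_iff_right (Fact.out : p.Prime).one_lt).1 h1

end SecMap

end CfsgLib.Fusion.RankThree
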