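import Mathlib
import Cfsg.Agent.Lib.Fusion.RankThree.Sec

/-!
# Series built from commutators and `p`-th powers
-/

set_option autoImplicit false
set_option linter.unusedSectionVars false
set_option linter.style.haveILetI false

namespace CfsgLib.Fusion.RankThree

open scoped commutatorElement

universe u

variable {p : ℕ} [hp : Fact p.Prime] {X : Type u} [Group X]

theorem step_le {A B C : Subgroup X} (hc : ∀ a ∈ A, ∀ b ∈ B, ⁅a, b⁆ ∈ C)
    (hpw : ∀ a ∈ A, a ^ p ∈ C) : step p A B ≤ C :=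
  sup_le (Subgroup.commutator_le.2 hc) (pw_le hpw)

theorem step_mono {A A' B B' : Subgroup X} (hA : A ≤ A') (hB : B ≤ B') :
    step p A B ≤ step p A' B' :=
  step_le (fun _ ha _ hb => comm_mem_step (hA ha) (hB hb)) fun _ ha => pow_mem_step (hA ha)

theorem step_le_self {A B : Subgroup X} (hA : A.Normal) : step p A B ≤ A :=
  step_le (fun a ha b _ => by
    rw [commutatorElement_def, mul_assoc a, mul_assoc a]
    exact A.mul_mem ha (hA.conj_mem _ (A.inv_mem ha) b)) fun _ ha => A.pow_mem ha p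

theorem comm_mem_swap {A : Subgroup X} {a b : X} (h : ⁅a, b⁆ ∈ A) : ⁅b, a⁆ ∈ A := by
  rw [← commutatorElement_inv a b]
  exact A.inv_mem h

/-- Commuting modulo a normal subgroup with `x` and with `E` gives commuting with everything. -/
theorem comm_top_mem {N E : Subgroup X} (hN : N.Normal) {x : X}
    (htop : E ⊔ Subgroup.zpowers x = ⊤) {a : X} (hx : ⁅a, x⁆ ∈ N) (hE : ∀ e ∈ E, ⁅a, e⁆ ∈ N)
    (y : X) : ⁅a, y⁆ ∈ N := by
  let C : Subgroup X :=
    (Subgroup.centralizer {QuotientGroup.mk' N a}).comap (QuotientGroup.mk' N)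
  have key : ∀ z, z ∈ C ↔ ⁅a, z⁆ ∈ N := fun z => by
    rw [Subgroup.mem_comap, Subgroup.mem_centralizer_singleton_iff, ← QuotientGroup.eq_one_iff,
      show ((⁅a, z⁆ : X) : X ⧸ N) = QuotientGroup.mk' N ⁅a, z⁆ from rfl, map_commutatorElement,
      commutatorElement_eq_one_iff_mul_comm]
    exact eq_comm
  have h : (⊤ : Subgroup X) ≤ C := htop ▸ sup_le (fun e he => (key e).2 (hE e he))
    (Subgroup.zpowers_le.2 ((key x).2 hx))
  exact (key y).1 (h (Subgroup.mem_top y))

/-- Modulo a normal subgroup containing its commutators, `p`-th powers are multiplicative. -/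
theorem mul_pow_mem {N : Subgroup X} (hN : N.Normal) {a b : X} (h : ⁅a, b⁆ ∈ N) (n : ℕ) :
    (a ^ n * b ^ n)⁻¹ * (a * b) ^ n ∈ N := by
  rw [← QuotientGroup.eq, QuotientGroup.mk_mul, QuotientGroup.mk_pow, QuotientGroup.mk_pow,
    QuotientGroup.mk_pow, QuotientGroup.mk_mul]
  refine ((show Commute (a : X ⧸ N) (b : X ⧸ N) from ?_).mul_pow n).symm
  rw [commute_iff_eq, ← commutatorElement_eq_one_iff_mul_comm]
  exact (map_commutatorElement (QuotientGroup.mk' N) a b).symm.trans
    ((QuotientGroup.eq_one_iff _).2 h)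

/-- In a finite `p`-group a normal subgroup generated by a smaller term of its series and `N`
lies in `N`. -/
theorem le_of_le_step [Finite X] (hX : IsPGroup p X) {A N : Subgroup X} (hA : A.Normal)
    (hN : N.Normal) (h : A ≤ step p A ⊤ ⊔ N) : A ≤ N := by
  set π := QuotientGroup.mk' N
  have hπ : Function.Surjective π := QuotientGroup.mk'_surjective N
  set A' := A.map π with hA'
  haveI hA'n : A'.Normal := hA.map π hπ
  have h' : A' ≤ ⁅A', (⊤ : Subgroup (X ⧸ N))⁆ ⊔ pw p A' := by
    refine (Subgroup.map_mono (f := π) h).trans ?_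
    rw [Subgroup.map_sup, step, Subgroup.map_sup, Subgroup.map_commutator, pw_map,
      Subgroup.map_top_of_surjective π hπ, QuotientGroup.map_mk'_self, sup_bot_eq]
  set C := ⁅A', (⊤ : Subgroup (X ⧸ N))⁆ with hC
  have hCA : C ≤ A' := Subgroup.commutator_le_left _ _
  haveI : C.Normal := inferInstance
  have hpC : IsPGroup p ((X ⧸ N) ⧸ C) := (hX.to_quotient N).to_quotient C
  set ψ := QuotientGroup.mk' C
  set A₂ := A'.map ψ
  have hcen : ∀ a ∈ A₂, ∀ b : (X ⧸ N) ⧸ C, a * b = b * a := by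
    rintro _ ⟨a, ha, rfl⟩ b
    obtain ⟨b, rfl⟩ := QuotientGroup.mk'_surjective C b
    rw [← commutatorElement_eq_one_iff_mul_comm, ← map_commutatorElement]
    exact (QuotientGroup.eq_one_iff _).2
      (Subgroup.commutator_mem_commutator ha (Subgroup.mem_top _))
  have hpw : A₂ ≤ pw p A₂ := by
    refine (Subgroup.map_mono (f := ψ) h').trans ?_
    rw [Subgroup.map_sup, pw_map, QuotientGroup.map_mk'_self, bot_sup_eq]
  have hA2 : A₂ = ⊥ := by
    let P : A₂ →* A₂ := MonoidHom.mk' (fun a => a ^ p) fun a b =>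
      (show Commute a b from Subtype.ext (hcen a a.2 b)).mul_pow p
    have hsur : Function.Surjective P := by
      intro a
      have h1 : pw p A₂ ≤ P.range.map A₂.subtype := pw_le fun b hb =>
        ⟨P ⟨b, hb⟩, ⟨⟨b, hb⟩, rfl⟩, rfl⟩
      obtain ⟨c, ⟨d, rfl⟩, hd⟩ := h1 (hpw a.2)
      exact ⟨d, Subtype.ext hd⟩
    have hinj : Function.Injective P := Finite.injective_iff_surjective.2 hsur
    rw [Subgroup.eq_bot_iff_forall]
    intro a ha
    obtain ⟨k, hk⟩ := (hpC.to_subgroup A₂) ⟨a, ha⟩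
    have key : ∀ (k : ℕ) (b : A₂), b ^ p ^ k = 1 → b = 1 := by
      intro k
      induction k with
      | zero => intro b hb; rwa [pow_zero, pow_one] at hb
      | succ k ih =>
        intro b hb
        refine ih b (hinj ?_)
        show (b ^ p ^ k) ^ p = (1 : A₂) ^ p
        rw [one_pow, ← pow_mul, ← pow_succ]
        exact hb
    exact congrArg Subtype.val (key k ⟨a, ha⟩ hk)
  have hAC : A' ≤ C := by
    rw [← QuotientGroup.ker_mk' C]
    exact (Subgroup.map_eq_bot_iff _).1 hA2
  haveI : Group.IsNilpotent (X ⧸ N) := (hX.to_quotient N).isNilpotent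
  obtain ⟨n, hn⟩ : ∃ n, (⊤ : Subgroup (X ⧸ N)).lowerCentralSeries n = ⊥ :=
    ⟨_, Subgroup.lowerCentralSeries_nilpotencyClass⟩
  have hlcs : ∀ n, A' ≤ (⊤ : Subgroup (X ⧸ N)).lowerCentralSeries n := by
    intro n
    induction n with
    | zero => exact fun _ _ => by simp
    | succ n ih =>
      refine hAC.trans ?_
      rw [Subgroup.lowerCentralSeries_succ]
      exact Subgroup.commutator_mono ih le_rfl
  have hbot : A' = ⊥ := le_bot_iff.1 (hn ▸ hlcs n)
  rw [← QuotientGroup.ker_mk' N]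
  exact (Subgroup.map_eq_bot_iff _).1 hbot

/-- A map multiplicative on `E` respects the series inside `E`. -/
theorem step_mapsTo {E A B A' B' : Subgroup X} (β : X → X)
    (hmul : ∀ a ∈ E, ∀ b ∈ E, β (a * b) = β a * β b) (hA : A ≤ E) (hB : B ≤ E)
    (hA' : ∀ a ∈ A, β a ∈ A') (hB' : ∀ b ∈ B, β b ∈ B') {y : X} (hy : y ∈ step p A B) :
    β y ∈ step p A' B' := by
  let f : E →* X := MonoidHom.mk' (fun a => β a) fun a b => hmul a a.2 b b.2
  have h : step p A B ≤ ((step p A' B').comap f).map E.subtype := by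
    refine step_le (fun a ha b hb => ⟨⁅(⟨a, hA ha⟩ : E), ⟨b, hB hb⟩⁆, ?_, ?_⟩)
      fun a ha => ⟨(⟨a, hA ha⟩ : E) ^ p, ?_, rfl⟩
    · rw [SetLike.mem_coe, Subgroup.mem_comap, map_commutatorElement]
      exact comm_mem_step (hA' a ha) (hB' b hb)
    · rw [map_commutatorElement]; rfl
    · rw [SetLike.mem_coe, Subgroup.mem_comap, map_pow]
      exact pow_mem_step (hA' a ha)
  obtain ⟨c, hc, rfl⟩ := h hy
  exact hc

/-- Powers of the map induced by conjugation. -/
theorem SecMap.conj_pow_eq {A B : Subgroup X} {V : Type u} [AddCommGroup V] [Module (ZMod p) V]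
    (s : SecMap p A B V) (hA : A.Normal) {x : X} {T : Module.End (ZMod p) V}
    (hT : ∀ a ∈ A, T (s.π a) = s.π (x * a * x⁻¹)) (n : ℕ) :
    ∀ a ∈ A, (T ^ n) (s.π a) = s.π (x ^ n * a * (x ^ n)⁻¹) := by
  induction n with
  | zero => intro a _; simp
  | succ n ih =>
    intro a ha
    rw [pow_succ', Module.End.mul_apply, ih a ha, hT _ (hA.conj_mem a ha _), pow_succ']
    congr 1
    group

/-- The difference of conjugation from the identity is the commutator. -/
theorem SecMap.map_comm_left {A B : Subgroup X} {V : Type u} [AddCommGroup V] [Module (ZMod p) V]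
    (s : SecMap p A B V) (hA : A.Normal) {x : X} {T : Module.End (ZMod p) V}
    (hT : ∀ a ∈ A, T (s.π a) = s.π (x * a * x⁻¹)) {a : X} (ha : a ∈ A) :
    s.π ⁅x, a⁆ = (T - 1) (s.π a) := by
  rw [commutatorElement_def, s.map_mul _ (hA.conj_mem a ha x) _ (A.inv_mem ha), ← hT a ha,
    s.map_inv ha, LinearMap.sub_apply, Module.End.one_apply, sub_eq_add_neg]

/-- Conjugation by an element of `p`-power order is unipotent on a section. -/
theorem SecMap.exists_unipotent [Finite X] (hX : IsPGroup p X) {A B : Subgroup X} {V : Type u}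
    [AddCommGroup V] [Module (ZMod p) V] (s : SecMap p A B V) (hA : A.Normal) {x : X}
    {T : Module.End (ZMod p) V} (hT : ∀ a ∈ A, T (s.π a) = s.π (x * a * x⁻¹))
    : ∃ k, T ^ p ^ k = 1 := by
  obtain ⟨k, hk⟩ := hX x
  refine ⟨k, LinearMap.ext fun v => ?_⟩
  obtain ⟨a, ha, rfl⟩ := s.surj v
  rw [s.conj_pow_eq hA hT _ a ha, hk, one_mul, inv_one, mul_one, Module.End.one_apply]

end CfsgLib.Fusion.RankThree
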