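import Cfsg.Agent.Lib.Fusion.RankThree.Action
import Cfsg.Agent.Lib.Fusion.RankThree.Series
import Cfsg.Agent.Lib.Fusion.StrongEmbed
import Cfsg.Agent.Lib.Fusion.MetacyclicAbelian
import Cfsg.Agent.Lib.Base.Rank

/-!
# The automorphisms of an essential subgroup on its Frattini quotient
-/

set_option autoImplicit false
set_option linter.unusedSectionVars false
set_option linter.style.haveILetI false

namespace CfsgLib.Fusion.RankThree

open Cfsg Cfsg.FusionSystem CfsgLib.Fusion
open scoped commutatorElement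

universe u

variable {p : ℕ} [hp : Fact p.Prime]

theorem sectionalPRankLE_inj {G G' : Type*} [Group G] [Group G'] {k : ℕ} (f : G' →* G)
    (hf : Function.Injective f) (h : Cfsg.SectionalPRankLE p k G) :
    Cfsg.SectionalPRankLE p k G' := by
  intro H N hN
  set e := H.equivMapOfInjective f hf
  haveI : (N.map e.toMonoidHom).Normal := hN.map _ e.surjective
  exact (CfsgLib.Base.pRankLE_congr (QuotientGroup.congr N (N.map e.toMonoidHom) e rfl)).2
    (h (H.map f) (N.map e.toMonoidHom))

theorem step_map_hom {X Y : Type u} [Group X] [Group Y] {A B : Subgroup X} (f : X →* Y) :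
    (step p A B).map f = step p (A.map f) (B.map f) := by
  rw [step, step, Subgroup.map_sup, Subgroup.map_commutator, pw_map]

theorem frattini_eq_step {G : Type u} [Group G] [Finite G] (hG : IsPGroup p G) :
    frattini G = step p (⊤ : Subgroup G) ⊤ := by
  refine le_antisymm ?_ (step_le (fun a _ b _ => ?_) fun a _ =>
    CfsgLib.PGroups.pow_mem_frattini hG a)
  · haveI : (step p (⊤ : Subgroup G) ⊤).Normal := step_normal
    refine CfsgLib.PGroups.frattini_le_of_elementary_quotient (p := p) ?_ fun a =>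
      pow_mem_step (Subgroup.mem_top a)
    rw [_root_.commutator_def]
    exact Subgroup.commutator_le.2 fun a _ b _ =>
      comm_mem_step (Subgroup.mem_top a) (Subgroup.mem_top b)
  · exact CfsgLib.PGroups.commutator_le_frattini hG
      (Subgroup.commutator_mem_commutator (Subgroup.mem_top a) (Subgroup.mem_top b))

variable {Ω : Type u} [Group Ω] {S : Subgroup Ω} [Finite S] {F : FusionSystem S} {E : Subgroup Ω}

/-- An automorphism of `E` as a function on an overgroup. -/
noncomputable def lift {N : Subgroup Ω} (hEN : E ≤ N) (γ : MulAut E) : N → N :=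
  haveI := Classical.propDecidable
  fun y => if h : (y : Ω) ∈ E then ⟨(γ ⟨y, h⟩ : E), hEN (γ ⟨y, h⟩).2⟩ else 1

theorem lift_val {N : Subgroup Ω} (hEN : E ≤ N) (γ : MulAut E) {y : N} (h : (y : Ω) ∈ E) :
    ((lift hEN γ y : N) : Ω) = autFun γ y := by
  classical
  rw [autFun_of_mem γ h]
  simp [lift, h]

theorem lift_mem {N : Subgroup Ω} (hEN : E ≤ N) (γ : MulAut E) {y : N} (h : y ∈ E.subgroupOf N) :
    lift hEN γ y ∈ E.subgroupOf N := by
  rw [Subgroup.mem_subgroupOf, lift_val hEN γ h]
  exact autFun_mem γ h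

theorem lift_mul {N : Subgroup Ω} (hEN : E ≤ N) (γ : MulAut E) {a b : N}
    (ha : a ∈ E.subgroupOf N) (hb : b ∈ E.subgroupOf N) :
    lift hEN γ (a * b) = lift hEN γ a * lift hEN γ b := by
  refine Subtype.ext ?_
  have hab : ((a * b : N) : Ω) ∈ E := E.mul_mem ha hb
  rw [Subgroup.coe_mul, lift_val hEN γ hab, lift_val hEN γ ha, lift_val hEN γ hb,
    Subgroup.coe_mul, autFun_map_mul γ (x := (a : Ω)) (y := (b : Ω)) ha hb]

set_option maxHeartbeats 1000000 in
/-- The Frattini quotient of an essential subgroup seen inside its normaliser. -/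
theorem exists_space (hS : IsPGroup p S) (hF : F.IsSaturated p) (hE : F.IsEssential p E)
    (hrk : (frattini ↥E).index = p ^ 3) :
    ∃ (V : Type u) (_ : AddCommGroup V) (_ : Module (ZMod p) V)
      (s : SecMap p (E.subgroupOf (normalizerIn S E))
        (step p (E.subgroupOf (normalizerIn S E)) (E.subgroupOf (normalizerIn S E))) V)
      (ρ : F.autGroup E →* Module.End (ZMod p) V) (R : Sylow p (F.autGroup E))
      (H : Subgroup (F.autGroup E)),
      (∀ γ : F.autGroup E, ∀ a ∈ E.subgroupOf (normalizerIn S E),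
        ρ γ (s.π a) = s.π (lift (le_normalizerIn hE.1.1) (γ : MulAut E) a)) ∧
      Setup ρ R H ∧
      (∀ γ : F.autGroup E, γ ∈ (R : Subgroup (F.autGroup E)) ↔
        (γ : MulAut E) ∈ autInducedBy S E) ∧
      (∀ γ : F.autGroup E, ρ γ = 1 → (γ : MulAut E) ∈ Inn E) := by
  have hES := hE.1.1
  set N := normalizerIn S E with hNdef
  have hEN : E ≤ N := le_normalizerIn hES
  haveI : Finite E := finite_of_le hES
  haveI : Finite N := finite_of_le normalizerIn_le
  haveI := finite_mulAut (P := E) hES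
  have hEp : IsPGroup p E := isPGroup_of_le hES hS
  set E₀ := E.subgroupOf N with hE₀
  haveI hE₀n : E₀.Normal := ⟨fun a ha y =>
    (Subgroup.mem_normalizer_iff.1 (mem_normalizerIn.1 y.2).2 a).1 ha⟩
  haveI hKn : (step p E₀ E₀).Normal := step_normal
  obtain ⟨V, _, _, ⟨s⟩⟩ := exists_secMap (p := p) (A := E₀) (B := step p E₀ E₀)
    (step_le_self hE₀n) (fun a _ b hb => hKn.conj_mem b hb a)
    (fun a ha b hb => comm_mem_step ha hb) fun a ha => pow_mem_step ha
  -- the Frattini subgroup inside the normaliser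
  set ι : E →* N := Subgroup.inclusion hEN
  have hι : Function.Injective ι := Subgroup.inclusion_injective hEN
  have hιtop : (⊤ : Subgroup E).map ι = E₀ := by
    rw [← MonoidHom.range_eq_map]
    ext y
    exact ⟨fun ⟨e, he⟩ => he ▸ e.2, fun h => ⟨⟨y, h⟩, rfl⟩⟩
  have hKmap : (frattini ↥E).map ι = step p E₀ E₀ := by
    rw [frattini_eq_step hEp, step_map_hom, hιtop]
  haveI := s.finite
  have hdim : Module.finrank (ZMod p) V = 3 := by
    have h1 := s.card_mul
    rw [← hKmap, Subgroup.card_map_of_injective hι,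
      Nat.card_congr (Subgroup.subgroupOfEquivOfLe hEN).toEquiv,
      ← (frattini ↥E).index_mul_card, hrk] at h1
    have h2 := Nat.eq_of_mul_eq_mul_right Nat.card_pos h1
    rw [Module.natCard_eq_pow_finrank (K := ZMod p), Nat.card_zmod] at h2
    exact Nat.pow_right_injective hp.1.two_le h2
  -- the representation
  have hex : ∀ γ : F.autGroup E, ∃ T : Module.End (ZMod p) V,
      ∀ a ∈ E₀, T (s.π a) = s.π (lift hEN (γ : MulAut E) a) := fun γ =>
    s.exists_linear s (lift hEN (γ : MulAut E)) (fun a ha => lift_mem hEN _ ha)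
      (fun b hb => step_mapsTo (lift hEN (γ : MulAut E)) (fun a ha c hc => lift_mul hEN _ ha hc)
        le_rfl le_rfl (fun a ha => lift_mem hEN _ ha) (fun a ha => lift_mem hEN _ ha) hb)
      fun a ha b hb => lift_mul hEN _ ha hb
  choose T hT using hex
  let ρ : F.autGroup E →* Module.End (ZMod p) V :=
    { toFun := T
      map_one' := LinearMap.ext fun v => by
        obtain ⟨a, ha, rfl⟩ := s.surj v
        rw [hT 1 a ha, Module.End.one_apply]
        congr 1
        refine Subtype.ext ?_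
        rw [lift_val hEN _ ha]
        exact autFun_one ha
      map_mul' := fun γ γ' => LinearMap.ext fun v => by
        obtain ⟨a, ha, rfl⟩ := s.surj v
        have h1 := lift_mem hEN (γ' : MulAut E) ha
        rw [Module.End.mul_apply, hT γ' a ha, hT γ _ h1, hT (γ * γ') a ha]
        congr 1
        refine Subtype.ext ?_
        rw [lift_val hEN _ ha, lift_val hEN _ h1, lift_val hEN _ ha]
        exact autFun_mul _ _ ha }
  have hρ : ∀ γ : F.autGroup E, ∀ a ∈ E₀, ρ γ (s.π a) = s.π (lift hEN (γ : MulAut E) a) := hT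
  -- the kernel consists of inner automorphisms
  have hinnker : ∀ γ : F.autGroup E, (γ : MulAut E) ∈ Inn E → ρ γ = 1 := by
    intro γ hγ
    obtain ⟨e, he, hee⟩ := mem_inn.1 hγ
    refine LinearMap.ext fun v => ?_
    obtain ⟨a, ha, rfl⟩ := s.surj v
    rw [hρ γ a ha, Module.End.one_apply,
      show lift hEN (γ : MulAut E) a = (⟨e, hEN he⟩ : N) * a * (⟨e, hEN he⟩ : N)⁻¹ from
        Subtype.ext (by rw [lift_val hEN _ ha, hee (a : Ω) ha]; rfl),
      s.conj_eq ha (show (⟨e, hEN he⟩ : N) ∈ E₀ from he)]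
  have hkerp : IsPGroup p ρ.ker := by
    refine IsPGroup.of_card (n := (Nat.card ρ.ker).primeFactorsList.length)
      (Nat.eq_prime_pow_of_unique_prime_dvd (p := p) Nat.card_pos.ne' fun {r} hr hrd => ?_)
    by_contra hrp
    haveI := Fact.mk hr
    obtain ⟨γ, hγ⟩ := exists_prime_orderOf_dvd_card' r hrd
    have h1 : (((γ : F.autGroup E) : MulAut E)) = 1 := by
      refine MetacyclicAbelian.eq_one_of_trivial_mod hEp (r := r) hrp ?_ fun a => ?_
      · have h2 := congrArg (fun z : ρ.ker => ((z : F.autGroup E) : MulAut E))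
          (pow_orderOf_eq_one γ)
        rw [hγ] at h2
        simpa using h2
      · have ha : ι a ∈ E₀ := a.2
        have h2 := hρ γ _ ha
        rw [γ.2, Module.End.one_apply] at h2
        have h3 := (s.eq_iff ha (lift_mem hEN _ ha)).1 h2
        rw [← hKmap] at h3
        obtain ⟨b, hb, hb'⟩ := h3
        have h4 : b = a⁻¹ * ((γ : F.autGroup E) : MulAut E) a := by
          refine Subtype.ext ?_
          have h5 := congrArg (fun z : N => (z : Ω)) hb'
          simp only [Subgroup.coe_mul, Subgroup.coe_inv, lift_val hEN _ ha] at h5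
          rw [Subgroup.coe_mul, Subgroup.coe_inv]
          refine h5.trans ?_
          congr 1
          exact autFun_coe _ a
        exact h4 ▸ hb
    have h3 : γ = 1 := Subtype.ext (Subtype.ext h1)
    rw [h3, orderOf_one] at hγ
    exact hr.one_lt.ne hγ
  have hrad := essential_radical hS hE
  have hker : ∀ γ : F.autGroup E, ρ γ = 1 → (γ : MulAut E) ∈ Inn E := by
    intro γ hγ
    refine le_inn_of_radical hrad (K := ρ.ker.map (F.autGroup E).subtype)
      (Subgroup.map_subtype_le _) (hkerp.map _) ?_ ⟨γ, hγ, rfl⟩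
    rintro a ha _ ⟨k, hk, rfl⟩
    exact ⟨⟨a, ha⟩ * k * (⟨a, ha⟩ : F.autGroup E)⁻¹,
      (inferInstance : ρ.ker.Normal).conj_mem k hk _, rfl⟩
  obtain ⟨-, R, hR⟩ := (isFullyAutomized_of_normalized hS hF hE.2.1).1
  have hRiff : ∀ γ : F.autGroup E, γ ∈ (R : Subgroup (F.autGroup E)) ↔
      (γ : MulAut E) ∈ autInducedBy S E := fun γ => by rw [hR]; rfl
  -- the strongly embedded subgroup
  obtain ⟨hn, Es, hdvd, hne, P', hP'⟩ := hE.2.2
  set π := QuotientGroup.mk' ((Inn E).subgroupOf (F.autGroup E))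
  obtain ⟨Q, hQ⟩ := (R.2.map π).exists_le_sylow
  obtain ⟨g, hg⟩ := MulAction.exists_smul_eq (F.autGroup E ⧸ (Inn E).subgroupOf (F.autGroup E)) Q P'
  refine ⟨V, inferInstance, inferInstance, s, ρ, R,
    Es.comap ((MulAut.conj g).toMonoidHom.comp π), hρ, ⟨hdim, fun h => ?_, fun γ hγ => ?_,
      fun γ hγ => (hRiff γ).2 (inn_le_autInducedBy hES (hker γ hγ)), fun x a ha ha1 hxa => ?_,
      fun M hM hMp γ hγ => ?_⟩, hRiff, hker⟩
  · refine hne (eq_top_iff.2 fun y _ => ?_)
    obtain ⟨y', hy'⟩ := QuotientGroup.mk'_surjective _ (g⁻¹ * y * g)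
    have h1 : y' ∈ Es.comap ((MulAut.conj g).toMonoidHom.comp π) := h ▸ Subgroup.mem_top y'
    have h2 : g * π y' * g⁻¹ ∈ Es := h1
    rw [show π y' = g⁻¹ * y * g from hy'] at h2
    simpa [mul_assoc] using h2
  · show g * π γ * g⁻¹ ∈ Es
    rw [show π γ = 1 from (QuotientGroup.eq_one_iff γ).2 (hker γ hγ), mul_one, mul_inv_cancel]
    exact Es.one_mem
  · have hmem : ∀ {b : F.autGroup E}, b ∈ (R : Subgroup (F.autGroup E)) →
        g * π b * g⁻¹ ∈ (P' : Subgroup _) := fun {b} hb => by
      rw [← hg, Sylow.coe_subgroup_smul, Subgroup.mem_pointwise_smul_iff_inv_smul_mem]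
      simp only [← map_inv, MulAut.smul_def, MulAut.conj_apply]
      simpa [mul_assoc] using hQ ⟨b, hb, rfl⟩
    show g * π x * g⁻¹ ∈ Es
    refine mem_of_conj_le P' hP' (hmem ha) ?_ ?_
    · intro h
      exact ha1 (hinnker a ((QuotientGroup.eq_one_iff a).1 (conj_eq_one_iff.1 h)))
    · have h1 := hmem hxa
      rw [map_mul, map_mul, map_inv] at h1
      simpa [mul_assoc] using h1
  · refine hinnker γ (le_inn_of_radical hrad (K := M.map (F.autGroup E).subtype)
      (Subgroup.map_subtype_le _) ?_ ?_ ⟨γ, hγ, rfl⟩)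
    · refine IsPGroup.map (fun ⟨m, hm⟩ => ?_) _
      obtain ⟨k, hk⟩ := hMp m hm
      rw [← map_pow] at hk
      obtain ⟨j, hj⟩ := hkerp ⟨m ^ p ^ k, hk⟩
      refine ⟨k + j, Subtype.ext ?_⟩
      have h1 := congrArg (fun z : ρ.ker => (z : F.autGroup E)) hj
      simp only [SubmonoidClass.coe_pow, OneMemClass.coe_one] at h1 ⊢
      rwa [pow_add, pow_mul]
    · rintro a ha _ ⟨k, hk, rfl⟩
      exact ⟨⟨a, ha⟩ * k * (⟨a, ha⟩ : F.autGroup E)⁻¹, hM.conj_mem k hk _, rfl⟩

end CfsgLib.Fusion.RankThree
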