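import Cfsg.Agent.Lib.Fusion.RankThree.Series

/-!
# Class two computations modulo a normal subgroup, and elementary sections of rank four
-/

set_option autoImplicit false
set_option linter.unusedSectionVars false
set_option linter.style.haveILetI false

namespace CfsgLib.Fusion.RankThree

open scoped commutatorElement

universe u

variable {p : ℕ} [hp : Fact p.Prime]

/-- The power of a product whose commutator is central. -/
theorem mul_pow_central {Q : Type*} [Group Q] {a b c : Q} (hba : b * a = c * (a * b))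
    (hca : Commute c a) (hcb : Commute c b) (n : ℕ) :
    (a * b) ^ n = c ^ n.choose 2 * (a ^ n * b ^ n) := by
  have hpow : ∀ k, b ^ k * a = c ^ k * (a * b ^ k) := by
    intro k
    induction k with
    | zero => simp
    | succ k ih =>
      rw [pow_succ', mul_assoc, ih, ← mul_assoc, ((hcb.pow_left k).symm).eq, mul_assoc,
        ← mul_assoc b a, hba, mul_assoc c, mul_assoc a, ← mul_assoc (c ^ k), ← pow_succ]
  induction n with
  | zero => simp
  | succ n ih =>
    rw [pow_succ, ih, show c ^ n.choose 2 * (a ^ n * b ^ n) * (a * b) =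
      c ^ n.choose 2 * (a ^ n * (b ^ n * a) * b) by group, hpow,
      show a ^ n * (c ^ n * (a * b ^ n)) * b = (a ^ n * c ^ n) * a * (b ^ n * b) by group,
      ((hca.pow_left n).pow_right n).symm.eq, mul_assoc (c ^ n), ← pow_succ, ← pow_succ,
      mul_assoc (c ^ n), ← mul_assoc, ← pow_add, Nat.choose_succ_succ', Nat.choose_one_right,
      add_comm n, add_comm 1 1]
    congr 2
    exact add_comm _ _

/-- For odd `p` the `p`-th power is multiplicative when the commutator is central of order `p`. -/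
theorem mul_pow_p {Q : Type*} [Group Q] (hp2 : p ≠ 2) {a b : Q} (hca : Commute ⁅b, a⁆ a)
    (hcb : Commute ⁅b, a⁆ b) (hc : ⁅b, a⁆ ^ p = 1) : (a * b) ^ p = a ^ p * b ^ p := by
  rw [mul_pow_central (c := ⁅b, a⁆) (by group) hca hcb]
  obtain ⟨k, hk⟩ : p ∣ p.choose 2 :=
    hp.1.dvd_choose_self two_ne_zero (lt_of_le_of_ne hp.1.two_le (Ne.symm hp2))
  rw [hk, pow_mul, hc, one_pow, one_mul]

variable {X : Type u} [Group X]

/-- The same modulo a normal subgroup. -/
theorem mul_pow_p_mem (hp2 : p ≠ 2) {N : Subgroup X} (hN : N.Normal) {a b : X}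
    (hca : ⁅⁅b, a⁆, a⁆ ∈ N) (hcb : ⁅⁅b, a⁆, b⁆ ∈ N) (hc : ⁅b, a⁆ ^ p ∈ N) :
    (a ^ p * b ^ p)⁻¹ * (a * b) ^ p ∈ N := by
  set π := QuotientGroup.mk' N with hπ
  have h1 : ∀ y, y ∈ N → π y = 1 := fun y hy => (QuotientGroup.eq_one_iff y).2 hy
  refine (QuotientGroup.eq_one_iff _).1 ?_
  show π ((a ^ p * b ^ p)⁻¹ * (a * b) ^ p) = 1
  rw [map_mul, map_inv, map_mul, map_pow, map_pow, map_pow, map_mul, inv_mul_eq_one]
  refine (mul_pow_p hp2 ?_ ?_ ?_).symm
  · rw [commute_iff_eq, ← commutatorElement_eq_one_iff_mul_comm, ← map_commutatorElement,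
      ← map_commutatorElement]
    exact h1 _ hca
  · rw [commute_iff_eq, ← commutatorElement_eq_one_iff_mul_comm, ← map_commutatorElement,
      ← map_commutatorElement]
    exact h1 _ hcb
  · rw [← map_commutatorElement, ← map_pow]
    exact h1 _ hc

namespace SecMap

variable {A B : Subgroup X} {V : Type u} [AddCommGroup V] [Module (ZMod p) V]
  (s : SecMap p A B V)

include s

/-- The preimage of a subspace. -/
def pre (U : Submodule (ZMod p) V) : Subgroup X where
  carrier := {y | y ∈ A ∧ s.π y ∈ U}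
  one_mem' := ⟨A.one_mem, by rw [s.map_one]; exact U.zero_mem⟩
  mul_mem' := fun {a b} ha hb =>
    ⟨A.mul_mem ha.1 hb.1, by rw [s.map_mul _ ha.1 _ hb.1]; exact U.add_mem ha.2 hb.2⟩
  inv_mem' := fun {a} ha => ⟨A.inv_mem ha.1, by rw [s.map_inv ha.1]; exact U.neg_mem ha.2⟩

theorem mem_pre {U : Submodule (ZMod p) V} {y : X} : y ∈ s.pre U ↔ y ∈ A ∧ s.π y ∈ U := Iff.rfl

/-- A map multiplicative modulo the target gives a linear map. -/
theorem exists_linear' {A' B' : Subgroup X} {V' : Type u} [AddCommGroup V'] [Module (ZMod p) V']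
    (t : SecMap p A' B' V') (f : X → X) (hA : ∀ a ∈ A, f a ∈ A')
    (hB : ∀ b ∈ B, f b ∈ B')
    (hmul : ∀ a ∈ A, ∀ b ∈ A, t.π (f (a * b)) = t.π (f a) + t.π (f b)) :
    ∃ T : V →ₗ[ZMod p] V', ∀ a ∈ A, T (s.π a) = t.π (f a) := by
  classical
  choose r hr hrv using s.surj
  have key : ∀ a ∈ A, ∀ b ∈ A, s.π a = s.π b → t.π (f a) = t.π (f b) := by
    intro a ha b hb h
    have h1 := (s.eq_iff ha hb).1 h
    have h2 := hmul a ha _ (s.le h1)
    rw [mul_inv_cancel_left, (t.map_eq_zero _ (t.le (hB _ h1))).2 (hB _ h1), add_zero] at h2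
    exact h2.symm
  let T₀ : V →+ V' := AddMonoidHom.mk' (fun v => t.π (f (r v))) fun v w => by
    rw [key _ (hr (v + w)) _ (A.mul_mem (hr v) (hr w)) (by
      rw [hrv, s.map_mul _ (hr v) _ (hr w), hrv, hrv]), hmul _ (hr v) _ (hr w)]
  refine ⟨T₀.toZModLinearMap p, fun a ha => ?_⟩
  exact key _ (hr _) _ ha (hrv _)

end SecMap

/-- Four commuting elements of order `p`, independent modulo a normal subgroup, contradict
sectional rank three. -/
theorem no_four [Finite X] (hsr : Cfsg.SectionalPRankLE p 3 X) {R : Subgroup X} (hR : R.Normal)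
    (e : Fin 4 → X) (hc : ∀ i j, ⁅e i, e j⁆ ∈ R) (hpw : ∀ i, e i ^ p ∈ R)
    (hind : ∀ a : Fin 4 → ℕ, e 0 ^ a 0 * e 1 ^ a 1 * e 2 ^ a 2 * e 3 ^ a 3 ∈ R → ∀ i, p ∣ a i) :
    False := by
  set π := QuotientGroup.mk' R
  have hcomm : ∀ i j, π (e i) * π (e j) = π (e j) * π (e i) := fun i j => by
    rw [← commutatorElement_eq_one_iff_mul_comm, ← map_commutatorElement]
    exact (QuotientGroup.eq_one_iff _).2 (hc i j)
  set C := Subgroup.closure (Set.range fun i => π (e i))
  have hCC : C ≤ Subgroup.centralizer (C : Set (X ⧸ R)) := by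
    have h1 : C ≤ Subgroup.centralizer (Set.range fun i => π (e i)) := by
      rw [Subgroup.closure_le]
      rintro _ ⟨i, rfl⟩
      rw [SetLike.mem_coe, Subgroup.mem_centralizer_iff]
      rintro _ ⟨j, rfl⟩
      exact hcomm j i
    intro y hy
    rw [Subgroup.mem_centralizer_iff]
    intro z hz
    have h2 : C ≤ Subgroup.centralizer {y} := by
      rw [Subgroup.closure_le]
      rintro _ ⟨j, rfl⟩
      rw [SetLike.mem_coe, Subgroup.mem_centralizer_singleton_iff]
      exact (Subgroup.mem_centralizer_iff.1 (h1 hy) _ ⟨j, rfl⟩)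
    exact Subgroup.mem_centralizer_singleton_iff.1 (h2 hz)
  set A := C.comap π
  have hcomm' : ∀ a ∈ A, ∀ b ∈ A, π a * π b = π b * π a := fun a ha b hb =>
    (Subgroup.mem_centralizer_iff.1 (hCC hb) _ ha)
  obtain ⟨V, _, _, ⟨s⟩⟩ := exists_secMap (p := p) (A := A) (B := R)
    (fun r hr => show π r ∈ C by rw [show π r = 1 from (QuotientGroup.eq_one_iff r).2 hr]; exact C.one_mem)
    (fun a _ b hb => hR.conj_mem b hb a)
    (fun a ha b hb => (QuotientGroup.eq_one_iff _).1 (by
      show π ⁅a, b⁆ = 1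
      rw [map_commutatorElement, commutatorElement_eq_one_iff_mul_comm]
      exact hcomm' a ha b hb))
    (fun a ha => (QuotientGroup.eq_one_iff _).1 (by
      show π (a ^ p) = 1
      rw [map_pow]
      have key : ∀ y ∈ C, y ^ p = 1 := fun y hy => by
        induction hy using Subgroup.closure_induction with
        | mem y hy =>
          obtain ⟨i, rfl⟩ := hy
          show π (e i) ^ p = 1
          rw [← map_pow]
          exact (QuotientGroup.eq_one_iff _).2 (hpw i)
        | one => rw [one_pow]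
        | mul y z hy hz hy' hz' =>
          rw [(show Commute y z from Subgroup.mem_centralizer_iff.1 (hCC hz) y hy).mul_pow, hy',
            hz', one_mul]
        | inv y hy hy' => rw [inv_pow, hy', inv_one]
      exact key _ ha))
  have heA : ∀ i, e i ∈ A := fun i => Subgroup.subset_closure ⟨i, rfl⟩
  have hli : LinearIndependent (ZMod p) fun i => s.π (e i) := by
    rw [Fintype.linearIndependent_iff]
    intro c hc0 i
    have hmem : ∀ i, e i ^ (c i).val ∈ A := fun i => A.pow_mem (heA i) _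
    have h01 := A.mul_mem (hmem 0) (hmem 1)
    have h012 := A.mul_mem h01 (hmem 2)
    have h := hind (fun i => (c i).val) ((s.map_eq_zero _ (A.mul_mem h012 (hmem 3))).1 (by
      rw [s.map_mul _ h012 _ (hmem 3), s.map_mul _ h01 _ (hmem 2), s.map_mul _ (hmem 0) _ (hmem 1)]
      simp only [s.map_pow_cast (heA _), ZMod.natCast_zmod_val]
      rw [← hc0, Fin.sum_univ_four])) i
    exact (ZMod.val_eq_zero _).1 (Nat.eq_zero_of_dvd_of_lt h (ZMod.val_lt _))
  haveI := s.finite
  have h4 := hli.fintype_card_le_finrank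
  have h3 := s.finrank_le hsr
  rw [Fintype.card_fin] at h4
  omega

end CfsgLib.Fusion.RankThree
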