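import Cfsg.Agent.Lib.Fusion.RankThree.NormalEss
import Cfsg.Agent.Lib.Fusion.Normal

/-!
# Torus elements on a centre of order `p ^ 2`
-/

set_option autoImplicit false
set_option linter.unusedSectionVars false
set_option linter.style.haveILetI false

namespace CfsgLib.Fusion.RankThree

open Cfsg Cfsg.FusionSystem CfsgLib.Fusion

universe u

variable {p : ℕ} [hp : Fact p.Prime] {Ω : Type u} [Group Ω] {S : Subgroup Ω} [Finite S]
  {F : FusionSystem S}

/-- An automorphism of the whole group splitting its centre. -/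
structure Good (F : FusionSystem S) (p : ℕ) (θ : MulAut S) : Prop where
  mem : θ ∈ F.autGroup S
  dec : ∀ z ∈ omegaZ p S, ∃ a ∈ phi S, ∃ b ∈ omegaZ p S, autFun θ b = b ∧ z = a * b
  scale : ∀ a ∈ phi S, autFun θ a = a → a = 1

/-- The fixed central elements of order `p`. -/
noncomputable def fixZ (p : ℕ) (θ : MulAut S) : Subgroup Ω where
  carrier := {z | z ∈ omegaZ p S ∧ autFun θ z = z}
  one_mem' := ⟨Subgroup.one_mem _, by rw [autFun_of_mem θ S.one_mem,
    show (⟨1, S.one_mem⟩ : S) = 1 from rfl, map_one]; rfl⟩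
  mul_mem' := fun {a b} ha hb => ⟨Subgroup.mul_mem _ ha.1 hb.1, by
    rw [autFun_map_mul θ ha.1.1 hb.1.1, ha.2, hb.2]⟩
  inv_mem' := fun {a} ha => ⟨Subgroup.inv_mem _ ha.1, by
    rw [autFun_inv_map θ ha.1.1, ha.2]⟩

theorem mem_fixZ {θ : MulAut S} {z : Ω} : z ∈ fixZ p θ ↔ z ∈ omegaZ p S ∧ autFun θ z = z := Iff.rfl

set_option maxHeartbeats 800000 in
/-- Two automorphisms of the whole group commute on its centre. -/
theorem autFun_comm (hp3 : 3 ≤ p) (hS : IsPGroup p S) (hF : F.IsSaturated p)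
    (hPc : Nat.card (phi S) = p) (hPZ : phi S ≤ omegaZ p S) (hZc : Nat.card (omegaZ p S) = p ^ 2)
    {α β : MulAut S} (hα : α ∈ F.autGroup S) (hβ : β ∈ F.autGroup S) :
    ∀ z ∈ omegaZ p S, autFun α (autFun β z) = autFun β (autFun α z) := by
  classical
  haveI : Finite (MulAut S) := MulEquiv.finite_left
  set Z := (omegaZ p S).subgroupOf S
  have hZS : omegaZ p S ≤ S := fun a ha => ha.1
  obtain ⟨W, _, _, ⟨t⟩⟩ := exists_secMap (p := p) (A := Z) (B := ⊥) bot_le
    (fun a _ c hc => by rw [Subgroup.mem_bot] at hc ⊢; rw [hc]; group)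
    (fun a ha c hc => Subgroup.mem_bot.2 (commutatorElement_eq_one_iff_mul_comm.2
      (Subtype.ext ((mem_omegaZ.1 ha).2.2 c (mem_omegaZ.1 hc).1))))
    (fun a ha => Subgroup.mem_bot.2 (Subtype.ext (mem_omegaZ.1 ha).2.1))
  haveI := t.finite
  have hW : Module.finrank (ZMod p) W = 2 := by
    have h1 := t.card_mul
    rw [Subgroup.card_bot, mul_one, Nat.card_congr (Subgroup.subgroupOfEquivOfLe hZS).toEquiv, hZc,
      Module.natCard_eq_pow_finrank (K := ZMod p), Nat.card_zmod] at h1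
    exact Nat.pow_right_injective hp.1.two_le h1
  have hinZ : ∀ γ : MulAut S, ∀ a ∈ Z, γ a ∈ Z := fun γ a ha => by
    show ((γ a : S) : Ω) ∈ omegaZ p S
    rw [← autFun_coe γ a]
    exact autFun_omegaZ γ ha
  have hex : ∀ γ : F.autGroup S, ∃ T : Module.End (ZMod p) W,
      ∀ a ∈ Z, T (t.π a) = t.π ((γ : MulAut S) a) := fun γ =>
    t.exists_linear t (fun a => (γ : MulAut S) a) (hinZ _)
      (fun c hc => by rw [Subgroup.mem_bot] at hc ⊢; simp [hc])
      fun a _ c _ => map_mul (γ : MulAut S) a c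
  choose T hT using hex
  let τ : F.autGroup S →* Module.End (ZMod p) W :=
    { toFun := T
      map_one' := LinearMap.ext fun w => by
        obtain ⟨a, ha, rfl⟩ := t.surj w
        rw [hT 1 a ha]; rfl
      map_mul' := fun γ γ' => LinearMap.ext fun w => by
        obtain ⟨a, ha, rfl⟩ := t.surj w
        rw [Module.End.mul_apply, hT γ' a ha, hT γ _ (hinZ _ a ha), hT (γ * γ') a ha]; rfl }
  have hτ : ∀ γ : F.autGroup S, ∀ a ∈ Z, τ γ (t.π a) = t.π ((γ : MulAut S) a) := hT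
  -- the line of the Frattini subgroup
  haveI : Finite (phi S) := finite_of_le (phi_le S)
  obtain ⟨u, hu, hu1⟩ : ∃ u ∈ phi S, u ≠ 1 := by
    by_contra! h
    rw [(Subgroup.eq_bot_iff_forall _).2 h, Subgroup.card_bot] at hPc
    exact hp.1.one_lt.ne hPc
  set u' : S := ⟨u, phi_le S hu⟩
  have hu'Z : u' ∈ Z := hPZ hu
  have hP0 : t.π u' ≠ 0 := fun h => hu1 (congrArg Subtype.val
    (Subgroup.mem_bot.1 ((t.map_eq_zero u' hu'Z).1 h)))
  set L := Submodule.span (ZMod p) {t.π u'}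
  have hLz : ∀ a : S, (a : Ω) ∈ phi S → t.π a ∈ L := by
    intro a ha
    obtain ⟨n, hn⟩ := mem_powers_of_prime_card hPc (g := (⟨u, hu⟩ : phi S))
      (fun h => hu1 (congrArg Subtype.val h)) (g' := ⟨(a : Ω), ha⟩)
    have h1 : a = u' ^ n := Subtype.ext (congrArg Subtype.val hn).symm
    rw [h1, t.map_pow_cast hu'Z]
    exact Submodule.smul_mem _ _ (Submodule.mem_span_singleton_self _)
  have hscalar : ∀ γ, ∃ A : ZMod p, τ γ (t.π u') = A • t.π u' := fun γ => by
    rw [hτ γ u' hu'Z]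
    obtain ⟨A, hA⟩ := Submodule.mem_span_singleton.1 (hLz _ (by
      rw [← autFun_coe (γ : MulAut S) u']
      obtain ⟨c, hc, hcu⟩ := hu
      exact ⟨(γ : MulAut S) c, (Subgroup.characteristic_iff_map_eq.1
        (inferInstance : (frattini ↥S).Characteristic) (γ : MulAut S)).le ⟨c, hc, rfl⟩, by
          rw [show c = u' from Subtype.ext hcu]; exact (autFun_coe _ _).symm⟩))
    exact ⟨A, hA.symm⟩
  have hLdim : Module.finrank (ZMod p) (W ⧸ L) = 1 := by
    have h1 := L.finrank_quotient_add_finrank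
    rw [finrank_span_singleton hP0, hW] at h1
    omega
  obtain ⟨q, hq⟩ : ∃ q : W, (Submodule.Quotient.mk q : W ⧸ L) ≠ 0 := by
    haveI : Nontrivial (W ⧸ L) := Module.nontrivial_of_finrank_pos (R := ZMod p) (by omega)
    obtain ⟨y, hy⟩ := exists_ne (0 : W ⧸ L)
    obtain ⟨q, rfl⟩ := L.mkQ_surjective y
    exact ⟨q, hy⟩
  have hcoord : ∀ w : W, ∃ i j : ZMod p, w = i • t.π u' + j • q := by
    intro w
    obtain ⟨j, hj⟩ := exists_smul_eq_of_finrank_eq_one hLdim hq (Submodule.Quotient.mk w)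
    rw [← Submodule.Quotient.mk_smul, Submodule.Quotient.eq] at hj
    obtain ⟨i, hi⟩ := Submodule.mem_span_singleton.1 hj
    exact ⟨-i, j, by rw [neg_smul, hi]; abel⟩
  set a₁ : F.autGroup S := ⟨α, hα⟩
  set b₁ : F.autGroup S := ⟨β, hβ⟩
  obtain ⟨A, hA⟩ := hscalar a₁
  obtain ⟨B, hB⟩ := hscalar b₁
  obtain ⟨i, c, hic⟩ := hcoord (τ a₁ q)
  obtain ⟨j, d, hjd⟩ := hcoord (τ b₁ q)
  set c₁ := (b₁ * a₁)⁻¹ * (a₁ * b₁) with hc₁
  have hdiff : ∀ w, ∃ e : ZMod p, τ (a₁ * b₁) w - τ (b₁ * a₁) w = e • t.π u' := by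
    intro w
    obtain ⟨k, m, rfl⟩ := hcoord w
    refine ⟨m * (j * A + d * i - i * B - c * j), ?_⟩
    simp only [map_mul, Module.End.mul_apply, map_add, map_smul, hA, hB, hic, hjd]
    module
  have hinvL : ∀ γ, ∀ e : ZMod p, ∃ e' : ZMod p, τ γ (e • t.π u') = e' • t.π u' := fun γ e => by
    obtain ⟨A', hA'⟩ := hscalar γ
    exact ⟨e * A', by rw [map_smul, hA', smul_smul]⟩
  have hcu : τ c₁ (t.π u') = t.π u' := by
    refine rho_injective τ (b₁ * a₁) ?_
    rw [← Module.End.mul_apply, ← map_mul, hc₁, mul_inv_cancel_left, map_mul, map_mul,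
      Module.End.mul_apply, Module.End.mul_apply, hA, hB, map_smul, map_smul, hA, hB, smul_smul,
      smul_smul, mul_comm]
  have hcd : ∀ w, ∃ e : ZMod p, (τ c₁ - 1) w = e • t.π u' := fun w => by
    obtain ⟨e, he⟩ := hdiff w
    obtain ⟨e', he'⟩ := hinvL (b₁ * a₁)⁻¹ e
    refine ⟨e', ?_⟩
    rw [LinearMap.sub_apply, Module.End.one_apply, ← he', ← he, map_sub, rho_inv_apply,
      ← Module.End.mul_apply, ← map_mul]
  have hcp : τ c₁ ^ p = 1 := by
    refine pow_p_of_cube hp3 _ (LinearMap.ext fun w => ?_)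
    obtain ⟨e, he⟩ := hcd w
    have hdu : (τ c₁ - 1) (t.π u') = 0 := by
      rw [LinearMap.sub_apply, Module.End.one_apply, hcu, sub_self]
    rw [pow_succ, pow_succ, pow_one, Module.End.mul_apply, Module.End.mul_apply, he, map_smul,
      hdu, smul_zero, map_zero, LinearMap.zero_apply]
  -- the image is prime to `p`
  obtain ⟨-, R, hR⟩ := (isFullyAutomized_of_normalized hS hF (isFullyNormalized_self F)).1
  have hRker : ∀ γ : F.autGroup S, γ ∈ (R : Subgroup (F.autGroup S)) → τ γ = 1 := fun γ hγ => by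
    have hm : (γ : MulAut S) ∈ Inn S := by
      rw [inn_eq_autInducedBy]
      rw [hR] at hγ
      exact hγ
    obtain ⟨g, hg, hgg⟩ := mem_inn.1 hm
    refine LinearMap.ext fun w => ?_
    obtain ⟨a, ha, rfl⟩ := t.surj w
    rw [hτ γ a ha, Module.End.one_apply]
    congr 1
    refine Subtype.ext ?_
    rw [← autFun_coe, hgg _ a.2]
    show g * (a : Ω) * g⁻¹ = a
    rw [show g * (a : Ω) = (a : Ω) * g from ((mem_omegaZ.1 ha).2.2 g hg).symm, mul_inv_cancel_right]
  haveI : (R : Subgroup (F.autGroup S)).Normal := by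
    rw [hR, ← inn_eq_autInducedBy]
    exact inn_subgroupOf_normal F S
  have hn : ¬ p ∣ (R : Subgroup (F.autGroup S)).index := R.not_dvd_index
  have hcn : τ c₁ ^ (R : Subgroup (F.autGroup S)).index = 1 := by
    rw [← map_pow]
    exact hRker _ ((R : Subgroup (F.autGroup S)).pow_index_mem c₁)
  have hone : τ c₁ = 1 := orderOf_eq_one_iff.1 (Nat.eq_one_of_dvd_coprimes
    (hp.1.coprime_iff_not_dvd.2 hn) (orderOf_dvd_of_pow_eq_one hcp) (orderOf_dvd_of_pow_eq_one hcn))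
  intro z hz
  set z' : S := ⟨z, hZS hz⟩
  have hz' : z' ∈ Z := hz
  have h1 : τ (a₁ * b₁) (t.π z') = τ (b₁ * a₁) (t.π z') := by
    have h2 : τ (a₁ * b₁) = τ (b₁ * a₁) * τ c₁ := by rw [← map_mul, hc₁, mul_inv_cancel_left]
    rw [h2, hone, mul_one]
  rw [hτ _ z' hz', hτ _ z' hz', t.eq_iff (hinZ _ _ hz') (hinZ _ _ hz'), Subgroup.mem_bot,
    inv_mul_eq_one] at h1
  rw [autFun_of_mem β (hZS hz), autFun_coe α, autFun_of_mem α (hZS hz), autFun_coe β]
  exact congrArg Subtype.val h1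

/-- All good automorphisms have the same fixed points, and these are invariant. -/
theorem Good.fixZ_eq (hp3 : 3 ≤ p) (hS : IsPGroup p S) (hF : F.IsSaturated p)
    (hPc : Nat.card (phi S) = p) (hPZ : phi S ≤ omegaZ p S) (hZc : Nat.card (omegaZ p S) = p ^ 2)
    {θ θ' : MulAut S} (hθ : Good F p θ) (hθ' : Good F p θ') : fixZ p θ' ≤ fixZ p θ := by
  intro z hz
  obtain ⟨hzZ, hzθ⟩ := mem_fixZ.1 hz
  obtain ⟨a, ha, b, hb, hbθ, rfl⟩ := hθ.dec z hzZ
  have hbF : b ∈ fixZ p θ := ⟨hb, hbθ⟩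
  have hb' : autFun θ' b ∈ fixZ p θ := ⟨autFun_omegaZ θ' hb, by
    rw [autFun_comm hp3 hS hF hPc hPZ hZc hθ.mem hθ'.mem b hb, hbθ]⟩
  have ha' : autFun θ' a ∈ phi S := by
    obtain ⟨c, hc, rfl⟩ := ha
    exact ⟨θ' c, (Subgroup.characteristic_iff_map_eq.1
      (inferInstance : (frattini ↥S).Characteristic) θ').le ⟨c, hc, rfl⟩, (autFun_coe θ' c).symm⟩
  rw [autFun_map_mul θ' (phi_le S ha) hb.1] at hzθ
  -- the component in the Frattini subgroup is fixed
  have h1 : a⁻¹ * autFun θ' a = b * (autFun θ' b)⁻¹ := by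
    rw [eq_mul_inv_iff_mul_eq, mul_assoc, hzθ, inv_mul_cancel_left]
  have hin : a⁻¹ * autFun θ' a ∈ phi S := (phi S).mul_mem ((phi S).inv_mem ha) ha'
  have hfix : a⁻¹ * autFun θ' a ∈ fixZ p θ := by
    rw [h1]
    exact Subgroup.mul_mem _ hbF (Subgroup.inv_mem _ hb')
  have h2 := hθ.scale _ hin hfix.2
  rw [inv_mul_eq_one] at h2
  have h3 := hθ'.scale a ha h2.symm
  rw [h3, one_mul]
  exact hbF

/-- The fixed points are invariant under the automorphisms of the whole group. -/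
theorem Good.fixZ_invariant (hp3 : 3 ≤ p) (hS : IsPGroup p S) (hF : F.IsSaturated p)
    (hPc : Nat.card (phi S) = p) (hPZ : phi S ≤ omegaZ p S) (hZc : Nat.card (omegaZ p S) = p ^ 2)
    {θ : MulAut S} (hθ : Good F p θ) {α : MulAut S} (hα : α ∈ F.autGroup S) {z : Ω}
    (hz : z ∈ fixZ p θ) : autFun α z ∈ fixZ p θ :=
  ⟨autFun_omegaZ α hz.1, by
    rw [autFun_comm hp3 hS hF hPc hPZ hZc hθ.mem hα z hz.1, hz.2]⟩

/-- The fixed points are nontrivial. -/
theorem Good.fixZ_ne_bot (hPc : Nat.card (phi S) = p) (hZc : Nat.card (omegaZ p S) = p ^ 2)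
    {θ : MulAut S} (hθ : Good F p θ) : fixZ p θ ≠ ⊥ := by
  intro h
  haveI : Finite (phi S) := finite_of_le (phi_le S)
  have hle : omegaZ p S ≤ phi S := fun z hz => by
    obtain ⟨a, ha, b, hb, hbθ, rfl⟩ := hθ.dec z hz
    have h1 : b = 1 := Subgroup.mem_bot.1 (h ▸ (show b ∈ fixZ p θ from ⟨hb, hbθ⟩))
    rw [h1, mul_one]
    exact ha
  have h2 := Subgroup.card_le_of_le hle
  rw [hPc, hZc, sq] at h2
  exact absurd h2 (not_le.2 (lt_mul_of_one_lt_left hp.1.pos hp.1.one_lt))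

end CfsgLib.Fusion.RankThree
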