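import Cfsg.Agent.Lib.Fusion.RankThree.Tools

/-!
# An elementary quotient of rank three with a transvection: first properties
-/

set_option autoImplicit false
set_option linter.unusedSectionVars false
set_option linter.style.haveILetI false

namespace CfsgLib.Fusion.RankThree

open scoped commutatorElement

universe u

variable {p : ℕ} [hp : Fact p.Prime] {X : Type u} [Group X] [Finite X] {V : Type u}
  [AddCommGroup V] [Module (ZMod p) V]

namespace Transv

/-- The standing hypotheses: a transvection on the quotient, with a torus element on the whole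
group adapted to a basis. -/
structure Ctx (E : Subgroup X) (s : SecMap p E (step p E E) V) (x : X)
    (T : Module.End (ZMod p) V) (θ : MulAut X) (h : Module.End (ZMod p) V) (c l : ZMod p)
    (vw vP vQ : V) : Prop where
  p5 : 5 ≤ p
  pgroup : IsPGroup p X
  rank : Cfsg.SectionalPRankLE p 3 X
  normal : E.Normal
  index : E.index = p
  notMem : x ∉ E
  act : ∀ a ∈ E, T (s.π a) = s.π (x * a * x⁻¹)
  c0 : c ≠ 0
  dw : T vw = vw + c • vP
  dP : T vP = vP
  dQ : T vQ = vQ
  span : ∀ u, ∃ a b d : ZMod p, u = a • vw + b • vP + d • vQ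
  indep : ∀ a b d : ZMod p, a • vw + b • vP + d • vQ = 0 → a = 0 ∧ b = 0 ∧ d = 0
  mapsE : ∀ a ∈ E, θ a ∈ E
  hθ : ∀ a ∈ E, h (s.π a) = s.π (θ a)
  hw : h vw = l⁻¹ • vw
  hP : h vP = l • vP
  hQ : h vQ = vQ
  l0 : l ≠ 0
  l2 : l * l ≠ 1
  l3 : l * l * l ≠ 1

variable {E : Subgroup X} {s : SecMap p E (step p E E) V} {x : X} {T : Module.End (ZMod p) V}
  {θ : MulAut X} {h : Module.End (ZMod p) V} {c l : ZMod p} {vw vP vQ : V}
  (C : Ctx E s x T θ h c l vw vP vQ)

include C

theorem htop {y : X} (hy : y ∉ E) : E ⊔ Subgroup.zpowers y = ⊤ := by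
  haveI := C.normal
  rcases (Nat.dvd_prime hp.1).1 (C.index ▸ Subgroup.index_dvd_of_le
    (le_sup_left : E ≤ E ⊔ Subgroup.zpowers y)) with h1 | h1
  · exact Subgroup.index_eq_one.1 h1
  · exfalso
    have h2 : E.relIndex (E ⊔ Subgroup.zpowers y) * (E ⊔ Subgroup.zpowers y).index = E.index :=
      Subgroup.relIndex_mul_index le_sup_left
    rw [h1, C.index] at h2
    have h3 : E.relIndex (E ⊔ Subgroup.zpowers y) = 1 :=
      Nat.eq_of_mul_eq_mul_right hp.1.pos (h2.trans (one_mul p).symm)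
    exact hy (Subgroup.relIndex_eq_one.1 h3 (Subgroup.mem_sup_right (Subgroup.mem_zpowers y)))

theorem exists_dec' (y : X) : ∃ e ∈ E, ∃ i : ℕ, y = e * x ^ i := by
  haveI := C.normal
  obtain ⟨e, he, z, hz, h⟩ := Subgroup.mem_sup_of_normal_left.1
    ((htop C C.notMem).ge (Subgroup.mem_top y))
  obtain ⟨i, hi⟩ := Submonoid.mem_powers_iff _ _ |>.1 (mem_powers_iff_mem_zpowers.2 hz)
  exact ⟨e, he, i, by rw [hi, h]⟩

theorem comm_memE {a : X} (ha : a ∈ E) (y : X) : ⁅a, y⁆ ∈ E := by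
  rw [commutatorElement_def, mul_assoc a, mul_assoc a]
  exact E.mul_mem ha (C.normal.conj_mem _ (E.inv_mem ha) y)

theorem pi_conj (y : X) : ∃ i : ℕ, ∀ a ∈ E, s.π (y * a * y⁻¹) = (T ^ i) (s.π a) := by
  obtain ⟨e, he, i, rfl⟩ := exists_dec' C y
  refine ⟨i, fun a ha => ?_⟩
  rw [show e * x ^ i * a * (e * x ^ i)⁻¹ = e * (x ^ i * a * (x ^ i)⁻¹) * e⁻¹ by group,
    s.conj_eq (C.normal.conj_mem a ha _) he, ← s.conj_pow_eq C.normal C.act i a ha]

theorem T_pow_fixed {u : V} (hu : T u = u) (i : ℕ) : (T ^ i) u = u := by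
  induction i with
  | zero => simp
  | succ i ih => rw [pow_succ', Module.End.mul_apply, ih, hu]

theorem T_pow_w (i : ℕ) : (T ^ i) vw = vw + ((i : ZMod p) * c) • vP := by
  induction i with
  | zero => simp
  | succ i ih =>
    rw [pow_succ', Module.End.mul_apply, ih, map_add, map_smul, C.dw, C.dP, Nat.cast_succ,
      add_assoc, ← add_smul]
    ring_nf

/-- Fixed vectors lift to elements central modulo `Φ(E)`. -/
theorem fixed_central {a : X} (ha : a ∈ E) (hfix : T (s.π a) = s.π a) (y : X) :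
    ⁅y, a⁆ ∈ step p E E := by
  obtain ⟨i, hi⟩ := pi_conj C y
  have h1 := comm_mem_swap (comm_memE C ha y)
  rw [← s.map_eq_zero _ h1, commutatorElement_def,
    s.map_mul _ (C.normal.conj_mem a ha y) _ (E.inv_mem ha), hi a ha, T_pow_fixed C hfix,
    s.map_inv ha, add_neg_cancel]

theorem fixed_central' {a : X} (ha : a ∈ E) (hfix : T (s.π a) = s.π a) (y : X) :
    ⁅a, y⁆ ∈ step p E E := comm_mem_swap (fixed_central C ha hfix y)

/-- Preimages of fixed subspaces are normal. -/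
theorem pre_normal {U : Submodule (ZMod p) V} (hU : ∀ u ∈ U, T u = u) : (s.pre U).Normal := by
  refine ⟨fun a ha y => ⟨C.normal.conj_mem a ha.1 y, ?_⟩⟩
  obtain ⟨i, hi⟩ := pi_conj C y
  rw [hi a ha.1, T_pow_fixed C (hU _ ha.2)]
  exact ha.2

theorem eq_of_fixed {u : V} (hu : T u = u) : ∃ b d : ZMod p, u = b • vP + d • vQ := by
  obtain ⟨a, b, d, rfl⟩ := C.span u
  rw [map_add, map_add, map_smul, map_smul, map_smul, C.dw, C.dP, C.dQ, smul_add, smul_smul,
    add_assoc (a • vw)] at hu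
  have h1 : (0 : ZMod p) • vw + (a * c) • vP + (0 : ZMod p) • vQ = 0 := by
    rw [← sub_eq_zero_of_eq hu]
    module
  obtain ⟨-, h2, -⟩ := C.indep _ _ _ h1
  rw [(mul_eq_zero.1 h2).resolve_right C.c0, zero_smul, zero_add]
  exact ⟨b, d, rfl⟩

theorem fixed_span {u : V} (hu : u ∈ Submodule.span (ZMod p) {vP}) : T u = u := by
  obtain ⟨b, rfl⟩ := Submodule.mem_span_singleton.1 hu
  rw [map_smul, C.dP]

/-- Commutators lie over the line of the centre. -/
theorem comm_mem_line (a y : X) : ⁅a, y⁆ ∈ s.pre (Submodule.span (ZMod p) {vP}) := by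
  set N := s.pre (Submodule.span (ZMod p) {vP})
  have hN : N.Normal := pre_normal C fun u hu => fixed_span C hu
  have hK : ∀ k ∈ step p E E, k ∈ N := fun k hk => by
    have hkE : k ∈ E := step_le_self C.normal hk
    exact ⟨hkE, by rw [(s.map_eq_zero k hkE).2 hk]; exact Submodule.zero_mem _⟩
  have hxE : ∀ e ∈ E, ⁅x, e⁆ ∈ N := fun e he => ⟨comm_mem_swap (comm_memE C he x), by
    obtain ⟨a, b, d, habd⟩ := C.span (s.π e)
    rw [s.map_comm_left C.normal C.act he, habd, LinearMap.sub_apply, Module.End.one_apply,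
      map_add, map_add, map_smul, map_smul, map_smul, C.dw, C.dP, C.dQ]
    refine Submodule.mem_span_singleton.2 ⟨a * c, ?_⟩
    module⟩
  have hEE : ∀ a ∈ E, ∀ e ∈ E, ⁅a, e⁆ ∈ N := fun a ha e he => hK _ (comm_mem_step ha he)
  have ht := htop C C.notMem
  have hx' : ∀ y, ⁅x, y⁆ ∈ N := comm_top_mem hN ht
    (by rw [commutatorElement_self]; exact N.one_mem) hxE
  have hE' : ∀ a ∈ E, ∀ y, ⁅a, y⁆ ∈ N := fun a ha =>
    comm_top_mem hN ht (comm_mem_swap (hxE a ha)) (hEE a ha)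
  exact comm_top_mem hN ht (comm_mem_swap (hx' a)) (fun e he => comm_mem_swap (hE' e he a)) y

/-- An element outside `E` acts nontrivially. -/
theorem exists_moved {w0 : X} (hw0 : w0 ∈ E) (hw : s.π w0 = vw) {y : X} (hy : y ∉ E) :
    ⁅y, w0⁆ ∉ step p E E := by
  haveI := C.normal
  obtain ⟨e, he, i, rfl⟩ := exists_dec' C y
  intro hmem
  have hxa : x ^ i * w0 * (x ^ i)⁻¹ ∈ E := C.normal.conj_mem w0 hw0 _
  have h1 := (s.map_eq_zero _ (comm_mem_swap (comm_memE C hw0 _))).2 hmem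
  rw [commutatorElement_def,
    show e * x ^ i * w0 * (e * x ^ i)⁻¹ * w0⁻¹ = e * (x ^ i * w0 * (x ^ i)⁻¹) * e⁻¹ * w0⁻¹ by group,
    s.map_mul _ (C.normal.conj_mem _ hxa e) _ (E.inv_mem hw0), s.conj_eq hxa he,
    ← s.conj_pow_eq C.normal C.act i w0 hw0, s.map_inv hw0, hw, T_pow_w C i,
    add_neg_cancel_comm] at h1
  have h2 := C.indep 0 ((i : ZMod p) * c) 0 (by rw [h1]; simp)
  obtain ⟨k, rfl⟩ := (ZMod.natCast_eq_zero_iff i p).1 ((mul_eq_zero.1 h2.2.1).resolve_right C.c0)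
  refine hy (E.mul_mem he ?_)
  rw [pow_mul]
  exact E.pow_mem (C.index ▸ E.pow_index_mem x) k

/-- The torus element multiplies the outside generator by the square. -/
theorem theta_x {w0 : X} (hw0 : w0 ∈ E) (hw : s.π w0 = vw) :
    ∃ e ∈ E, θ x = e * x ^ (l * l).val := by
  haveI := C.normal
  obtain ⟨e, he, i, hei⟩ := exists_dec' C (θ x)
  have h1 : h (T vw) = (T ^ i) (h vw) := by
    rw [← hw, C.act w0 hw0, C.hθ _ (C.normal.conj_mem w0 hw0 x), C.hθ w0 hw0,
      map_mul, map_mul, map_inv, hei,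
      show e * x ^ i * θ w0 * (e * x ^ i)⁻¹ = e * (x ^ i * θ w0 * (x ^ i)⁻¹) * e⁻¹ by group,
      s.conj_eq (C.normal.conj_mem _ (C.mapsE w0 hw0) _) he,
      ← s.conj_pow_eq C.normal C.act i _ (C.mapsE w0 hw0)]
  rw [C.dw, map_add, map_smul, C.hw, C.hP, map_smul, T_pow_w C i, smul_add, smul_smul, smul_smul,
    add_right_inj] at h1
  have h2 := C.indep 0 (c * l - l⁻¹ * ((i : ZMod p) * c)) 0 (by
    rw [sub_smul, h1]
    simp)
  have hi : (i : ZMod p) = l * l := by
    have h3 := sub_eq_zero.1 h2.2.1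
    have hl := C.l0
    field_simp at h3
    have h4 : (l * l) * c = (i : ZMod p) * c := by linear_combination h3
    exact (mul_right_cancel₀ C.c0 h4).symm
  have hmod : i % p = (l * l).val % p := by
    have : ((i : ℕ) : ZMod p) = ((l * l).val : ZMod p) := by rw [ZMod.natCast_zmod_val, hi]
    exact (ZMod.natCast_eq_natCast_iff' i _ p).1 this
  have hlt := ZMod.val_lt (l * l)
  rw [Nat.mod_eq_of_lt hlt] at hmod
  refine ⟨e * (x ^ p) ^ (i / p), E.mul_mem he (E.pow_mem (C.index ▸ E.pow_index_mem x) _), ?_⟩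
  rw [hei, mul_assoc, ← pow_mul, ← pow_add, ← hmod, Nat.div_add_mod]

/-- The generator can be chosen so that the torus element multiplies it modulo the fixed part. -/
theorem exists_adjust {w0 : X} (hw0 : w0 ∈ E) (hw : s.π w0 = vw) :
    ∃ x', Ctx E s x' T θ h c l vw vP vQ ∧
      ∃ r ∈ E, T (s.π r) = s.π r ∧ θ x' = r * x' ^ (l * l).val := by
  obtain ⟨e, he, hex⟩ := theta_x C hw0 hw
  obtain ⟨a, b, d, habd⟩ := C.span (s.π e)
  set m := (l * l).val
  have hmu : (m : ZMod p) = l * l := ZMod.natCast_zmod_val _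
  have hne : l * l - l⁻¹ ≠ 0 := fun h0 => C.l3 (by
    have h1 := congrArg (· * l) (sub_eq_zero.1 h0)
    rwa [inv_mul_cancel₀ C.l0] at h1)
  set r := (a / (l * l - l⁻¹)).val
  have hr : (r : ZMod p) = a / (l * l - l⁻¹) := ZMod.natCast_zmod_val _
  have ha : a = (r : ZMod p) * (l * l - l⁻¹) := by rw [hr, div_mul_cancel₀ _ hne]
  set A := s.pre (LinearMap.ker (T - 1)) with hA
  have hfix : ∀ u ∈ LinearMap.ker (T - 1), T u = u := fun u hu => sub_eq_zero.1
    (show (T - 1) u = 0 from hu)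
  have hAn : A.Normal := pre_normal C hfix
  set y := w0 ^ r with hy
  have hyE : y ∈ E := E.pow_mem hw0 r
  have hx'E : y * x ∉ E := fun h0 => C.notMem ((E.mul_mem_cancel_left hyE).1 h0)
  refine ⟨y * x, { C with notMem := hx'E, act := fun u hu => ?_ }, ?_⟩
  · rw [C.act u hu, show y * x * u * (y * x)⁻¹ = y * (x * u * x⁻¹) * y⁻¹ by group,
      s.conj_eq (C.normal.conj_mem u hu x) hyE]
  have hcomm : ⁅y, x⁆ ∈ A := by
    obtain ⟨h1, h2⟩ := comm_mem_line C y x
    exact ⟨h1, sub_eq_zero.2 (fixed_span C h2)⟩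
  have h1 := mul_pow_mem hAn hcomm m
  -- the discrepancy
  have h2 : θ y * e * (y ^ m)⁻¹ ∈ A := by
    have hme : θ y * e * (y ^ m)⁻¹ ∈ E :=
      E.mul_mem (E.mul_mem (C.mapsE y hyE) he) (E.inv_mem (E.pow_mem hyE m))
    refine ⟨hme, ?_⟩
    have hπ : s.π (θ y * e * (y ^ m)⁻¹) = b • vP + d • vQ := by
      rw [s.map_mul _ (E.mul_mem (C.mapsE y hyE) he) _ (E.inv_mem (E.pow_mem hyE m)),
        s.map_mul _ (C.mapsE y hyE) _ he, s.map_inv (E.pow_mem hyE m), ← C.hθ y hyE, hy,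
        s.map_pow_cast (E.pow_mem hw0 r), s.map_pow_cast hw0, hw, map_smul, C.hw, habd, hmu, ha]
      match_scalars <;> ring
    rw [hπ]
    show (T - 1) _ = 0
    simp [map_add, map_smul, C.dP, C.dQ]
  set z := (y ^ m * x ^ m)⁻¹ * (y * x) ^ m
  have h3 : θ y * e * (y ^ m)⁻¹ * ((y ^ m * x ^ m) * z⁻¹ * (y ^ m * x ^ m)⁻¹) ∈ A :=
    A.mul_mem h2 (hAn.conj_mem _ (A.inv_mem h1) _)
  refine ⟨_, h3.1, hfix _ h3.2, ?_⟩
  rw [map_mul, hex]
  simp only [z]
  group

variable {r : X}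

/-- The `p`-th power of the adjusted generator. -/
theorem x_pow_mem (hr : r ∈ E) (hrT : T (s.π r) = s.π r) (hrx : θ x = r * x ^ (l * l).val) :
    x ^ p ∈ step p E E := by
  haveI := C.normal
  have hxp : x ^ p ∈ E := C.index ▸ E.pow_index_mem x
  have hfix : T (s.π (x ^ p)) = s.π (x ^ p) := by
    rw [C.act _ hxp, ← pow_succ', pow_succ, mul_inv_cancel_right]
  obtain ⟨b, d, hbd⟩ := eq_of_fixed C hfix
  haveI := C.normal
  have hK : (step p E E).Normal := step_normal
  have h1 := mul_pow_mem hK (fixed_central' C hr hrT (x ^ (l * l).val)) p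
  rw [← hrx] at h1
  have hmem : r ^ p * (x ^ (l * l).val) ^ p ∈ E :=
    E.mul_mem (E.pow_mem hr p) (by rw [← pow_mul, mul_comm, pow_mul]; exact E.pow_mem hxp _)
  have h2 := (s.eq_iff hmem (by rw [← map_pow]; exact C.mapsE _ hxp)).2 h1
  rw [← map_pow θ, ← C.hθ _ hxp, s.map_mul _ (E.pow_mem hr p) _
      (by rw [← pow_mul, mul_comm, pow_mul]; exact E.pow_mem hxp _),
    (s.map_eq_zero _ (E.pow_mem hr p)).2 (s.pow_mem hr), zero_add, ← pow_mul, mul_comm, pow_mul,
    s.map_pow_cast hxp, ZMod.natCast_zmod_val, hbd, map_add, map_smul, map_smul, C.hP,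
    C.hQ] at h2
  have h3 := C.indep 0 ((l * l) * b - b * l) ((l * l) * d - d) (by
    have := sub_eq_zero_of_eq h2
    rw [← this]
    module)
  have hb : b = 0 := by
    have h4 : b * l * (l - 1) = 0 := by linear_combination h3.2.1
    have hl1 : l - 1 ≠ 0 := fun h0 => C.l2 (by rw [sub_eq_zero.1 h0, one_mul])
    exact (mul_eq_zero.1 ((mul_eq_zero.1 h4).resolve_right hl1)).resolve_right C.l0
  have hd : d = 0 := by
    have h4 : d * (l * l - 1) = 0 := by linear_combination h3.2.2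
    exact (mul_eq_zero.1 h4).resolve_right (sub_ne_zero.2 C.l2)
  rw [← s.map_eq_zero _ hxp, hbd, hb, hd, zero_smul, zero_smul, add_zero]

/-- Every `p`-th power lies in `Φ(E)`. -/
theorem pow_mem_K (hxK : x ^ p ∈ step p E E) (y : X) : y ^ p ∈ step p E E := by
  haveI := C.normal
  have hK : (step p E E).Normal := step_normal
  obtain ⟨e, he, i, rfl⟩ := exists_dec' C y
  obtain ⟨hcE, hcl⟩ := comm_mem_line C (x ^ i) e
  have hfix := fixed_span C hcl
  have h1 := mul_pow_p_mem (p := p) (by have := C.p5; omega) hK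
    (fixed_central' C hcE hfix e) (fixed_central' C hcE hfix (x ^ i)) (s.pow_mem hcE)
  have h2 : e ^ p * (x ^ i) ^ p ∈ step p E E := by
    refine Subgroup.mul_mem _ (s.pow_mem he) ?_
    rw [← pow_mul, mul_comm, pow_mul]
    exact Subgroup.pow_mem _ hxK i
  have h3 := Subgroup.mul_mem _ h2 h1
  rwa [mul_inv_cancel_left] at h3

/-- The Frattini subgroup lies over the line of the centre. -/
theorem frattini_le_line (hxK : x ^ p ∈ step p E E) :
    step p (⊤ : Subgroup X) ⊤ ≤ s.pre (Submodule.span (ZMod p) {vP}) := by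
  refine step_le (fun a _ b _ => comm_mem_line C a b) fun a _ => ?_
  have h := pow_mem_K C hxK a
  have hE : a ^ p ∈ E := step_le_self C.normal h
  exact ⟨hE, by rw [(s.map_eq_zero _ hE).2 h]; exact Submodule.zero_mem _⟩

end Transv

end CfsgLib.Fusion.RankThree
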