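import Cfsg.Agent.Lib.Fusion.RankThree.Tools

/-!
# A transvection: a common Frattini subgroup gives an elementary section of order `p ^ 4`
-/

set_option autoImplicit false
set_option linter.unusedSectionVars false
set_option linter.style.haveILetI false

namespace CfsgLib.Fusion.RankThree

open scoped commutatorElement

universe u

variable {p : ℕ} [hp : Fact p.Prime] {Y : Type u} [Group Y] [Finite Y] {W : Type u}
  [AddCommGroup W] [Module (ZMod p) W]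

namespace Transv

/-- The data of an extension `Y` of `X` by an element moving the subgroup, with an automorphism
of `Y` having suitable weights. -/
structure EqCtx (K Zs X : Subgroup Y) (sZ : SecMap p Zs K W) (z w g n : Y) (Θ : MulAut Y)
    (Tg TΘ : Module.End (ZMod p) W) (k : ℕ) (m c e b χP χQ : ZMod p) (vP vQ : W) : Prop where
  rank : Cfsg.SectionalPRankLE p 3 Y
  normalK : K.Normal
  normalZ : Zs.Normal
  normalX : X.Normal
  leX : Zs ≤ X
  central : ∀ a ∈ Zs, ∀ y ∈ X, ⁅y, a⁆ ∈ K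
  expK : ∀ y ∈ X, y ^ p ∈ K
  zmem : z ∈ X
  wmem : w ∈ X
  gen : ∀ y ∈ X, ∃ a b : ℕ, ∃ ζ ∈ Zs, y = z ^ a * w ^ b * ζ
  free : ∀ a b : ℕ, z ^ a * w ^ b ∈ Zs → p ∣ a ∧ p ∣ b
  zw : ⁅w, z⁆ ∈ Zs ∧ sZ.π ⁅w, z⁆ = c • vP
  c0 : c ≠ 0
  g_notMem : g ∉ X
  g_pow : g ^ p ∈ X
  gz : ⁅g, z⁆ ∈ Zs
  gw : ⁅g, w⁆ ∉ Zs
  gw' : ∃ a : ℕ, ∃ ζ ∈ Zs, ⁅g, w⁆ = z ^ a * ζ
  actg : ∀ a ∈ Zs, Tg (sZ.π a) = sZ.π (g * a * g⁻¹)
  gP : Tg vP = vP
  gQ : Tg vQ = vQ + e • vP
  span : ∀ v, ∃ γ δ : ZMod p, v = γ • vP + δ • vQ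
  indep : ∀ γ δ : ZMod p, γ • vP + δ • vQ = 0 → γ = 0 ∧ δ = 0
  θK : ∀ a ∈ K, Θ a ∈ K
  θX : ∀ a ∈ X, Θ a ∈ X
  θZ : ∀ a ∈ Zs, Θ a ∈ Zs
  θg : Θ g = n * g ^ k
  nmem : n ∈ X
  θz : ∃ ζ ∈ Zs, Θ z = z ^ m.val * ζ
  actΘ : ∀ a ∈ Zs, TΘ (sZ.π a) = sZ.π (Θ a)
  θP : TΘ vP = χP • vP
  θQ : TΘ vQ = χQ • vQ + b • vP
  m0 : m ≠ 0
  ne1 : (k : ZMod p) ≠ χP
  ne2 : (k : ZMod p) ≠ χQ
  ne3 : (k : ZMod p) * χQ ≠ χP
  ne4 : (k : ZMod p) * m ≠ χQ

variable {K Zs X : Subgroup Y} {sZ : SecMap p Zs K W} {z w g n : Y} {Θ : MulAut Y}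
  {Tg TΘ : Module.End (ZMod p) W} {k : ℕ} {m c e b χP χQ : ZMod p} {vP vQ : W}

/-- The moving element centralises the centre modulo the bottom. -/
theorem g_central (C : EqCtx K Zs X sZ z w g n Θ Tg TΘ k m c e b χP χQ vP vQ) :
    e = 0 ∧ ∀ v, Tg v = v := by
  haveI := C.normalZ
  have hX : ∀ a ∈ Zs, ∀ y ∈ X, sZ.π (y * a * y⁻¹) = sZ.π a := fun a ha y hy => by
    refine ((sZ.eq_iff ha (C.normalZ.conj_mem a ha y)).2 ?_).symm
    rw [show a⁻¹ * (y * a * y⁻¹) = a⁻¹ * ⁅y, a⁆ * a by group]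
    simpa using C.normalK.conj_mem _ (C.central a ha y hy) a⁻¹
  have hcomm : ∀ v, TΘ (Tg v) = (Tg ^ k) (TΘ v) := by
    intro v
    obtain ⟨a, ha, rfl⟩ := sZ.surj v
    rw [C.actg a ha, C.actΘ _ (C.normalZ.conj_mem a ha g), C.actΘ a ha,
      sZ.conj_pow_eq C.normalZ C.actg k _ (C.θZ a ha), map_mul, map_mul, map_inv, C.θg,
      show n * g ^ k * Θ a * (n * g ^ k)⁻¹ = n * (g ^ k * Θ a * (g ^ k)⁻¹) * n⁻¹ by group,
      hX _ (C.normalZ.conj_mem _ (C.θZ a ha) _) n C.nmem]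
  have hP : ∀ i : ℕ, (Tg ^ i) vP = vP := fun i => by
    induction i with
    | zero => simp
    | succ i ih => rw [pow_succ', Module.End.mul_apply, ih, C.gP]
  have hQ : ∀ i : ℕ, (Tg ^ i) vQ = vQ + ((i : ZMod p) * e) • vP := fun i => by
    induction i with
    | zero => simp
    | succ i ih =>
      rw [pow_succ', Module.End.mul_apply, ih, map_add, map_smul, C.gQ, C.gP, Nat.cast_succ,
        add_assoc, ← add_smul]
      ring_nf
  have he : e = 0 := by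
    have h1 := hcomm vQ
    rw [C.gQ, map_add, map_smul, C.θP, C.θQ, map_add, map_smul, map_smul, hP, hQ] at h1
    have h2 := C.indep (e * χP - χQ * ((k : ZMod p) * e)) 0 (by
      rw [← sub_eq_zero_of_eq h1]
      module)
    have h3 : e * (χP - (k : ZMod p) * χQ) = 0 := by linear_combination h2.1
    exact (mul_eq_zero.1 h3).resolve_right (sub_ne_zero.2 C.ne3.symm)
  refine ⟨he, fun v => ?_⟩
  obtain ⟨γ, δ, rfl⟩ := C.span v
  rw [map_add, map_smul, map_smul, C.gP, C.gQ, he, zero_smul, add_zero]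

set_option maxHeartbeats 800000 in
/-- The configuration gives an elementary section of order `p ^ 4`. -/
theorem false_of_eq (hp2 : p ≠ 2)
    (C₀ : EqCtx K Zs X sZ z w g n Θ Tg TΘ k m c e b χP χQ vP vQ) : False := by
  haveI := C₀.normalX
  haveI := C₀.normalZ
  haveI := C₀.normalK
  -- adjust the moving element
  obtain ⟨γ₀, δ₀, hgz₀⟩ := C₀.span (sZ.π ⁅g, z⁆)
  set j := (-γ₀ / c).val
  set g' := g * w ^ j with hg'
  have hwjX : w ^ j ∈ X := X.pow_mem C₀.wmem j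
  have hX : ∀ a ∈ Zs, ∀ y ∈ X, sZ.π (y * a * y⁻¹) = sZ.π a := fun a ha y hy => by
    refine ((sZ.eq_iff ha (C₀.normalZ.conj_mem a ha y)).2 ?_).symm
    rw [show a⁻¹ * (y * a * y⁻¹) = a⁻¹ * ⁅y, a⁆ * a by group]
    simpa using C₀.normalK.conj_mem _ (C₀.central a ha y hy) a⁻¹
  have hwz : ∀ i : ℕ, ⁅w ^ i, z⁆ ∈ Zs ∧ sZ.π ⁅w ^ i, z⁆ = ((i : ZMod p) * c) • vP := by
    intro i
    induction i with
    | zero => simp [Zs.one_mem, sZ.map_one]
    | succ i ih =>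
      have e1 : ⁅w ^ (i + 1), z⁆ = w ^ i * ⁅w, z⁆ * (w ^ i)⁻¹ * ⁅w ^ i, z⁆ := by
        rw [pow_succ]
        group
      refine ⟨e1 ▸ Zs.mul_mem (C₀.normalZ.conj_mem _ C₀.zw.1 _) ih.1, ?_⟩
      rw [e1, sZ.map_mul _ (C₀.normalZ.conj_mem _ C₀.zw.1 _) _ ih.1,
        hX _ C₀.zw.1 _ (X.pow_mem C₀.wmem i), C₀.zw.2, ih.2, Nat.cast_succ, add_mul, one_mul,
        add_smul, add_comm]
  have hg'z : ⁅g', z⁆ ∈ Zs ∧ sZ.π ⁅g', z⁆ = δ₀ • vQ := by
    have e1 : ⁅g', z⁆ = g * ⁅w ^ j, z⁆ * g⁻¹ * ⁅g, z⁆ := by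
      simp only [hg']
      group
    refine ⟨e1 ▸ Zs.mul_mem (C₀.normalZ.conj_mem _ (hwz j).1 _) C₀.gz, ?_⟩
    rw [e1, sZ.map_mul _ (C₀.normalZ.conj_mem _ (hwz j).1 _) _ C₀.gz, ← C₀.actg _ (hwz j).1,
      (hwz j).2, map_smul, C₀.gP, hgz₀, ZMod.natCast_zmod_val, div_mul_cancel₀ _ C₀.c0,
      ← add_assoc, ← add_smul, neg_add_cancel, zero_smul, zero_add]
  have hgg' : ((g' : Y) : Y ⧸ X) = (g : Y ⧸ X) := by
    rw [hg', QuotientGroup.mk_mul, (QuotientGroup.eq_one_iff (w ^ j)).2 hwjX, mul_one]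
  set n' := Θ g' * (g' ^ k)⁻¹ with hn'
  have hC : EqCtx K Zs X sZ z w g' n' Θ Tg TΘ k m c e b χP χQ vP vQ :=
    { C₀ with
      g_notMem := fun h => C₀.g_notMem ((X.mul_mem_cancel_right hwjX).1 h)
      g_pow := by
        rw [← QuotientGroup.eq_one_iff, QuotientGroup.mk_pow, hgg', ← QuotientGroup.mk_pow,
          QuotientGroup.eq_one_iff]
        exact C₀.g_pow
      gz := hg'z.1
      gw := by
        rw [show ⁅g', w⁆ = ⁅g, w⁆ by simp only [hg']; group]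
        exact C₀.gw
      gw' := by
        rw [show ⁅g', w⁆ = ⁅g, w⁆ by simp only [hg']; group]
        exact C₀.gw'
      actg := fun a ha => by
        rw [show g' * a * g'⁻¹ = g * (w ^ j * a * (w ^ j)⁻¹) * g⁻¹ by simp only [hg']; group,
          ← C₀.actg _ (C₀.normalZ.conj_mem a ha _), hX a ha _ hwjX]
      θg := by rw [hn', inv_mul_cancel_right]
      nmem := by
        rw [← QuotientGroup.eq_one_iff (N := X) n', hn', QuotientGroup.mk_mul, QuotientGroup.mk_inv,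
          QuotientGroup.mk_pow, hgg', hg', map_mul, QuotientGroup.mk_mul,
          (QuotientGroup.eq_one_iff (Θ (w ^ j))).2 (C₀.θX _ hwjX), mul_one, C₀.θg,
          QuotientGroup.mk_mul, (QuotientGroup.eq_one_iff n).2 C₀.nmem, one_mul,
          QuotientGroup.mk_pow, mul_inv_cancel] }
  clear_value n' g'
  clear hn' hg'
  -- the centre is central modulo the bottom
  obtain ⟨-, hTg⟩ := g_central hC
  have hg'Z : ∀ a ∈ Zs, sZ.π (g' * a * g'⁻¹) = sZ.π a := fun a ha => by rw [← hC.actg a ha, hTg]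
  have hgk : ∀ i : ℕ, ∀ a ∈ Zs, sZ.π (g' ^ i * a * (g' ^ i)⁻¹) = sZ.π a := fun i a ha => by
    induction i with
    | zero => simp
    | succ i ih =>
      rw [show g' ^ (i + 1) * a * (g' ^ (i + 1))⁻¹ = g' * (g' ^ i * a * (g' ^ i)⁻¹) * g'⁻¹ by
        rw [pow_succ']; group, hg'Z _ (hC.normalZ.conj_mem a ha _), ih]
  set π := QuotientGroup.mk' K with hπ
  have hK1 : ∀ y, y ∈ K → π y = 1 := fun y hy => (QuotientGroup.eq_one_iff y).2 hy
  have hzero : ∀ a ∈ Zs, sZ.π a = 0 → π a = 1 := fun a ha h => hK1 a ((sZ.map_eq_zero a ha).1 h)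
  have hcomm : ∀ a y, ⁅a, y⁆ ∈ K → Commute (π a) (π y) := fun a y h => by
    rw [commute_iff_eq, ← commutatorElement_eq_one_iff_mul_comm, ← map_commutatorElement]
    exact hK1 _ h
  have hcX : ∀ a ∈ Zs, ∀ y ∈ X, Commute (π y) (π a) := fun a ha y hy =>
    hcomm y a (hC.central a ha y hy)
  have hcg : ∀ a ∈ Zs, Commute (π g') (π a) := fun a ha => by
    refine hcomm g' a ?_
    have h1 : ⁅g', a⁆ = g' * a * g'⁻¹ * a⁻¹ := rfl
    rw [h1, ← sZ.map_eq_zero _ (Zs.mul_mem (hC.normalZ.conj_mem a ha g') (Zs.inv_mem ha)),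
      sZ.map_mul _ (hC.normalZ.conj_mem a ha g') _ (Zs.inv_mem ha), hg'Z a ha, sZ.map_inv ha,
      add_neg_cancel]
  -- the commutator with `z`
  obtain ⟨ζ, hζ, hθz⟩ := hC.θz
  obtain ⟨an, bn, ζn, hζn, hn⟩ := hC.gen n' hC.nmem
  set M := m.val
  have hM : (M : ZMod p) = m := ZMod.natCast_zmod_val m
  have hkz : ∀ i : ℕ, ∀ M : ℕ, ⁅g' ^ i, z ^ M⁆ ∈ Zs ∧
      sZ.π ⁅g' ^ i, z ^ M⁆ = ((i : ZMod p) * (M : ZMod p) * δ₀) • vQ := by
    intro i M
    have h1 : ∀ M : ℕ, ⁅g', z ^ M⁆ ∈ Zs ∧ sZ.π ⁅g', z ^ M⁆ = ((M : ZMod p) * δ₀) • vQ := by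
      intro M
      induction M with
      | zero => simp [Zs.one_mem, sZ.map_one]
      | succ M ih =>
        have e1 : ⁅g', z ^ (M + 1)⁆ = ⁅g', z ^ M⁆ * (z ^ M * ⁅g', z⁆ * (z ^ M)⁻¹) := by
          rw [pow_succ]; group
        refine ⟨e1 ▸ Zs.mul_mem ih.1 (hC.normalZ.conj_mem _ hg'z.1 _), ?_⟩
        rw [e1, sZ.map_mul _ ih.1 _ (hC.normalZ.conj_mem _ hg'z.1 _),
          hX _ hg'z.1 _ (X.pow_mem hC.zmem M), hg'z.2, ih.2, Nat.cast_succ, add_mul, one_mul,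
          add_smul]
    induction i with
    | zero => simp [Zs.one_mem, sZ.map_one]
    | succ i ih =>
      have e1 : ⁅g' ^ (i + 1), z ^ M⁆ = g' ^ i * ⁅g', z ^ M⁆ * (g' ^ i)⁻¹ * ⁅g' ^ i, z ^ M⁆ := by
        rw [pow_succ]; group
      refine ⟨e1 ▸ Zs.mul_mem (hC.normalZ.conj_mem _ (h1 M).1 _) ih.1, ?_⟩
      rw [e1, sZ.map_mul _ (hC.normalZ.conj_mem _ (h1 M).1 _) _ ih.1, hgk i _ (h1 M).1, (h1 M).2,
        ih.2, ← add_smul, Nat.cast_succ]
      ring_nf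
  have hzb : ∀ M : ℕ, ⁅w ^ bn, z ^ M⁆ ∈ Zs ∧
      sZ.π ⁅w ^ bn, z ^ M⁆ = ((M : ZMod p) * ((bn : ZMod p) * c)) • vP := by
    intro M
    induction M with
    | zero => simp [Zs.one_mem, sZ.map_one]
    | succ M ih =>
      have e1 : ⁅w ^ bn, z ^ (M + 1)⁆ = ⁅w ^ bn, z ^ M⁆ * (z ^ M * ⁅w ^ bn, z⁆ * (z ^ M)⁻¹) := by
        rw [pow_succ]; group
      refine ⟨e1 ▸ Zs.mul_mem ih.1 (hC.normalZ.conj_mem _ (hwz bn).1 _), ?_⟩
      rw [e1, sZ.map_mul _ ih.1 _ (hC.normalZ.conj_mem _ (hwz bn).1 _),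
        hX _ (hwz bn).1 _ (X.pow_mem hC.zmem M), (hwz bn).2, ih.2, ← add_smul, Nat.cast_succ]
      ring_nf
  have hθr : sZ.π (Θ ⁅g', z⁆) =
      ((k : ZMod p) * m * δ₀) • vQ + (m * ((bn : ZMod p) * c)) • vP := by
    have e1 : π (Θ ⁅g', z⁆) = π (⁅g' ^ k, z ^ M⁆ * ⁅w ^ bn, z ^ M⁆) := by
      rw [map_commutatorElement Θ, hC.θg, hθz, map_mul π, map_commutatorElement π, map_mul π, map_mul π]
      set A := π (g' ^ k)
      set B := π (z ^ M)
      have hnB : π n' = π (z ^ an) * π (w ^ bn) * π ζn := by rw [hn, map_mul, map_mul]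
      rw [hnB, map_commutatorElement π, map_commutatorElement π]
      have c1 : Commute (π ζ) A := by
        show Commute (π ζ) (π (g' ^ k))
        rw [map_pow]; exact (hcg ζ hζ).symm.pow_right k
      have c2 : Commute (π ζ) (π n') := (hcX ζ hζ n' hC.nmem).symm
      have c3 : Commute (π ζn) B := (hcX ζn hζn _ (X.pow_mem hC.zmem M)).symm
      have c4 : ∀ a ∈ Zs, ∀ y ∈ X, Commute (π a) (π y) := fun a ha y hy => (hcX a ha y hy).symm
      have hgb : π ⁅g' ^ k, z ^ M⁆ = ⁅A, B⁆ := map_commutatorElement π _ _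
      have hwb : π ⁅w ^ bn, z ^ M⁆ = ⁅π (w ^ bn), B⁆ := map_commutatorElement π _ _
      have c5 : Commute ⁅A, B⁆ (π n') := hgb ▸ c4 _ (hkz k M).1 _ hC.nmem
      have c6 : Commute ⁅π (w ^ bn), B⁆ (π (z ^ an)) := hwb ▸ c4 _ (hzb M).1 _ (X.pow_mem hC.zmem _)
      rw [← hnB]
      calc ⁅π n' * A, B * π ζ⁆ = ⁅π n' * A, B⁆ := by
            have c7 : Commute (π ζ) (A⁻¹ * (π n')⁻¹) := c1.inv_right.mul_right c2.inv_right
            rw [commutatorElement_def, commutatorElement_def, mul_inv_rev, mul_inv_rev,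
              show π n' * A * (B * π ζ) * (A⁻¹ * (π n')⁻¹) =
                π n' * A * B * (π ζ * (A⁻¹ * (π n')⁻¹)) by group, c7.eq]
            group
        _ = π n' * ⁅A, B⁆ * (π n')⁻¹ * ⁅π n', B⁆ := by group
        _ = ⁅A, B⁆ * ⁅π n', B⁆ := by rw [← c5.eq, mul_inv_cancel_right]
        _ = ⁅A, B⁆ * ⁅π (w ^ bn), B⁆ := by
            congr 1
            rw [hnB]
            calc ⁅π (z ^ an) * π (w ^ bn) * π ζn, B⁆
                = π (z ^ an) * π (w ^ bn) * ⁅π ζn, B⁆ * (π (z ^ an) * π (w ^ bn))⁻¹ *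
                  (π (z ^ an) * ⁅π (w ^ bn), B⁆ * (π (z ^ an))⁻¹ * ⁅π (z ^ an), B⁆) := by group
              _ = ⁅π (w ^ bn), B⁆ := by
                have h1 : ⁅π (z ^ an), B⁆ = 1 := commutatorElement_eq_one_iff_commute.2 (by
                  show Commute (π (z ^ an)) (π (z ^ M))
                  rw [map_pow, map_pow]; exact Commute.pow_pow_self _ _ _)
                rw [commutatorElement_eq_one_iff_commute.2 c3, h1, mul_one, ← c6.eq,
                  mul_inv_cancel_right, mul_one, mul_inv_cancel, one_mul]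
    have h2 := hC.θZ _ hg'z.1
    have h3 := Zs.mul_mem (hkz k M).1 (hzb M).1
    rw [(sZ.eq_iff h2 h3).2 ((QuotientGroup.eq (s := K)).1 e1),
      sZ.map_mul _ (hkz k M).1 _ (hzb M).1, (hkz k M).2, (hzb M).2, hM]
  rw [← hC.actΘ _ hg'z.1, hg'z.2, map_smul, hC.θQ] at hθr
  obtain ⟨hPc, hQc⟩ := hC.indep (δ₀ * b - m * ((bn : ZMod p) * c))
    (δ₀ * χQ - (k : ZMod p) * m * δ₀) (by rw [← sub_eq_zero_of_eq hθr]; module)
  have hd : δ₀ = 0 := by
    have h3 : δ₀ * (χQ - (k : ZMod p) * m) = 0 := by linear_combination hQc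
    exact (mul_eq_zero.1 h3).resolve_right (sub_ne_zero.2 hC.ne4.symm)
  have hbn : (bn : ZMod p) = 0 := by
    rw [hd, zero_mul, zero_sub, neg_eq_zero] at hPc
    exact (mul_eq_zero.1 ((mul_eq_zero.1 hPc).resolve_left hC.m0)).resolve_right hC.c0
  have hgzc : Commute (π g') (π z) := hcomm g' z ((sZ.map_eq_zero _ hg'z.1).1
    (by rw [hg'z.2, hd, zero_smul]))
  have hexp : ∀ y ∈ X, π y ^ p = 1 := fun y hy => by rw [← map_pow]; exact hK1 _ (hC.expK y hy)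
  have hdvd : ∀ y ∈ X, ∀ i : ℕ, (i : ZMod p) = 0 → π (y ^ i) = 1 := fun y hy i hi => by
    obtain ⟨i', rfl⟩ := (ZMod.natCast_eq_zero_iff i p).1 hi
    rw [map_pow, pow_mul, hexp y hy, one_pow]
  have hgn : Commute (π g') (π n') := by
    rw [hn, map_mul, map_mul, hdvd w hC.wmem bn hbn, mul_one, map_pow]
    exact (hgzc.pow_right an).mul_right (hcg ζn hζn)
  -- the power of the moving element
  obtain ⟨ag, bg, ζg, hζg, hgp⟩ := hC.gen _ hC.g_pow
  have hbg : p ∣ bg := by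
    by_contra h0
    have h1 : Commute (π g') (π (w ^ bg)) := by
      have h2 : π (w ^ bg) = (π (z ^ ag))⁻¹ * π (g' ^ p) * (π ζg)⁻¹ := by
        rw [hgp, map_mul, map_mul]
        group
      rw [h2, map_pow, map_pow]
      exact (((hgzc.pow_right ag).inv_right).mul_right (Commute.pow_right (Commute.refl _) p)).mul_right
        (hcg ζg hζg).inv_right
    have hcop : bg.Coprime p := Nat.coprime_comm.1 (hp.1.coprime_iff_not_dvd.2 h0)
    obtain ⟨i, -, hi⟩ := Nat.exists_mul_mod_eq_one_of_coprime hcop hp.1.one_lt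
    have h3 := h1.pow_right i
    rw [← map_pow π (w ^ bg), ← pow_mul, ← Nat.div_add_mod (bg * i) p, hi, pow_add, pow_mul,
      map_mul, map_pow π (w ^ p), hK1 _ (hC.expK w hC.wmem), one_pow, one_mul, pow_one] at h3
    refine hC.gw (sZ.le ((QuotientGroup.eq_one_iff _).1 ?_))
    show π ⁅g', w⁆ = 1
    rw [map_commutatorElement, commutatorElement_eq_one_iff_commute]
    exact h3
  have hgpz : π (g' ^ p) = π (z ^ ag) * π ζg := by
    rw [hgp, map_mul, map_mul, hdvd w hC.wmem bg ((ZMod.natCast_eq_zero_iff _ _).2 hbg), mul_one]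
  have hag : p ∣ ag := by
    obtain ⟨a₀, ζ₀, hζ₀, hgw⟩ := hC.gw'
    set R := π (z ^ a₀) * π ζ₀ with hR
    have hRg : Commute (π g') R := by
      rw [hR, map_pow]; exact (hgzc.pow_right a₀).mul_right (hcg ζ₀ hζ₀)
    have hRp : R ^ p = 1 := by
      rw [hR, ← map_mul, hexp _ (X.mul_mem (X.pow_mem hC.zmem _) (hC.leX hζ₀))]
    have hgwq : π g' * π w = R * π w * π g' := by
      rw [hR, ← map_mul, ← map_mul π, ← map_mul π, ← map_mul π, ← hgw]
      congr 1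
      group
    have hpw : ∀ i : ℕ, π g' ^ i * π w = R ^ i * π w * π g' ^ i := by
      intro i
      induction i with
      | zero => simp
      | succ i ih =>
        rw [pow_succ', mul_assoc, ih, ← mul_assoc, ← mul_assoc, (hRg.pow_right i).eq,
          mul_assoc (R ^ i), hgwq, ← mul_assoc, ← mul_assoc, ← pow_succ, mul_assoc (R ^ (i + 1) * π w)]
    have h1 := hpw p
    rw [hRp, one_mul, ← map_pow, hgpz] at h1
    have h2 : Commute (π w) (π (z ^ ag)) := by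
      have hzw := hcX ζg hζg w hC.wmem
      show π w * π (z ^ ag) = π (z ^ ag) * π w
      rw [mul_assoc, ← hzw.eq, ← mul_assoc, ← mul_assoc] at h1
      exact (mul_right_cancel h1).symm
    have h3 : ∀ i : ℕ, ⁅w, z ^ i⁆ ∈ Zs ∧ sZ.π ⁅w, z ^ i⁆ = ((i : ZMod p) * c) • vP := by
      intro i
      induction i with
      | zero => simp [Zs.one_mem, sZ.map_one]
      | succ i ih =>
        have e1 : ⁅w, z ^ (i + 1)⁆ = ⁅w, z ^ i⁆ * (z ^ i * ⁅w, z⁆ * (z ^ i)⁻¹) := by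
          rw [pow_succ]; group
        refine ⟨e1 ▸ Zs.mul_mem ih.1 (hC.normalZ.conj_mem _ hC.zw.1 _), ?_⟩
        rw [e1, sZ.map_mul _ ih.1 _ (hC.normalZ.conj_mem _ hC.zw.1 _),
          hX _ hC.zw.1 _ (X.pow_mem hC.zmem i), hC.zw.2, ih.2, ← add_smul, Nat.cast_succ]
        ring_nf
    have h4 : sZ.π ⁅w, z ^ ag⁆ = 0 := (sZ.map_eq_zero _ (h3 ag).1).2
      ((QuotientGroup.eq_one_iff _).1 (by
        show π ⁅w, z ^ ag⁆ = 1
        rw [map_commutatorElement, commutatorElement_eq_one_iff_commute]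
        exact h2))
    rw [(h3 ag).2] at h4
    obtain ⟨h5, -⟩ := hC.indep ((ag : ZMod p) * c) 0 (by rw [h4, zero_smul, add_zero])
    exact (ZMod.natCast_eq_zero_iff _ p).1 ((mul_eq_zero.1 h5).resolve_right hC.c0)
  have hgpZ : g' ^ p ∈ Zs := by
    have h1 : π (g' ^ p) = π ζg := by
      rw [hgpz, hdvd z hC.zmem ag ((ZMod.natCast_eq_zero_iff _ _).2 hag), one_mul]
    have h2 := sZ.le ((QuotientGroup.eq (s := K)).1 h1.symm)
    have h3 := Zs.mul_mem hζg h2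
    rwa [mul_inv_cancel_left] at h3
  have hgpK : sZ.π (g' ^ p) = 0 := by
    obtain ⟨γ, δ, hv⟩ := hC.span (sZ.π (g' ^ p))
    have h1 : π (Θ (g' ^ p)) = π ((g' ^ p) ^ k) := by
      have hcn : Commute (π n') (π (g' ^ k)) := by
        rw [map_pow]; exact (hgn.symm).pow_right k
      rw [map_pow, hC.θg, map_pow π, map_mul, hcn.mul_pow, hexp _ hC.nmem, one_mul, ← map_pow,
        ← pow_mul, ← pow_mul, mul_comm k p]
    have h2 := (sZ.eq_iff (hC.θZ _ hgpZ) (Zs.pow_mem hgpZ k)).2 ((QuotientGroup.eq (s := K)).1 h1)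
    rw [← hC.actΘ _ hgpZ, sZ.map_pow_cast hgpZ, hv, map_add, map_smul, map_smul, hC.θP, hC.θQ] at h2
    obtain ⟨h3, h4⟩ := hC.indep (γ * χP + δ * b - (k : ZMod p) * γ) (δ * χQ - (k : ZMod p) * δ) (by
      rw [← sub_eq_zero_of_eq h2]
      module)
    have hδ : δ = 0 := by
      have h5 : δ * (χQ - (k : ZMod p)) = 0 := by linear_combination h4
      exact (mul_eq_zero.1 h5).resolve_right (sub_ne_zero.2 hC.ne2.symm)
    have hγ : γ = 0 := by
      rw [hδ] at h3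
      have h5 : γ * (χP - (k : ZMod p)) = 0 := by linear_combination h3
      exact (mul_eq_zero.1 h5).resolve_right (sub_ne_zero.2 hC.ne1.symm)
    rw [hv, hγ, hδ, zero_smul, zero_smul, add_zero]
  -- the section
  obtain ⟨P₁, hP₁, hP₁π⟩ := sZ.surj vP
  obtain ⟨Q₁, hQ₁, hQ₁π⟩ := sZ.surj vQ
  have hcK : ∀ {a y}, Commute (π a) (π y) → ⁅a, y⁆ ∈ K := fun {a y} h =>
    (QuotientGroup.eq_one_iff _).1 (by
      show π ⁅a, y⁆ = 1
      rw [map_commutatorElement, commutatorElement_eq_one_iff_commute]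
      exact h)
  refine no_four hC.rank hC.normalK ![g', z, P₁, Q₁] (fun i₁ j₁ => ?_) (fun i₁ => ?_) ?_
  · fin_cases i₁ <;> fin_cases j₁
    · exact hcK (Commute.refl (π g'))
    · exact hcK hgzc
    · exact hcK (hcg P₁ hP₁)
    · exact hcK (hcg Q₁ hQ₁)
    · exact hcK hgzc.symm
    · exact hcK (Commute.refl (π z))
    · exact hcK (hcX P₁ hP₁ z hC.zmem)
    · exact hcK (hcX Q₁ hQ₁ z hC.zmem)
    · exact hcK (hcg P₁ hP₁).symm
    · exact hcK (hcX P₁ hP₁ z hC.zmem).symm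
    · exact hcK (Commute.refl (π P₁))
    · exact hcK (hcX Q₁ hQ₁ P₁ (hC.leX hP₁))
    · exact hcK (hcg Q₁ hQ₁).symm
    · exact hcK (hcX Q₁ hQ₁ z hC.zmem).symm
    · exact hcK (hcX P₁ hP₁ Q₁ (hC.leX hQ₁))
    · exact hcK (Commute.refl (π Q₁))
  · fin_cases i₁
    · exact (sZ.map_eq_zero _ hgpZ).1 hgpK
    · exact hC.expK z hC.zmem
    · exact hC.expK P₁ (hC.leX hP₁)
    · exact hC.expK Q₁ (hC.leX hQ₁)
  · intro a hmem
    simp only [Matrix.cons_val] at hmem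
    have hKX : K ≤ X := fun y hy => hC.leX (sZ.le hy)
    have hg0 : p ∣ a 0 := by
      by_contra h0
      have h1 : g' ^ a 0 ∈ X := by
        have h2 := hKX hmem
        rwa [X.mul_mem_cancel_right (X.pow_mem (hC.leX hQ₁) _),
          X.mul_mem_cancel_right (X.pow_mem (hC.leX hP₁) _),
          X.mul_mem_cancel_right (X.pow_mem hC.zmem _)] at h2
      have hcop : (a 0).Coprime p := Nat.coprime_comm.1 (hp.1.coprime_iff_not_dvd.2 h0)
      obtain ⟨i, -, hi⟩ := Nat.exists_mul_mod_eq_one_of_coprime hcop hp.1.one_lt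
      have h2 : g' ^ (a 0 * i) ∈ X := by rw [pow_mul]; exact X.pow_mem h1 i
      rw [← Nat.div_add_mod (a 0 * i) p, hi, pow_add, pow_mul, pow_one] at h2
      exact hC.g_notMem ((X.mul_mem_cancel_left (X.pow_mem hC.g_pow _)).1 h2)
    obtain ⟨a0, ha0⟩ := hg0
    have hPQ : P₁ ^ a 2 * Q₁ ^ a 3 ∈ Zs := Zs.mul_mem (Zs.pow_mem hP₁ _) (Zs.pow_mem hQ₁ _)
    have hg0K : g' ^ a 0 ∈ K := by
      rw [ha0, pow_mul]
      exact K.pow_mem ((sZ.map_eq_zero _ hgpZ).1 hgpK) _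
    have h1 : z ^ a 1 * (P₁ ^ a 2 * Q₁ ^ a 3) ∈ K := by
      rw [mul_assoc, mul_assoc, K.mul_mem_cancel_left hg0K] at hmem
      exact hmem
    have h1z : p ∣ a 1 := (hC.free (a 1) 0 (by
      rw [pow_zero, mul_one, ← Zs.mul_mem_cancel_right hPQ]
      exact sZ.le h1)).1
    obtain ⟨a1, ha1⟩ := h1z
    have h2 : P₁ ^ a 2 * Q₁ ^ a 3 ∈ K := by
      rw [ha1, pow_mul, K.mul_mem_cancel_left (K.pow_mem (hC.expK z hC.zmem) _)] at h1
      exact h1
    have h3 := (sZ.map_eq_zero _ hPQ).2 h2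
    rw [sZ.map_mul _ (Zs.pow_mem hP₁ _) _ (Zs.pow_mem hQ₁ _), sZ.map_pow_cast hP₁,
      sZ.map_pow_cast hQ₁, hP₁π, hQ₁π] at h3
    obtain ⟨h4, h5⟩ := hC.indep _ _ h3
    intro i₁
    fin_cases i₁
    · exact ⟨a0, ha0⟩
    · exact ⟨a1, ha1⟩
    · exact (ZMod.natCast_eq_zero_iff _ p).1 h4
    · exact (ZMod.natCast_eq_zero_iff _ p).1 h5

end Transv

end CfsgLib.Fusion.RankThree
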