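import Cfsg.Agent.Lib.Fusion.RankThree.TransvBasic
import Cfsg.Agent.Lib.Fusion.RankThree.JordanBasic

/-!
# A transvection: the Frattini subgroup of the moved subgroup is unchanged
-/

set_option autoImplicit false
set_option linter.unusedSectionVars false
set_option linter.style.haveILetI false

namespace CfsgLib.Fusion.RankThree

open scoped commutatorElement

universe u

variable {p : ℕ} [hp : Fact p.Prime] {X : Type u} [Group X] [Finite X] {V : Type u}
  [AddCommGroup V] [Module (ZMod p) V]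

namespace Transv

variable {E : Subgroup X} {s : SecMap p E (step p E E) V} {x : X} {T : Module.End (ZMod p) V}
  {θ : MulAut X} {h : Module.End (ZMod p) V} {c l : ZMod p} {vw vP vQ : V}

set_option maxHeartbeats 1600000 in
/-- The automorphism moving the subgroup fixes its Frattini subgroup. -/
theorem map_step_eq (C₀ : Ctx E s x T θ h c l vw vP vQ) (g : MulAut X)
    (hg : E.map g.toMonoidHom ≠ E) :
    (step p E E).map g.toMonoidHom = step p E E := by
  haveI := C₀.normal
  obtain ⟨w0, hw0, hw⟩ := s.surj vw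
  obtain ⟨q, hq, hqπ⟩ := s.surj vQ
  obtain ⟨p0, hp0, hp0π⟩ := s.surj vP
  obtain ⟨x, C, r, hr, hrT, hrx⟩ := exists_adjust C₀ hw0 hw
  have hxK := x_pow_mem C hr hrT hrx
  have hl := C.l0
  have hlinv : l⁻¹ ≠ 1 := fun h0 => C.l2 (by rw [inv_eq_one.1 h0, mul_one])
  set E' := E.map g.toMonoidHom with hE'
  haveI hE'n : E'.Normal := C.normal.map _ g.surjective
  have hKn : (step p E E).Normal := step_normal
  have hKn' : (step p E' E').Normal := step_normal
  have hmapK : (step p E E).map g.toMonoidHom = step p E' E' := by rw [step_map]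
  rw [hmapK]
  have hKE : step p E E ≤ E := step_le_self C.normal
  have hcard : Nat.card (step p E' E') = Nat.card (step p E E) := by
    rw [← hmapK, Subgroup.card_map_of_injective g.injective]
  have hline := frattini_le_line C hxK
  have hDD' : step p (⊤ : Subgroup X) ⊤ ≤ E' := by
    have h1 : (step p (⊤ : Subgroup X) ⊤).map g.toMonoidHom ≤ E' :=
      Subgroup.map_mono (fun a ha => (hline ha).1)
    rwa [step_map, Subgroup.map_top_of_surjective _ g.surjective] at h1
  -- lifts of the centre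
  have hTQ : T (s.π q) = s.π q := by rw [hqπ, C.dQ]
  have hTP : T (s.π p0) = s.π p0 := by rw [hp0π, C.dP]
  -- the centre lies in the moved subgroup
  have hxw : s.π ⁅x, w0⁆ = c • vP := by
    rw [s.map_comm_left C.normal C.act hw0, hw, LinearMap.sub_apply, Module.End.one_apply, C.dw,
      add_sub_cancel_left]
  have hxwE : ⁅x, w0⁆ ∈ E := comm_mem_swap (comm_memE C hw0 x)
  have hKE' : step p E E ≤ E' := (step_mono le_top le_top).trans hDD'
  have hp0E' : p0 ∈ E' := by
    have h1 : ⁅x, w0⁆ ^ (c⁻¹).val ∈ E' := E'.pow_mem (hDD' (comm_mem_step (Subgroup.mem_top _)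
      (Subgroup.mem_top _))) _
    have h2 : s.π (⁅x, w0⁆ ^ (c⁻¹).val) = s.π p0 := by
      rw [s.map_pow_cast hxwE, hxw, ZMod.natCast_zmod_val, smul_smul, inv_mul_cancel₀ C.c0,
        one_smul, hp0π]
    have h3 := E'.mul_mem h1 (hKE' ((s.eq_iff (E.pow_mem hxwE _) hp0).1 h2))
    rwa [mul_inv_cancel_left] at h3
  -- membership from coordinates
  have hcoord : ∀ a ∈ E, ∀ i j k : ZMod p, ∀ b ∈ E, s.π a = i • s.π b + j • vP + k • vQ →
      ∀ Z : Subgroup X, step p E E ≤ Z → b ∈ Z → p0 ∈ Z → q ∈ Z → a ∈ Z := by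
    intro a ha i j k b hb hijk Z hKZ hbZ hpZ hqZ
    set y := b ^ i.val * p0 ^ j.val * q ^ k.val
    have hy : y ∈ E := E.mul_mem (E.mul_mem (E.pow_mem hb _) (E.pow_mem hp0 _)) (E.pow_mem hq _)
    have h1 : s.π y = s.π a := by
      rw [s.map_mul _ (E.mul_mem (E.pow_mem hb _) (E.pow_mem hp0 _)) _ (E.pow_mem hq _),
        s.map_mul _ (E.pow_mem hb _) _ (E.pow_mem hp0 _), s.map_pow_cast hb, s.map_pow_cast hp0,
        s.map_pow_cast hq, hp0π, hqπ, ZMod.natCast_zmod_val, ZMod.natCast_zmod_val,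
        ZMod.natCast_zmod_val, hijk]
    have h2 := hKZ ((s.eq_iff hy ha).1 h1)
    have h3 := Z.mul_mem (Z.mul_mem (Z.mul_mem (Z.pow_mem hbZ i.val) (Z.pow_mem hpZ j.val))
      (Z.pow_mem hqZ k.val)) h2
    rwa [mul_inv_cancel_left] at h3
  by_cases hcase : ∀ w' ∈ E, w' ∈ E' → T (s.π w') = s.π w'
  · -- the moved subgroup is abelian modulo the Frattini subgroup
    refine Subgroup.eq_of_le_of_card_ge ?_ hcard.ge
    obtain ⟨y0, hy0, hy0E⟩ : ∃ y0 ∈ E', y0 ∉ E := by
      by_contra! h1
      exact hg (Subgroup.eq_of_le_of_card_ge h1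
        (Subgroup.card_map_of_injective g.injective).ge)
    refine step_le (fun a ha b hb => ?_) fun a _ => pow_mem_K C hxK a
    have hdec : ∀ b ∈ E', ∃ e ∈ E, T (s.π e) = s.π e ∧ ∃ i : ℤ, b = e * y0 ^ i := by
      intro b hb
      obtain ⟨e, he, _, ⟨i, rfl⟩, hei⟩ := Subgroup.mem_sup_of_normal_left.1
        ((htop C hy0E).ge (Subgroup.mem_top b))
      refine ⟨e, he, hcase e he ?_, i, hei.symm⟩
      have h1 := E'.mul_mem hb (E'.inv_mem (E'.zpow_mem hy0 i))
      rw [← hei] at h1
      simpa using h1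
    obtain ⟨e, he, heT, i, rfl⟩ := hdec a ha
    obtain ⟨f, hf, hfT, j, rfl⟩ := hdec b hb
    refine (QuotientGroup.eq_one_iff _).1 ?_
    set π := QuotientGroup.mk' (step p E E)
    have hc : ∀ a ∈ E, T (s.π a) = s.π a → ∀ y, Commute (π a) (π y) := fun a ha haT y => by
      rw [commute_iff_eq, ← commutatorElement_eq_one_iff_mul_comm, ← map_commutatorElement]
      exact (QuotientGroup.eq_one_iff _).2 (fixed_central' C ha haT y)
    show π ⁅e * y0 ^ i, f * y0 ^ j⁆ = 1
    rw [map_commutatorElement, commutatorElement_eq_one_iff_commute, map_mul, map_mul, map_zpow,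
      map_zpow]
    refine ((hc e he heT f).mul_right ?_).mul_left (((hc f hf hfT y0).symm.zpow_left i).mul_right
      (Commute.zpow_zpow_self _ i j))
    exact (hc e he heT y0).zpow_right j
  · exfalso
    push Not at hcase
    obtain ⟨w', hw'E, hw'E', hw'T⟩ := hcase
    obtain ⟨a, b, d, habd⟩ := C.span (s.π w')
    have ha : a ≠ 0 := by
      rintro rfl
      apply hw'T
      rw [habd]
      simp [map_add, map_smul, C.dP, C.dQ]
    have hgenE : ∀ Z : Subgroup X, step p E E ≤ Z → w' ∈ Z → p0 ∈ Z → q ∈ Z → E ≤ Z := by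
      intro Z hKZ hwZ hpZ hqZ e he
      obtain ⟨a', b', d', he'⟩ := C.span (s.π e)
      refine hcoord e he (a' / a) (b' - a' / a * b) (d' - a' / a * d) w' hw'E ?_ Z hKZ hwZ hpZ hqZ
      rw [he', habd]
      match_scalars <;> field_simp <;> ring
    have hqE' : q ∉ E' := fun hq' => hg (Subgroup.eq_of_le_of_card_ge
      (hgenE E' hKE' hw'E' hp0E' hq') (Subgroup.card_map_of_injective g.injective).le).symm
    have hidx' : E'.index = p := by
      have h1 := E.card_mul_index
      rw [← E'.card_mul_index, C.index,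
        show Nat.card E' = Nat.card E from Subgroup.card_map_of_injective g.injective] at h1
      exact (Nat.eq_of_mul_eq_mul_left Nat.card_pos h1).symm
    have htop' := sup_eq_top_of_index hidx' hqE'
    obtain ⟨e', he', i, hxi⟩ := exists_dec htop' x
    -- the intersection of the two Frattini subgroups
    set K0 := step p E E ⊓ step p E' E' with hK0
    have hK'line : step p E' E' ≤ s.pre (Submodule.span (ZMod p) {vP}) :=
      (step_mono le_top le_top).trans hline
    have hcard0 : Nat.card (step p E E) ≤ p * Nat.card K0 := by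
      let φ : step p E' E' →* Multiplicative V := MonoidHom.mk'
        (fun y => Multiplicative.ofAdd (s.π (y : X))) fun y z => by
          rw [← ofAdd_add, Subgroup.coe_mul, s.map_mul _ (hK'line y.2).1 _ (hK'line z.2).1]
      have h1 : Nat.card φ.range ≤ p := by
        haveI := s.finite
        have hle : φ.range ≤ Subgroup.zpowers (Multiplicative.ofAdd vP) := by
          rintro _ ⟨y, rfl⟩
          obtain ⟨j, hj⟩ := Submodule.mem_span_singleton.1 (hK'line y.2).2
          refine Subgroup.mem_zpowers_iff.2 ⟨(j.val : ℤ), Multiplicative.toAdd.injective ?_⟩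
          show (j.val : ℤ) • vP = s.π (y : X)
          rw [natCast_zsmul, ← Nat.cast_smul_eq_nsmul (ZMod p), ZMod.natCast_zmod_val, hj]
        refine (Subgroup.card_le_of_le hle).trans ?_
        rw [Nat.card_zpowers]
        refine Nat.le_of_dvd hp.1.pos (orderOf_dvd_of_pow_eq_one (Multiplicative.toAdd.injective ?_))
        rw [toAdd_pow, toAdd_ofAdd, toAdd_one, ← Nat.cast_smul_eq_nsmul (ZMod p), ZMod.natCast_self,
          zero_smul]
      have h2 : Nat.card φ.ker ≤ Nat.card K0 := by
        refine Nat.card_le_card_of_injective (fun y => (⟨((y : step p E' E') : X),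
          ⟨(s.map_eq_zero _ (hK'line (y : step p E' E').2).1).1 (ofAdd_eq_one.1 y.2),
            (y : step p E' E').2⟩⟩ : K0)) ?_
        intro y z hyz
        exact Subtype.ext (Subtype.ext (congrArg (fun u : K0 => (u : X)) hyz))
      have h3 := φ.ker.card_mul_index
      rw [Subgroup.index_ker] at h3
      rw [← hcard, ← h3, mul_comm p]
      exact Nat.mul_le_mul h2 h1
    have hJn : (step p (step p E E) (⊤ : Subgroup X)).Normal := step_normal
    have hJK0 : step p (step p E E) ⊤ ≤ K0 := by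
      haveI := hKn
      haveI := hKn'
      have hK0n : K0.Normal := Subgroup.normal_inf_normal _ _
      haveI := hK0n
      set J' := step p (step p E E) ⊤ ⊔ K0
      have hJ'K : J' ≤ step p E E := sup_le (step_le_self hKn) inf_le_left
      by_cases heq : J' = step p E E
      · have hle : step p E E ≤ K0 := le_of_le_step C.pgroup hKn hK0n heq.ge
        exact (step_le_self hKn).trans hle
      · have hlt : J' < step p E E := lt_of_le_of_ne hJ'K heq
        obtain ⟨k, hk⟩ := IsPGroup.iff_card.1 (C.pgroup.to_subgroup (step p E E))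
        obtain ⟨j, hjk, hj⟩ := (Nat.dvd_prime_pow hp.1).1 (hk ▸ Subgroup.card_dvd_of_le hJ'K)
        have hjlt : j < k := lt_of_le_of_ne hjk fun h0 =>
          heq (Subgroup.eq_of_le_of_card_ge hJ'K (by rw [hk, hj, h0]))
        have h1 : Nat.card J' * p ≤ Nat.card (step p E E) := by
          rw [hj, hk, ← pow_succ]
          exact Nat.pow_le_pow_right hp.1.pos hjlt
        have h2 : Nat.card J' ≤ Nat.card K0 := by
          have h3 := h1.trans hcard0
          rw [mul_comm p] at h3
          exact Nat.le_of_mul_le_mul_right h3 hp.1.pos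
        exact le_sup_left.trans (Subgroup.eq_of_le_of_card_ge le_sup_right h2).ge
    -- the layer below the Frattini subgroup
    obtain ⟨M, _, _, ⟨sK⟩⟩ := exists_secMap (p := p) (A := step p E E)
      (B := step p (step p E E) ⊤) (step_le_self hKn) (fun a _ b hb => hJn.conj_mem b hb a)
      (fun a ha b _ => comm_mem_step ha (Subgroup.mem_top b)) fun a ha => pow_mem_step ha
    have hcen : ∀ y, ∀ k ∈ step p E E, sK.π (y * k * y⁻¹) = sK.π k := fun y k hk => by
      refine ((sK.eq_iff hk (hKn.conj_mem k hk y)).2 ?_).symm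
      rw [show k⁻¹ * (y * k * y⁻¹) = ⁅k⁻¹, y⁆ by group]
      exact comm_mem_step (Subgroup.inv_mem _ hk) (Subgroup.mem_top y)
    have haddl : ∀ a a' b : X, ⁅a, b⁆ ∈ step p E E → ⁅a', b⁆ ∈ step p E E →
        sK.π ⁅a * a', b⁆ = sK.π ⁅a, b⁆ + sK.π ⁅a', b⁆ := fun a a' b h1 h2 => by
      rw [show ⁅a * a', b⁆ = a * ⁅a', b⁆ * a⁻¹ * ⁅a, b⁆ by group,
        sK.map_mul _ (hKn.conj_mem _ h2 a) _ h1, hcen a _ h2, add_comm]
    have haddr : ∀ a b b' : X, ⁅a, b⁆ ∈ step p E E → ⁅a, b'⁆ ∈ step p E E →
        sK.π ⁅a, b * b'⁆ = sK.π ⁅a, b⁆ + sK.π ⁅a, b'⁆ := fun a b b' h1 h2 => by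
      rw [show ⁅a, b * b'⁆ = ⁅a, b⁆ * (b * ⁅a, b'⁆ * b⁻¹) by group,
        sK.map_mul _ h1 _ (hKn.conj_mem _ h2 b), hcen b _ h2]
    obtain ⟨f, hf⟩ := s.exists_bilin s sK (fun a b => ⁅a, b⁆)
      (fun a ha b hb => comm_mem_step ha hb)
      (fun a ha a' ha' b hb => haddl a a' b (comm_mem_step ha hb) (comm_mem_step ha' hb))
      (fun a ha b hb b' hb' => haddr a b b' (comm_mem_step ha hb) (comm_mem_step ha hb'))
      (fun a ha b _ => comm_mem_step ha (Subgroup.mem_top b))
      fun a _ b hb => comm_mem_swap (comm_mem_step hb (Subgroup.mem_top a))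
    have hp2 : p ≠ 2 := by have := C.p5; omega
    obtain ⟨pk, hpk⟩ := s.exists_linear' sK (fun a => a ^ p) (fun a ha => s.pow_mem ha)
      (fun b hb => pow_mem_step hb) fun a ha b hb => by
        have hc : ⁅b, a⁆ ∈ step p E E := comm_mem_step hb ha
        have h1 := mul_pow_p_mem hp2 hJn (comm_mem_step (p := p) hc (Subgroup.mem_top a))
          (comm_mem_step (p := p) hc (Subgroup.mem_top b)) (pow_mem_step hc)
        have hab : a ^ p * b ^ p ∈ step p E E := Subgroup.mul_mem _ (s.pow_mem ha) (s.pow_mem hb)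
        rw [← (sK.eq_iff hab (s.pow_mem (E.mul_mem ha hb))).2 h1,
          sK.map_mul _ (s.pow_mem ha) _ (s.pow_mem hb)]
    have hθK : ∀ k ∈ step p E E, θ k ∈ step p E E := fun k hk =>
      step_mapsTo (fun a => θ a) (fun a _ b _ => map_mul θ a b) le_rfl le_rfl C.mapsE C.mapsE hk
    obtain ⟨Tθ, hTθ⟩ := sK.exists_linear sK (fun a => θ a) hθK
      (fun k hk => step_mapsTo (E := ⊤) (fun a => θ a) (fun a _ b _ => map_mul θ a b) le_top le_rfl
        hθK (fun y _ => Subgroup.mem_top _) hk)
      fun a _ b _ => map_mul θ a b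
    have hTf : ∀ u v, Tθ (f u v) = f (h u) (h v) := by
      intro u v
      obtain ⟨a, ha, rfl⟩ := s.surj u
      obtain ⟨b, hb, rfl⟩ := s.surj v
      rw [hf a ha b hb, hTθ _ (comm_mem_step ha hb), C.hθ a ha, C.hθ b hb,
        hf _ (C.mapsE a ha) _ (C.mapsE b hb), map_commutatorElement]
    have hTp : ∀ u, Tθ (pk u) = pk (h u) := by
      intro u
      obtain ⟨a, ha, rfl⟩ := s.surj u
      rw [hpk a ha, hTθ _ (s.pow_mem ha), C.hθ a ha, hpk _ (C.mapsE a ha), map_pow]
    have hxf : ∀ u v, f (T u) (T v) = f u v := by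
      intro u v
      obtain ⟨a, ha, rfl⟩ := s.surj u
      obtain ⟨b, hb, rfl⟩ := s.surj v
      rw [C.act a ha, C.act b hb, hf _ (C.normal.conj_mem a ha x) _ (C.normal.conj_mem b hb x),
        hf a ha b hb, show ⁅x * a * x⁻¹, x * b * x⁻¹⁆ = x * ⁅a, b⁆ * x⁻¹ by group,
        hcen x _ (comm_mem_step ha hb)]
    have hxp : ∀ u, pk (T u) = pk u := by
      intro u
      obtain ⟨a, ha, rfl⟩ := s.surj u
      rw [C.act a ha, hpk _ (C.normal.conj_mem a ha x), hpk a ha, conj_pow,
        hcen x _ (s.pow_mem ha)]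
    have hfalt : ∀ u, f u u = 0 := by
      intro u
      obtain ⟨a, ha, rfl⟩ := s.surj u
      rw [hf a ha a ha, commutatorElement_self, sK.map_one]
    have hskew : ∀ u v, f v u = -f u v := fun u v => by
      have h1 := hfalt (u + v)
      simp only [map_add, LinearMap.add_apply, hfalt, zero_add, add_zero] at h1
      refine eq_neg_of_add_eq_zero_left ?_
      first
        | exact h1
        | rw [add_comm]; exact h1
    have hPQ : f vP vQ = 0 := by
      have h1 := hxf vw vQ
      rw [C.dw, C.dQ, map_add, LinearMap.add_apply, map_smul, LinearMap.smul_apply,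
        add_eq_left, smul_eq_zero] at h1
      exact h1.resolve_left C.c0
    have hpP : pk vP = 0 := by
      have h1 := hxp vw
      rw [C.dw, map_add, map_smul, add_eq_left, smul_eq_zero] at h1
      exact h1.resolve_left C.c0
    -- two weights only
    set Φ2 := (Tθ - 1) * (Tθ - l⁻¹ • (1 : Module.End (ZMod p) M)) with hΦ2
    have hΦapp : ∀ z, Φ2 z = Tθ (Tθ z) - l⁻¹ • Tθ z - Tθ z + l⁻¹ • z := fun z => by
      simp only [hΦ2, Module.End.mul_apply, LinearMap.sub_apply, LinearMap.smul_apply,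
        Module.End.one_apply, map_sub, map_smul]
      module
    have hweight : ∀ (m : ZMod p) z, Tθ z = m • z → Φ2 z = ((m - 1) * (m - l⁻¹)) • z := by
      intro m z hz
      rw [hΦapp, hz, map_smul, hz]
      module
    have h11 : Tθ (f vw vP) = (1 : ZMod p) • f vw vP := by
      rw [hTf, C.hw, C.hP]
      simp only [map_smul, LinearMap.smul_apply, smul_smul]
      congr 1
      field_simp
    have h12 : Tθ (f vw vQ) = l⁻¹ • f vw vQ := by
      rw [hTf, C.hw, C.hQ, map_smul, LinearMap.smul_apply]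
    have h13 : Tθ (pk vw) = l⁻¹ • pk vw := by rw [hTp, C.hw, map_smul]
    have h14 : Tθ (pk vQ) = (1 : ZMod p) • pk vQ := by rw [hTp, C.hQ, one_smul]
    have hall : ∀ z, Φ2 z = 0 := by
      have hf0 : ∀ u v, Φ2 (f u v) = 0 := by
        intro u v
        obtain ⟨a₁, b₁, d₁, rfl⟩ := C.span u
        obtain ⟨a₂, b₂, d₂, rfl⟩ := C.span v
        simp only [map_add, map_smul, LinearMap.add_apply, LinearMap.smul_apply, hfalt,
          hskew vw vP, hskew vw vQ, hskew vP vQ, hPQ, hweight _ _ h11, hweight _ _ h12, map_neg,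
          map_zero, sub_self, zero_mul, mul_zero, zero_smul, smul_zero, neg_zero, add_zero]
      have hp0' : ∀ u, Φ2 (pk u) = 0 := by
        intro u
        obtain ⟨a₁, b₁, d₁, rfl⟩ := C.span u
        simp only [map_add, map_smul, hpP, hweight _ _ h13, hweight _ _ h14, map_zero, sub_self,
          zero_mul, mul_zero, zero_smul, smul_zero, add_zero]
      have hle : step p E E ≤ sK.pre (LinearMap.ker Φ2) := by
        refine step_le (fun a ha b hb => ⟨comm_mem_step ha hb, ?_⟩) fun a ha => ⟨s.pow_mem ha, ?_⟩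
        · rw [LinearMap.mem_ker, ← hf a ha b hb]
          exact hf0 _ _
        · rw [LinearMap.mem_ker, ← hpk a ha]
          exact hp0' _
      intro z
      obtain ⟨k, hk, rfl⟩ := sK.surj z
      exact (hle hk).2
    have hzero : ∀ (m : ZMod p) z, m ≠ 1 → m ≠ l⁻¹ → Tθ z = m • z → z = 0 := by
      intro m z h1 h2 hz
      have h3 := hweight m z hz
      rw [hall, eq_comm, smul_eq_zero] at h3
      exact h3.resolve_left (mul_ne_zero (sub_ne_zero.2 h1) (sub_ne_zero.2 h2))
    -- commutators with the generator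
    have hpowl : ∀ (n : ℕ) a, ⁅x, a⁆ ∈ step p E E →
        ⁅x ^ n, a⁆ ∈ step p E E ∧ sK.π ⁅x ^ n, a⁆ = (n : ZMod p) • sK.π ⁅x, a⁆ := by
      intro n a ha
      induction n with
      | zero => exact ⟨by simp, by simp [sK.map_one]⟩
      | succ n ih =>
        refine ⟨?_, ?_⟩
        · rw [pow_succ, show ⁅x ^ n * x, a⁆ = x ^ n * ⁅x, a⁆ * (x ^ n)⁻¹ * ⁅x ^ n, a⁆ by group]
          exact Subgroup.mul_mem _ (hKn.conj_mem _ ha _) ih.1
        · rw [pow_succ, haddl _ _ _ ih.1 ha, ih.2, Nat.cast_succ, add_smul, one_smul]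
    have hrP : ∀ u, T u = u → f u vP = 0 ∧ f u vQ = 0 := by
      intro u hu
      obtain ⟨b₁, d₁, rfl⟩ := eq_of_fixed C hu
      simp only [map_add, map_smul, LinearMap.add_apply, LinearMap.smul_apply, hfalt,
        hskew vP vQ, hPQ, smul_zero, neg_zero, add_zero, and_self]
    have htx : ∀ a ∈ E, ∀ (z : V) (m : ZMod p), T (s.π a) = s.π a → s.π a = z →
        h z = m • z → f (s.π r) z = 0 →
        Tθ (sK.π ⁅x, a⁆) = ((l * l) * m) • sK.π ⁅x, a⁆ := by
      intro a ha z m haT haz hm hrz
      have hK1 := fixed_central C ha haT x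
      have hθa : s.π (θ a) = s.π (a ^ m.val) := by
        rw [← C.hθ a ha, s.map_pow_cast ha, ZMod.natCast_zmod_val, haz, hm]
      have h2 := (s.eq_iff (E.pow_mem ha _) (C.mapsE a ha)).1 hθa.symm
      set am := a ^ m.val with ham
      have hamT : T (s.π am) = s.π am := by
        rw [ham, s.map_pow_cast ha, map_smul, haT]
      have hamE : am ∈ E := E.pow_mem ha _
      have e1 : θ a = am * (am⁻¹ * θ a) := (mul_inv_cancel_left _ _).symm
      have hk2 : ∀ y : X, sK.π ⁅y, am⁻¹ * θ a⁆ = 0 := fun y =>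
        (sK.map_eq_zero _ (step_le_self hKn (comm_mem_swap
          (comm_mem_step (p := p) h2 (Subgroup.mem_top y))))).2
          (comm_mem_swap (comm_mem_step (p := p) h2 (Subgroup.mem_top y)))
      have hpow : ∀ n : ℕ, sK.π ⁅x, a ^ n⁆ = (n : ZMod p) • sK.π ⁅x, a⁆ := by
        intro n
        induction n with
        | zero => simp [sK.map_one]
        | succ n ih =>
          rw [pow_succ, haddr _ _ _ (fixed_central C (E.pow_mem ha n)
            (by rw [s.map_pow_cast ha, map_smul, haT]) x) hK1, ih, Nat.cast_succ, add_smul,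
            one_smul]
      have hxm := hpowl (l * l).val am (fixed_central C hamE hamT x)
      have hrm : sK.π ⁅r, am⁆ = 0 := by
        rw [← hf r hr am hamE, ham, s.map_pow_cast ha, map_smul, haz, hrz, smul_zero]
      rw [hTθ _ hK1, map_commutatorElement, hrx, e1,
        haddr _ _ _ (fixed_central C hamE hamT _)
          (step_le_self hKn (comm_mem_swap (comm_mem_step (p := p) h2 (Subgroup.mem_top _)))),
        hk2, add_zero, haddl _ _ _ (comm_mem_step hr hamE) hxm.1, hrm, zero_add, hxm.2,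
        ZMod.natCast_zmod_val, ham, hpow, ZMod.natCast_zmod_val, smul_smul]
    have hll : l * l ≠ l⁻¹ := fun h0 => C.l3 (by rw [h0, inv_mul_cancel₀ hl])
    have hxq : sK.π ⁅x, q⁆ = 0 := hzero (l * l) _ C.l2 hll (by
      rw [htx q hq vQ 1 hTQ hqπ (by rw [C.hQ, one_smul]) (hrP _ hrT).2, mul_one])
    set k := sK.π ⁅x, p0⁆ with hk
    have hTk : Tθ k = (l * l * l) • k := by
      rw [hk, htx p0 hp0 vP l hTP hp0π C.hP (hrP _ hrT).1]
    set qp := pk vQ with hqp
    -- the two distinguished elements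
    have hPQ' : sK.π ⁅p0, q⁆ = 0 := by rw [← hf p0 hp0 q hq, hp0π, hqπ, hPQ]
    have hxe' : e' = x * (q ^ i)⁻¹ := by rw [hxi, mul_inv_cancel_right]
    have hkmem : ⁅e', p0⁆ ∈ K0 ∧ sK.π ⁅e', p0⁆ = k := by
      refine ⟨⟨fixed_central C hp0 hTP e', comm_mem_step he' hp0E'⟩, ?_⟩
      rw [hxe', haddl _ _ _ (fixed_central C hp0 hTP x) (fixed_central C hp0 hTP _), hk,
        add_eq_left, ← hf _ (E.inv_mem (E.pow_mem hq i)) p0 hp0, s.map_inv (E.pow_mem hq i),
        s.map_pow_cast hq, hqπ, hp0π, map_neg, LinearMap.neg_apply, map_smul, LinearMap.smul_apply,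
        hskew vP vQ, hPQ, neg_zero, smul_zero, neg_zero]
    set u := sK.π ⁅w', q⁆ with hu
    have huv : u = a • f vw vQ := by
      rw [hu, ← hf w' hw'E q hq, habd, hqπ]
      simp only [map_add, map_smul, LinearMap.add_apply, LinearMap.smul_apply, hfalt, hPQ,
        smul_zero, add_zero]
    have hTu : Tθ u = l⁻¹ • u := by rw [huv, map_smul, h12, smul_comm]
    -- the commutator with the moving element is outside the moved Frattini subgroup
    have huK : ⁅w', q⁆ ∉ step p E' E' := by
      intro hmem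
      haveI := hKn'
      set π' := QuotientGroup.mk' (step p E' E')
      have hq1 : ∀ y, ⁅y, q⁆ ∈ step p E' E' →
          y ∈ (Subgroup.centralizer {π' q}).comap π' := fun y hy => by
        rw [Subgroup.mem_comap, Subgroup.mem_centralizer_singleton_iff,
          ← commutatorElement_eq_one_iff_mul_comm, ← map_commutatorElement]
        exact (QuotientGroup.eq_one_iff _).2 hy
      set Z := (Subgroup.centralizer {π' q}).comap π' with hZ
      have hJK' : step p (step p E E) ⊤ ≤ step p E' E' := hJK0.trans inf_le_right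
      have hzero' : ∀ y, ⁅y, q⁆ ∈ step p E E → sK.π ⁅y, q⁆ = 0 → y ∈ Z := fun y hy hy0 =>
        hq1 y (hJK' ((sK.map_eq_zero _ hy).1 hy0))
      have hKZ : step p E E ≤ Z := fun y hy =>
        hq1 y (hJK' (comm_mem_step hy (Subgroup.mem_top q)))
      have hqZ : q ∈ Z := hq1 q (by rw [commutatorElement_self]; exact Subgroup.one_mem _)
      have hpZ : p0 ∈ Z := hzero' p0 (comm_mem_step hp0 hq) hPQ'
      have hxZ : x ∈ Z := hzero' x (fixed_central C hq hTQ x) hxq
      have hEZ := hgenE Z hKZ (hq1 w' hmem) hpZ hqZ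
      have hy : g⁻¹ q ∉ E := fun h0 => hqE' ⟨g⁻¹ q, h0, MulAut.apply_inv_self _ g q⟩
      refine exists_moved C hw0 hw hy ?_
      have htop1 : ∀ y, y ∈ Z := fun y =>
        ((htop C C.notMem).ge.trans (sup_le hEZ (Subgroup.zpowers_le.2 hxZ))) (Subgroup.mem_top y)
      have h1 : ⁅q, g w0⁆ ∈ step p E' E' := by
        refine comm_mem_swap ((QuotientGroup.eq_one_iff _).1 ?_)
        show π' ⁅g w0, q⁆ = 1
        rw [map_commutatorElement, commutatorElement_eq_one_iff_mul_comm]
        exact Subgroup.mem_centralizer_singleton_iff.1 (htop1 (g w0))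
      rw [← hmapK] at h1
      obtain ⟨y, hy, hy'⟩ := h1
      have h2 : y = ⁅g⁻¹ q, w0⁆ := g.injective (by
        rw [map_commutatorElement, MulAut.apply_inv_self]
        exact hy')
      exact h2 ▸ hy
    have hnot : ∀ α β : ZMod p, u = α • k + β • qp → False := by
      intro α β hαβ
      have h1 := congrArg (fun z => Tθ z - z) hαβ
      simp only [hTu, map_add, map_smul, hTk, h14, one_smul] at h1
      have h2 : u = (α * (l * l * l - 1) / (l⁻¹ - 1)) • k := by
        have h3 : (l⁻¹ - 1) • u = (α * (l * l * l - 1)) • k := by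
          rw [sub_smul, one_smul, h1]
          module
        rw [div_eq_inv_mul, mul_smul, ← h3, smul_smul, inv_mul_cancel₀ (sub_ne_zero.2 hlinv),
          one_smul]
      set j := (α * (l * l * l - 1) / (l⁻¹ - 1)).val
      have h4 : sK.π (⁅e', p0⁆ ^ j) = sK.π ⁅w', q⁆ := by
        rw [sK.map_pow_cast hkmem.1.1, ZMod.natCast_zmod_val, hkmem.2, ← h2, hu]
      have h5 := hJK0 ((sK.eq_iff (Subgroup.pow_mem _ hkmem.1.1 _)
        (comm_mem_step hw'E hq)).1 h4)
      have h6 := K0.mul_mem (K0.pow_mem hkmem.1 j) h5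
      rw [mul_inv_cancel_left] at h6
      exact huK h6.2
    -- the elementary section of order `p ^ 4`
    set Ru := Submodule.span (ZMod p) {k, qp}
    have hRn : (sK.pre Ru).Normal := ⟨fun y hy z => ⟨hKn.conj_mem y hy.1 z, by
      rw [hcen z y hy.1]; exact hy.2⟩⟩
    have hin : ∀ y, y ∈ step p E E → sK.π y = 0 → y ∈ sK.pre Ru := fun y hy hy0 =>
      ⟨hy, by rw [hy0]; exact Ru.zero_mem⟩
    have hxpR : sK.π (x ^ p) ∈ Ru := by
      have hcm : ⁅x ^ (l * l).val, r⁆ ∈ step p E E := fixed_central C hr hrT _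
      have h1 := mul_pow_p_mem hp2 hJn (comm_mem_step (p := p) hcm (Subgroup.mem_top r))
        (comm_mem_step (p := p) hcm (Subgroup.mem_top (x ^ (l * l).val))) (pow_mem_step hcm)
      rw [← hrx] at h1
      have hmem : r ^ p * (x ^ (l * l).val) ^ p ∈ step p E E := Subgroup.mul_mem _ (s.pow_mem hr)
        (by rw [← pow_mul, mul_comm, pow_mul]; exact Subgroup.pow_mem _ hxK _)
      have h2 := (sK.eq_iff hmem (by rw [← map_pow]; exact hθK _ hxK)).2 h1
      rw [← map_pow θ, ← hTθ _ hxK, sK.map_mul _ (s.pow_mem hr) _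
          (by rw [← pow_mul, mul_comm, pow_mul]; exact Subgroup.pow_mem _ hxK _),
        ← hpk r hr, ← pow_mul, mul_comm, pow_mul, sK.map_pow_cast hxK,
        ZMod.natCast_zmod_val] at h2
      obtain ⟨b₁, d₁, hbd⟩ := eq_of_fixed C hrT
      rw [hbd, map_add, map_smul, map_smul, hpP, smul_zero, zero_add, ← hqp] at h2
      have h3 := hall (sK.π (x ^ p))
      rw [hΦapp, ← h2, map_add, map_smul, map_smul, ← h2, hqp, h14, one_smul, ← hqp] at h3
      have hne : (l * l - 1) * (l * l - l⁻¹) ≠ 0 :=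
        mul_ne_zero (sub_ne_zero.2 C.l2) (sub_ne_zero.2 hll)
      have h4 : ((l * l - 1) * (l * l - l⁻¹)) • sK.π (x ^ p) +
          (d₁ * (l * l - l⁻¹)) • qp = 0 := by
        rw [← h3]
        module
      refine (Ru.smul_mem_iff hne).1 ?_
      rw [eq_neg_of_add_eq_zero_left h4]
      exact Ru.neg_mem (Ru.smul_mem _ (Submodule.subset_span (by simp)))
    have hcxp : ⁅x, p0⁆ ∈ sK.pre Ru :=
      ⟨fixed_central C hp0 hTP x, Submodule.subset_span (by simp [hk])⟩
    have hcxq : ⁅x, q⁆ ∈ sK.pre Ru := hin _ (fixed_central C hq hTQ x) hxq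
    have hcpq : ⁅p0, q⁆ ∈ sK.pre Ru := hin _ (comm_mem_step hp0 hq) hPQ'
    set ue := ⁅w', q⁆ with hue
    have hueK : ue ∈ step p E E := comm_mem_step hw'E hq
    have hcK : ∀ y, ⁅y, ue⁆ ∈ sK.pre Ru := fun y => by
      have h1 := comm_mem_swap (comm_mem_step (p := p) hueK (Subgroup.mem_top y))
      exact hin _ (step_le_self hKn h1) ((sK.map_eq_zero _ (step_le_self hKn h1)).2 h1)
    refine no_four C.rank hRn ![x, p0, q, ue] ?_ ?_ ?_
    · intro i₁ j₁
      fin_cases i₁ <;> fin_cases j₁
      · simp [Subgroup.one_mem]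
      · exact hcxp
      · exact hcxq
      · exact hcK x
      · exact comm_mem_swap hcxp
      · simp [Subgroup.one_mem]
      · exact hcpq
      · exact hcK p0
      · exact comm_mem_swap hcxq
      · exact comm_mem_swap hcpq
      · simp [Subgroup.one_mem]
      · exact hcK q
      · exact comm_mem_swap (hcK x)
      · exact comm_mem_swap (hcK p0)
      · exact comm_mem_swap (hcK q)
      · simp [Subgroup.one_mem]
    · intro i₁
      fin_cases i₁
      · exact ⟨hxK, hxpR⟩
      · refine hin _ (s.pow_mem hp0) ?_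
        show sK.π (p0 ^ p) = 0
        rw [← hpk p0 hp0, hp0π, hpP]
      · refine ⟨s.pow_mem hq, ?_⟩
        show sK.π (q ^ p) ∈ Ru
        rw [← hpk q hq, hqπ]
        exact Submodule.subset_span (by simp [hqp])
      · exact hin _ (Subgroup.pow_mem _ hueK p) ((sK.map_eq_zero _ (Subgroup.pow_mem _ hueK p)).2
          (pow_mem_step hueK))
    · intro n hn
      simp only [Matrix.cons_val] at hn
      have hn0 : p ∣ n 0 := by
        by_contra h0
        have hE0 : x ^ n 0 ∈ E := by
          have h1 := hKE hn.1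
          rwa [E.mul_mem_cancel_right (E.pow_mem (hKE hueK) _),
            E.mul_mem_cancel_right (E.pow_mem hq _),
            E.mul_mem_cancel_right (E.pow_mem hp0 _)] at h1
        refine C.notMem ?_
        have hcop : (n 0).Coprime p := Nat.coprime_comm.1 (hp.1.coprime_iff_not_dvd.2 h0)
        obtain ⟨m, -, hm⟩ := Nat.exists_mul_mod_eq_one_of_coprime hcop hp.1.one_lt
        have h2 : x ^ (n 0 * m) ∈ E := by rw [pow_mul]; exact E.pow_mem hE0 m
        rw [← Nat.div_add_mod (n 0 * m) p, hm, pow_add, pow_mul, pow_one] at h2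
        exact (E.mul_mem_cancel_left (E.pow_mem (C.index ▸ E.pow_index_mem x) _)).1 h2
      obtain ⟨n0, hn0'⟩ := hn0
      have hx0 : x ^ n 0 ∈ step p E E := by rw [hn0', pow_mul]; exact Subgroup.pow_mem _ hxK _
      have hmid : p0 ^ n 1 * q ^ n 2 ∈ E := E.mul_mem (E.pow_mem hp0 _) (E.pow_mem hq _)
      have hmidK : p0 ^ n 1 * q ^ n 2 ∈ step p E E := by
        have h1 := hn.1
        rw [(step p E E).mul_mem_cancel_right (Subgroup.pow_mem _ hueK _), mul_assoc,
          (step p E E).mul_mem_cancel_left hx0] at h1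
        exact h1
      have h12' := (s.map_eq_zero _ hmid).2 hmidK
      rw [s.map_mul _ (E.pow_mem hp0 _) _ (E.pow_mem hq _), s.map_pow_cast hp0, s.map_pow_cast hq,
        hp0π, hqπ] at h12'
      obtain ⟨-, hn1, hn2⟩ := C.indep 0 (n 1 : ZMod p) (n 2 : ZMod p)
        (by rw [zero_smul, zero_add, h12'])
      obtain ⟨n1, hn1'⟩ := (ZMod.natCast_eq_zero_iff _ p).1 hn1
      obtain ⟨n2, hn2'⟩ := (ZMod.natCast_eq_zero_iff _ p).1 hn2
      have hp1K : p0 ^ n 1 ∈ step p E E := by
        rw [hn1', pow_mul]; exact Subgroup.pow_mem _ (s.pow_mem hp0) _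
      have hq2K : q ^ n 2 ∈ step p E E := by
        rw [hn2', pow_mul]; exact Subgroup.pow_mem _ (s.pow_mem hq) _
      have h3 := hn.2
      rw [sK.map_mul _ (Subgroup.mul_mem _ (Subgroup.mul_mem _ hx0 hp1K) hq2K) _
          (Subgroup.pow_mem _ hueK _), sK.map_mul _ (Subgroup.mul_mem _ hx0 hp1K) _ hq2K,
        sK.map_mul _ hx0 _ hp1K, hn0', hn1', hn2', pow_mul, pow_mul, pow_mul,
        sK.map_pow_cast hxK, sK.map_pow_cast (s.pow_mem hp0), sK.map_pow_cast (s.pow_mem hq),
        sK.map_pow_cast hueK, ← hpk p0 hp0, hp0π, hpP, smul_zero, add_zero, ← hpk q hq, hqπ,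
        ← hqp, ← hu] at h3
      have hn3 : p ∣ n 3 := by
        rw [← ZMod.natCast_eq_zero_iff]
        by_contra h0
        have h5 : u ∈ Ru := by
          refine (Ru.smul_mem_iff h0).1 ?_
          have h6 := Ru.sub_mem (Ru.sub_mem h3 (Ru.smul_mem (n0 : ZMod p) hxpR))
            (Ru.smul_mem (n2 : ZMod p) (Submodule.subset_span (by simp) : qp ∈ Ru))
          convert h6 using 1
          abel
        obtain ⟨α, β, hαβ⟩ := Submodule.mem_span_pair.1 h5
        exact hnot α β hαβ.symm
      intro i₁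
      fin_cases i₁
      · exact ⟨n0, hn0'⟩
      · exact ⟨n1, hn1'⟩
      · exact ⟨n2, hn2'⟩
      · exact hn3

end Transv

end CfsgLib.Fusion.RankThree
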