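import Cfsg.Agent.Lib.Fusion.RankThree.Base
import Cfsg.Agent.Lib.Fusion.RankThree.Torus
import Cfsg.Agent.Lib.Fusion.RankThree.TransvNe

/-!
# A transvection on the Frattini quotient: a torus element on the normaliser
-/

set_option autoImplicit false
set_option linter.unusedSectionVars false
set_option linter.style.haveILetI false

namespace CfsgLib.Fusion.RankThree

open Cfsg Cfsg.FusionSystem CfsgLib.Fusion

universe u

variable {p : ℕ} [hp : Fact p.Prime]

/-- A residue whose small powers differ from one. -/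
theorem exists_torus_value (hp5 : 5 ≤ p) :
    ∃ l : ZMod p, l ≠ 0 ∧ l * l ≠ 1 ∧ l * l * l ≠ 1 ∧ l * l * l * l * l ≠ 1 := by
  obtain ⟨u, hu⟩ := IsCyclic.exists_ofOrder_eq_natCard (α := (ZMod p)ˣ)
  rw [Nat.card_eq_fintype_card, ZMod.card_units] at hu
  have key : ∀ k : ℕ, 1 ≤ k → k ≤ 5 → k ≠ 4 → (u : ZMod p) ^ k ≠ 1 := by
    intro k hk1 hk5 hk4 h
    have h1 : u ^ k = 1 := Units.ext (by rw [Units.val_pow_eq_pow_val, h, Units.val_one])
    have h2 := orderOf_dvd_of_pow_eq_one h1
    rw [hu] at h2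
    have h3 := Nat.le_of_dvd hk1 h2
    have h4 : k = 5 := by omega
    subst h4
    rcases (Nat.dvd_prime (by norm_num : Nat.Prime 5)).1 h2 with h5 | h5
    · omega
    · have h6 : p = 6 := by omega
      exact absurd (h6 ▸ hp.1) (by norm_num)
  refine ⟨u, u.ne_zero, ?_, ?_, ?_⟩
  · exact fun h => key 2 (by norm_num) (by norm_num) (by norm_num) (by rw [← h]; ring)
  · exact fun h => key 3 (by norm_num) (by norm_num) (by norm_num) (by rw [← h]; ring)
  · exact fun h => key 5 (by norm_num) le_rfl (by norm_num) (by rw [← h]; ring)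

variable {Ω : Type u} [Group Ω] {S : Subgroup Ω} [Finite S] {F : FusionSystem S} {E : Subgroup Ω}
  {V : Type u} [AddCommGroup V] [Module (ZMod p) V]
  {s : SecMap p (E0 S E) (step p (E0 S E) (E0 S E)) V}
  {ρ : F.autGroup E →* Module.End (ZMod p) V} {R : Sylow p (F.autGroup E)}
  {H : Subgroup (F.autGroup E)} {x : normalizerIn S E} {γx : F.autGroup E}
  {hle : E ≤ normalizerIn S E}

/-- The torus element of a transvection, on the normaliser. -/
theorem Base.exists_torus_ctx (B : Base hle s ρ R H x γx)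
    (h2 : ∀ r, (ρ γx - 1) ((ρ γx - 1) r) = 0) :
    ∃ (θ : MulAut (normalizerIn S E)) (h : Module.End (ZMod p) V) (c l : ZMod p) (vw vP vQ : V),
      θ ∈ F.autGroup (normalizerIn S E) ∧ Transv.Ctx (E0 S E) s x (ρ γx) θ h c l vw vP vQ ∧
        l * l * l * l * l ≠ 1 := by
  haveI := B.finiteX
  haveI := finite_mulAut (P := E) B.ess.1.1
  haveI : Finite E := finite_of_le B.ess.1.1
  haveI := s.finite
  set T := ρ γx with hT
  set δ := T - 1 with hδ
  have hTd : ∀ z, T z = z + δ z := fun z => by simp [hδ]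
  obtain ⟨v0, hv0⟩ : ∃ v0, δ v0 ≠ 0 := by
    by_contra! h
    exact B.ne_one (sub_eq_zero.1 (LinearMap.ext h))
  set vP := δ v0 with hvP
  have hK : vP ∈ LinearMap.ker δ := h2 v0
  have hdim := B.setup.dim
  have hrle : LinearMap.range δ ≤ LinearMap.ker δ := by
    rintro _ ⟨r, rfl⟩
    exact h2 r
  have hrk := LinearMap.finrank_range_add_finrank_ker δ
  have hr1 : Module.finrank (ZMod p) (LinearMap.range δ) = 1 := by
    have h1 := Submodule.finrank_mono hrle
    have h3 : Module.finrank (ZMod p) (LinearMap.range δ) ≠ 0 := by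
      intro h0
      rw [Submodule.finrank_eq_zero] at h0
      exact hv0 ((Submodule.eq_bot_iff _).1 h0 _ ⟨v0, rfl⟩)
    omega
  have hrange : ∀ r, ∃ c : ZMod p, δ r = c • vP := fun r => by
    obtain ⟨c, hc⟩ := exists_smul_eq_of_finrank_eq_one hr1
      (show (⟨vP, v0, rfl⟩ : LinearMap.range δ) ≠ 0 from fun h0 => hv0 (congrArg Subtype.val h0))
      ⟨δ r, r, rfl⟩
    exact ⟨c, (congrArg Subtype.val hc).symm⟩
  obtain ⟨a, ha, hai⟩ := B.setup.exists_move B.mem_R hv0 hrange (h2 v0) B.ne_one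
  obtain ⟨l, hl0, hl2, hl3, hl5⟩ := exists_torus_value B.p5
  obtain ⟨θ, -, hθP, hθw, hθQ⟩ := exists_torus ρ γx a hv0 (h2 v0) hrange ha hai hl0 ⊤
    (Subgroup.mem_top _) (Subgroup.mem_top _)
  set vw := ρ a vP with hvw
  obtain ⟨c, hc⟩ := hrange vw
  have hc0 : c ≠ 0 := fun h0 => ha (by rw [hc, h0, zero_smul])
  -- the common fixed vector
  obtain ⟨vQ, hQ1, hQ2, hQ0⟩ : ∃ vQ, δ vQ = 0 ∧ δ (ρ a⁻¹ vQ) = 0 ∧ vQ ≠ 0 := by
    have hk2 : Module.finrank (ZMod p) (LinearMap.ker δ) = 2 := by omega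
    have hk2' : Module.finrank (ZMod p) ((LinearMap.ker δ).map (ρ a)) = 2 := by
      rw [← hk2]
      exact (Submodule.equivMapOfInjective _ (rho_injective ρ a) _).finrank_eq.symm
    have h1 := Submodule.finrank_sup_add_finrank_inf_eq (LinearMap.ker δ)
      ((LinearMap.ker δ).map (ρ a))
    have h3 := Submodule.finrank_le (LinearMap.ker δ ⊔ (LinearMap.ker δ).map (ρ a))
    obtain ⟨q, hq, hq0⟩ := Submodule.exists_mem_ne_zero_of_ne_bot
      (p := LinearMap.ker δ ⊓ (LinearMap.ker δ).map (ρ a)) (fun h0 => by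
        rw [h0, finrank_bot, hk2, hk2'] at h1
        omega)
    obtain ⟨hq1, z, hz, hzq⟩ := hq
    exact ⟨q, hq1, by rw [← hzq, rho_inv_apply]; exact hz, hq0⟩
  have hdP : δ vP = 0 := h2 v0
  have hindep : ∀ a' b d : ZMod p, a' • vw + b • vP + d • vQ = 0 → a' = 0 ∧ b = 0 ∧ d = 0 := by
    intro a' b d h0
    have h1 := congrArg δ h0
    simp only [map_add, map_smul, hQ1, hdP, hc, smul_zero, add_zero, map_zero,
      smul_smul] at h1
    have ha' : a' = 0 := (mul_eq_zero.1 ((smul_eq_zero.1 h1).resolve_right hv0)).resolve_right hc0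
    rw [ha', zero_smul, zero_add] at h0
    have h3 := congrArg (fun z => δ (ρ a⁻¹ z)) h0
    simp only [map_add, map_smul, hQ2, smul_zero, add_zero, map_zero] at h3
    have hb : b = 0 := (smul_eq_zero.1 h3).resolve_right hai
    rw [hb, zero_smul, zero_add] at h0
    exact ⟨ha', hb, (smul_eq_zero.1 h0).resolve_right hQ0⟩
  have hspan : ∀ u, ∃ a' b d : ZMod p, u = a' • vw + b • vP + d • vQ := by
    intro u
    have hli : LinearIndependent (ZMod p) ![vw, vP, vQ] := by
      rw [Fintype.linearIndependent_iff]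
      intro f hf
      rw [Fin.sum_univ_three] at hf
      obtain ⟨h0, h1, h3⟩ := hindep _ _ _ hf
      intro i; fin_cases i <;> assumption
    have hsp := hli.span_eq_top_of_card_eq_finrank (by rw [Fintype.card_fin, hdim])
    obtain ⟨f, hf⟩ := (Submodule.mem_span_range_iff_exists_fun _).1
      (hsp ▸ trivial : u ∈ Submodule.span (ZMod p) (Set.range ![vw, vP, vQ]))
    exact ⟨f 0, f 1, f 2, by rw [← hf, Fin.sum_univ_three]; rfl⟩
  have hQθ : ρ θ vQ = vQ := hθQ vQ hQ1 hQ2
  -- the torus element normalises the transvection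
  have hTm : T ^ (l * l).val * ρ θ = ρ θ * T := by
    refine LinearMap.ext fun u => ?_
    obtain ⟨a', b, d, rfl⟩ := hspan u
    have hp' : ∀ z, (T ^ (l * l).val) z = z + (l * l) • δ z := fun z => by
      rw [pow_apply_of_sq T h2, ZMod.natCast_zmod_val]
    simp only [Module.End.mul_apply, map_add, map_smul, hθP, hθw, hQθ, hp', hTd, hc, hQ1, hdP,
      smul_zero, add_zero]
    match_scalars <;> field_simp <;> ring
  have hnorm : ρ (θ * γx * θ⁻¹) = ρ γx ^ (l * l).val := by
    rw [map_mul, map_mul, ← hT, ← hTm, mul_assoc, ← map_mul, mul_inv_cancel, map_one, mul_one]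
  obtain ⟨β, hβ, hβe⟩ := B.exists_extend hnorm
  refine ⟨β, ρ θ, c, l, vw, vP, vQ, hβ, ?_, hl5⟩
  exact
    { p5 := B.p5
      pgroup := B.pX
      rank := B.rankX
      normal := B.normal
      index := B.index
      notMem := B.notMem
      act := B.act
      c0 := hc0
      dw := by rw [hTd, hc]
      dP := by rw [hTd, hvP, h2, add_zero]
      dQ := by rw [hTd, hQ1, add_zero]
      span := hspan
      indep := hindep
      mapsE := fun u hu => by rw [hβe u hu]; exact lift_mem hle _ hu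
      hθ := fun u hu => by rw [B.hρ θ u hu, hβe u hu]
      hw := hθw
      hP := hθP
      hQ := hQθ
      l0 := hl0
      l2 := hl2
      l3 := hl3 }

end CfsgLib.Fusion.RankThree
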