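import Cfsg.Agent.Lib.Fusion.RankThree.TransvOther
import Cfsg.Agent.Lib.Fusion.RankThree.TransvSetup
import Cfsg.Agent.Lib.Fusion.RankThree.TorusCentre

/-!
# A normal essential subgroup with a transvection on its Frattini quotient
-/

set_option autoImplicit false
set_option linter.unusedSectionVars false
set_option linter.style.haveILetI false

namespace CfsgLib.Fusion.RankThree

open Cfsg Cfsg.FusionSystem CfsgLib.Fusion
open scoped commutatorElement

universe u

variable {p : ℕ} [hp : Fact p.Prime]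

/-- The order of the preimage of a subspace. -/
theorem SecMap.card_pre {X : Type u} [Group X] [Finite X] {A B : Subgroup X} {V : Type u}
    [AddCommGroup V] [Module (ZMod p) V] (s : SecMap p A B V) (U : Submodule (ZMod p) V) :
    Nat.card (s.pre U) = Nat.card U * Nat.card B := by
  classical
  let φ : s.pre U →* Multiplicative U := MonoidHom.mk'
    (fun a => Multiplicative.ofAdd (⟨s.π (a : X), a.2.2⟩ : U))
    fun a c => congrArg Multiplicative.ofAdd (Subtype.ext (s.map_mul _ a.2.1 _ c.2.1))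
  have hBU : B ≤ s.pre U := fun a ha =>
    ⟨s.le ha, by rw [(s.map_eq_zero a (s.le ha)).2 ha]; exact U.zero_mem⟩
  have hker : φ.ker = B.subgroupOf (s.pre U) := by
    ext a
    rw [MonoidHom.mem_ker, Subgroup.mem_subgroupOf, ← s.map_eq_zero _ a.2.1]
    exact ⟨fun h => congrArg (fun z : Multiplicative U => ((z.toAdd : U) : V)) h,
      fun h => Multiplicative.toAdd.injective (Subtype.ext h)⟩
  have hsur : Function.Surjective φ := fun v => by
    obtain ⟨a, ha, h⟩ := s.surj (v.toAdd : V)
    exact ⟨⟨a, ha, by rw [h]; exact v.toAdd.2⟩, Multiplicative.toAdd.injective (Subtype.ext h)⟩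
  have := φ.ker.card_mul_index
  rw [Subgroup.index_ker, MonoidHom.range_eq_top.2 hsur, Subgroup.card_top, hker,
    Nat.card_congr (Subgroup.subgroupOfEquivOfLe hBU).toEquiv,
    Nat.card_congr Multiplicative.toAdd] at this
  rw [← this, mul_comm]

/-- An element outside the strongly embedded subgroup moves the centre off the axis. -/
theorem Setup.move_of_not_mem {V : Type u} [AddCommGroup V] [Module (ZMod p) V] {Γ : Type*}
    [Group Γ] {ρ : Γ →* Module.End (ZMod p) V} {R : Sylow p Γ} {H : Subgroup Γ}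
    (A : Setup ρ R H) [Finite Γ] [Finite V] {x : Γ} (hx : x ∈ (R : Subgroup Γ)) {P0 : V}
    (hP0 : P0 ≠ 0) (hrange : ∀ r, ∃ c : ZMod p, (ρ x - 1) r = c • P0)
    (hfix : (ρ x - 1) P0 = 0) (hne : ρ x ≠ 1) {γ : Γ} (hγ : γ ∉ H) :
    (ρ x - 1) (ρ γ P0) ≠ 0 := by
  obtain ⟨P, H', -, hRP, -, hH, -, hstrong⟩ := A.image
  intro h0
  set δ := ρ x - 1 with hδ
  have hL : LinearMap.range δ = Submodule.span (ZMod p) {P0} := by
    refine le_antisymm ?_ ?_
    · rintro _ ⟨r, rfl⟩
      obtain ⟨c, hc⟩ := hrange r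
      rw [hc]
      exact Submodule.smul_mem _ c (Submodule.mem_span_singleton_self P0)
    · rw [Submodule.span_singleton_le_iff_mem]
      obtain ⟨r, hr⟩ : ∃ r, δ r ≠ 0 := by
        by_contra! h
        exact hne (sub_eq_zero.1 (LinearMap.ext h))
      obtain ⟨c, hc⟩ := hrange r
      have hc0 : c ≠ 0 := fun h => hr (by rw [hc, h, zero_smul])
      exact ⟨c⁻¹ • r, by rw [map_smul, hc, smul_smul, inv_mul_cancel₀ hc0, one_smul]⟩
  have hLdim : Module.finrank (ZMod p) (LinearMap.range δ) = 1 := by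
    rw [hL, finrank_span_singleton hP0]
  have hKdim : Module.finrank (ZMod p) (LinearMap.ker δ) = 2 := by
    have := LinearMap.finrank_range_add_finrank_ker δ
    rw [hLdim, A.dim] at this
    omega
  have hcard : ∀ W : Submodule (ZMod p) V,
      Nat.card W.toAddSubgroup.toSubgroup = p ^ Module.finrank (ZMod p) W := fun W => by
    rw [Nat.card_congr (Multiplicative.toAdd.subtypeEquiv fun y => Iff.rfl :
      W.toAddSubgroup.toSubgroup ≃ W), Module.natCard_eq_pow_finrank (K := ZMod p), Nat.card_zmod]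
  have T : TransvectionStrong.IsTv p
      (((toMulAut ρ).rangeRestrict x : (toMulAut ρ).range) : MulAut (Multiplicative V))
      (LinearMap.range δ).toAddSubgroup.toSubgroup
      (LinearMap.ker δ).toAddSubgroup.toSubgroup := by
    refine ⟨?_, by rw [hcard, hLdim, pow_one], by rw [hcard, hKdim], fun y hy => ?_, fun y hy => ?_,
      fun y => ?_, fun h => hne ((toMulAut_eq_one ρ).1 h)⟩
    · rw [Nat.card_congr Multiplicative.toAdd, Module.natCard_eq_pow_finrank (K := ZMod p),
        Nat.card_zmod, A.dim]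
    · have hy' : y.toAdd ∈ Submodule.span (ZMod p) {P0} := hL.le hy
      obtain ⟨c, hc⟩ := Submodule.mem_span_singleton.1 hy'
      show δ y.toAdd = 0
      rw [← hc, map_smul, hfix, smul_zero]
    · refine Multiplicative.toAdd.injective ?_
      rw [show (((toMulAut ρ).rangeRestrict x : (toMulAut ρ).range) : MulAut (Multiplicative V)) =
        toMulAut ρ x from rfl, toAdd_dis, toAdd_one]
      exact hy
    · show (TransvectionStrong.dis (toMulAut ρ x) y).toAdd ∈ LinearMap.range δ
      rw [toAdd_dis]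
      exact ⟨_, rfl⟩
  refine hH γ hγ (TransvectionStrong.mem_of_map_le mult_exp hstrong T (hRP x hx)
    ((toMulAut ρ).rangeRestrict γ) fun z hz => ?_)
  have hz1 : z.toAdd ∈ Submodule.span (ZMod p) {P0} := hL.le hz
  obtain ⟨c, hc⟩ := Submodule.mem_span_singleton.1 hz1
  show δ (ρ γ z.toAdd) = 0
  rw [← hc, map_smul, map_smul, h0, smul_zero]

variable {Ω : Type u} [Group Ω] {S : Subgroup Ω} [Finite S] {F : FusionSystem S} {E : Subgroup Ω}

/-- What a transvection gives about the position of the subgroup in the whole group. -/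
structure TFacts (F : FusionSystem S) (p : ℕ) (E : Subgroup Ω) : Prop where
  cardE : Nat.card E * p = Nat.card S
  phiS_le : phi S ≤ E
  phiS_small : Nat.card (phi S) * p ^ 3 ≤ Nat.card S
  moved : ∀ y ∈ S, y ∉ E → ∃ w ∈ E, ⁅y, w⁆ ∉ phi E
  same : ∀ E' ≤ S, Nat.card E' * p = Nat.card S → phi S ≤ E' →
    (∀ y ∈ S, y ∉ E' → ∃ w ∈ E', ⁅y, w⁆ ∉ phi E') → Nat.card (phi E) ≤ Nat.card (phi E') →
      phi E' = phi E
  elem : phi E = ⊥ → Nat.card (phi S) = p ∧ phi S ≤ omegaZ p S ∧
    Nat.card (omegaZ p S) = p ^ 2 ∧ (∃ θ, Good F p θ) ∧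
    ∀ θ, Good F p θ → fixZ p θ ≤ E ∧ ∀ α ∈ F.autGroup E, ∀ z ∈ fixZ p θ, autFun α z ∈ fixZ p θ

variable {V : Type u} [AddCommGroup V] [Module (ZMod p) V]
  {s : SecMap p (E0 S E) (step p (E0 S E) (E0 S E)) V}
  {ρ : F.autGroup E →* Module.End (ZMod p) V} {R : Sylow p (F.autGroup E)}
  {H : Subgroup (F.autGroup E)} {x : normalizerIn S E} {γx : F.autGroup E}
  {hle : E ≤ normalizerIn S E}

set_option maxHeartbeats 1600000 in
theorem Base.tfacts (B : Base hle s ρ R H x γx) (hn : S ≤ Subgroup.normalizer (E : Set Ω))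
    (h2 : ∀ r, (ρ γx - 1) ((ρ γx - 1) r) = 0) : TFacts F p E := by
  haveI := B.finiteX
  haveI := B.normal
  haveI := finite_mulAut (P := E) B.ess.1.1
  haveI : Finite E := finite_of_le B.ess.1.1
  haveI := s.finite
  haveI : Finite (MulAut S) := MulEquiv.finite_left
  have hES := B.ess.1.1
  have hNS : normalizerIn S E = S := normalizerIn_eq hn
  have hpE : IsPGroup p E := isPGroup_of_le hES B.pS
  obtain ⟨θ₀, h₀, c₀, l₀, vw, vP, vQ, -, C₀, -⟩ := B.exists_torus_ctx h2
  obtain ⟨w0, hw0, hw⟩ := s.surj vw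
  obtain ⟨x', C, r, hr, hrT, hrx⟩ := Transv.exists_adjust C₀ hw0 hw
  have hxK := Transv.x_pow_mem C hr hrT hrx
  have hline := Transv.frattini_le_line C hxK
  have hphiS : phi S = (step p (⊤ : Subgroup (normalizerIn S E)) ⊤).map
      (normalizerIn S E).subtype := phi_top hNS B.pS
  have hphiE : phi E = (step p (E0 S E) (E0 S E)).map (normalizerIn S E).subtype :=
    phi_eq hpE hle
  have hcardS : Nat.card S = Nat.card (normalizerIn S E) := by rw [hNS]
  have hcardN : Nat.card S = p ^ 3 * Nat.card (step p (E0 S E) (E0 S E)) * p := by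
    have h1 := (E0 S E).card_mul_index
    have h3 := s.card_mul
    rw [Module.natCard_eq_pow_finrank (K := ZMod p), Nat.card_zmod, B.setup.dim] at h3
    rw [B.index, ← h3] at h1
    rw [hcardS, h1]
  have hvP : vP ≠ 0 := fun h =>
    one_ne_zero (C.indep 0 1 0 (by rw [h]; simp)).2.1
  have hlinecard : Nat.card (s.pre (Submodule.span (ZMod p) {vP})) =
      p * Nat.card (step p (E0 S E) (E0 S E)) := by
    rw [s.card_pre, Module.natCard_eq_pow_finrank (K := ZMod p), Nat.card_zmod,
      finrank_span_singleton hvP, pow_one]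
  refine ⟨?_, ?_, ?_, ?_, ?_, ?_⟩
  · have h1 := (E0 S E).card_mul_index
    rw [B.index, Nat.card_congr (Subgroup.subgroupOfEquivOfLe hle).toEquiv] at h1
    rw [h1, hNS]
  · rw [hphiS]
    rintro _ ⟨a, ha, rfl⟩
    exact (hline ha).1
  · rw [hphiS, Subgroup.card_map_of_injective (normalizerIn S E).subtype_injective]
    have h4 := Subgroup.card_le_of_le hline
    rw [hlinecard] at h4
    refine (Nat.mul_le_mul_right _ h4).trans (le_of_eq ?_)
    rw [hcardN]
    ring
  · intro y hy hyE
    refine ⟨(w0 : Ω), hw0, fun h => ?_⟩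
    refine Transv.exists_moved C hw0 hw (y := (⟨y, hNS.ge hy⟩ : normalizerIn S E)) hyE ?_
    rw [hphiE] at h
    obtain ⟨z, hz, hz'⟩ := h
    rwa [show ⁅(⟨y, hNS.ge hy⟩ : normalizerIn S E), w0⁆ = z from
      Subtype.ext (hz'.trans rfl).symm]
  · -- the same Frattini subgroup
    intro E' hE'S hE'c hDE' hmv hcard
    by_cases hEE : E' = E
    · rw [hEE]
    have hE'N : E' ≤ normalizerIn S E := hE'S.trans hNS.ge
    haveI : Finite E' := finite_of_le hE'S
    set E'' := E'.subgroupOf (normalizerIn S E)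
    have hphiE' : phi E' = (step p E'' E'').map (normalizerIn S E).subtype :=
      phi_eq (isPGroup_of_le hE'S B.pS) hE'N
    have hDD : step p (⊤ : Subgroup (normalizerIn S E)) ⊤ ≤ E'' := fun a ha =>
      hDE' (hphiS ▸ ⟨a, ha, rfl⟩)
    have hn'' : E''.Normal := ⟨fun a ha y => by
      have h1 : ⁅y, a⁆ ∈ E'' := hDD (comm_mem_step (Subgroup.mem_top _) (Subgroup.mem_top _))
      have h2 := E''.mul_mem h1 ha
      rwa [commutatorElement_def, inv_mul_cancel_right] at h2⟩
    have hi'' : E''.index = p := by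
      have h1 := E''.card_mul_index
      rw [Nat.card_congr (Subgroup.subgroupOfEquivOfLe hE'N).toEquiv, ← hcardS, ← hE'c] at h1
      exact Nat.eq_of_mul_eq_mul_left Nat.card_pos h1
    have h1 := Transv.step_eq_of_other C E'' hn'' hi'' (fun h => hEE (by
        exact (Subgroup.map_subgroupOf_eq_of_le hE'N).symm.trans
          ((congrArg (Subgroup.map (normalizerIn S E).subtype) h).trans
            (Subgroup.map_subgroupOf_eq_of_le hle)))) hDD
      (fun y hy => by
        obtain ⟨w, hw', hne⟩ := hmv y (hNS.le y.2) hy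
        refine ⟨⟨w, hE'N hw'⟩, hw', fun h => hne ?_⟩
        rw [hphiE']
        exact ⟨_, h, rfl⟩)
      (by rwa [hphiE, hphiE', Subgroup.card_map_of_injective (normalizerIn S E).subtype_injective,
        Subgroup.card_map_of_injective (normalizerIn S E).subtype_injective] at hcard)
    rw [hphiE', hphiE, h1]
  · -- the elementary case
    intro hK
    have hK' : step p (E0 S E) (E0 S E) = ⊥ :=
      (Subgroup.map_eq_bot_iff_of_injective _ (normalizerIn S E).subtype_injective).1 (hphiE ▸ hK)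
    have hzero : ∀ a ∈ E0 S E, s.π a = 0 → a = 1 := fun a ha h => by
      have h1 := (s.map_eq_zero a ha).1 h
      rwa [hK', Subgroup.mem_bot] at h1
    have hinj : ∀ a ∈ E0 S E, ∀ b ∈ E0 S E, s.π a = s.π b → a = b := fun a ha b hb h => by
      have h1 := (s.eq_iff ha hb).1 h
      rwa [hK', Subgroup.mem_bot, inv_mul_eq_one] at h1
    have hKc : Nat.card (step p (E0 S E) (E0 S E)) = 1 := Subgroup.card_eq_one.2 hK'
    rw [hKc, mul_one] at hlinecard
    set δ := ρ γx - 1 with hδ
    have hTd : ∀ z, ρ γx z = z + δ z := fun z => by simp [hδ]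
    have hPc : Nat.card (phi S) = p := by
      rw [hphiS, Subgroup.card_map_of_injective (normalizerIn S E).subtype_injective]
      have h1 := Subgroup.card_dvd_of_le hline
      rw [hlinecard] at h1
      refine ((Nat.dvd_prime hp.1).1 h1).resolve_left fun h => ?_
      refine Transv.exists_moved C hw0 hw C.notMem ?_
      have h3 := comm_mem_step (p := p) (Subgroup.mem_top x') (Subgroup.mem_top w0)
      rw [Subgroup.card_eq_one.1 h, Subgroup.mem_bot] at h3
      rw [h3]
      exact Subgroup.one_mem _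
    have hphieq : step p (⊤ : Subgroup (normalizerIn S E)) ⊤ =
        s.pre (Submodule.span (ZMod p) {vP}) := by
      refine Subgroup.eq_of_le_of_card_ge hline (le_of_eq ?_)
      have h5 := hPc
      rw [hphiS, Subgroup.card_map_of_injective (normalizerIn S E).subtype_injective] at h5
      rw [hlinecard, h5]
    -- the centre
    have hZ : ∀ a : normalizerIn S E, (a : Ω) ∈ omegaZ p S ↔ a ∈ E0 S E ∧ δ (s.π a) = 0 := by
      intro a
      constructor
      · intro h
        have haE : a ∈ E0 S E := centric_centralizer_le B.ess.1 (mem_centralizerIn.2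
          ⟨h.1, fun y hy => cj_fixed_iff.2 (h.2.2 y (hES hy))⟩)
        refine ⟨haE, ?_⟩
        rw [← s.map_comm_left B.normal B.act haE, commutatorElement_eq_one_iff_mul_comm.2
          (Subtype.ext (h.2.2 (x : Ω) (hNS.le x.2)).symm), s.map_one]
      · rintro ⟨ha, h⟩
        have hp1 : a ^ p = 1 := hzero _ ((E0 S E).pow_mem ha p) (by
          rw [s.map_pow_cast ha, ZMod.natCast_self, zero_smul])
        have hxa : ⁅x, a⁆ = 1 := hzero _ (by
          rw [commutatorElement_def]
          exact (E0 S E).mul_mem (B.normal.conj_mem a ha x) ((E0 S E).inv_mem ha))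
          (by rw [s.map_comm_left B.normal B.act ha, h])
        refine ⟨hNS.le a.2, congrArg Subtype.val hp1, fun y hy => ?_⟩
        obtain ⟨e, he, i, hei⟩ := exists_dec (sup_eq_top_of_index B.index B.notMem)
          (⟨y, hNS.ge hy⟩ : normalizerIn S E)
        have hae : Commute a e := by
          rw [commute_iff_eq, ← commutatorElement_eq_one_iff_mul_comm]
          have h3 := comm_mem_step (p := p) ha he
          rwa [hK', Subgroup.mem_bot] at h3
        have hax : Commute a x := (commutatorElement_eq_one_iff_mul_comm.1 hxa).symm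
        exact congrArg Subtype.val (hei ▸ (hae.mul_right (hax.pow_right i)).eq)
    have hOle : omegaZ p S ≤ normalizerIn S E := fun a ha => hNS.ge ha.1
    have hPZ : phi S ≤ omegaZ p S := by
      rw [hphiS, hphieq]
      rintro _ ⟨a, ha, rfl⟩
      obtain ⟨e, he⟩ := Submodule.mem_span_singleton.1 ha.2
      refine (hZ a).2 ⟨ha.1, ?_⟩
      rw [← he, map_smul, hδ, LinearMap.sub_apply, Module.End.one_apply, C.dP, sub_self, smul_zero]
    have hrle : LinearMap.range δ ≤ LinearMap.ker δ := by
      rintro _ ⟨r, rfl⟩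
      exact h2 r
    have hker2 : Module.finrank (ZMod p) (LinearMap.ker δ) = 2 := by
      have h1 := LinearMap.finrank_range_add_finrank_ker δ
      have h3 := Submodule.finrank_mono hrle
      have h4 : Module.finrank (ZMod p) (LinearMap.range δ) ≠ 0 := by
        intro h0
        rw [Submodule.finrank_eq_zero, LinearMap.range_eq_bot, hδ, sub_eq_zero] at h0
        exact B.ne_one h0
      have := B.setup.dim
      omega
    have hZc : Nat.card (omegaZ p S) = p ^ 2 := by
      have h1 : omegaZ p S = (s.pre (LinearMap.ker δ)).map (normalizerIn S E).subtype := by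
        ext a
        exact ⟨fun ha => ⟨⟨a, hOle ha⟩, (hZ _).1 ha, rfl⟩, fun ⟨b, hb, hba⟩ => hba ▸ (hZ b).2 hb⟩
      rw [h1, Subgroup.card_map_of_injective (normalizerIn S E).subtype_injective, s.card_pre, hKc,
        mul_one, Module.natCard_eq_pow_finrank (K := ZMod p), Nat.card_zmod,
        hker2]
    have hdP : δ vP = 0 := by
      rw [hδ, LinearMap.sub_apply, Module.End.one_apply, C.dP, sub_self]
    have hrange : ∀ r, ∃ c : ZMod p, δ r = c • vP := fun r => by
      obtain ⟨a, b, d, rfl⟩ := C.span r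
      refine ⟨a * c₀, ?_⟩
      simp only [hδ, LinearMap.sub_apply, Module.End.one_apply, map_add, map_smul, C.dw, C.dP, C.dQ]
      module
    -- a torus element for every moving element
    have hgood : ∀ a : F.autGroup E, δ (ρ a vP) ≠ 0 → δ (ρ a⁻¹ vP) ≠ 0 →
        ∃ θ, Good F p θ ∧ ∀ z ∈ omegaZ p S,
          (autFun θ z = z ↔ autFun ((a⁻¹ : F.autGroup E) : MulAut E) z ∈ omegaZ p S) := by
      intro a ha hai
      obtain ⟨θ, -, hθP, hθw, hθQ⟩ := exists_torus ρ γx a hvP hdP hrange ha hai C.l0 ⊤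
        (Subgroup.mem_top _) (Subgroup.mem_top _)
      obtain ⟨c, hc⟩ := hrange (ρ a vP)
      obtain ⟨t, ht⟩ := hrange (ρ a⁻¹ vP)
      have hc0 : c ≠ 0 := fun h0 => ha (by rw [hc, h0, zero_smul])
      have ht0 : t ≠ 0 := fun h0 => hai (by rw [ht, h0, zero_smul])
      have hdecK : ∀ u, δ u = 0 → ∃ g : ZMod p,
          δ (u - g • vP) = 0 ∧ δ (ρ a⁻¹ (u - g • vP)) = 0 := fun u hu => by
        obtain ⟨g, hg⟩ := hrange (ρ a⁻¹ u)
        refine ⟨g / t, by rw [map_sub, map_smul, hu, hdP, smul_zero, sub_zero], ?_⟩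
        rw [map_sub, map_sub, map_smul, map_smul, hg, ht, smul_smul, div_mul_cancel₀ _ ht0,
          sub_self]
      have hTm : ρ γx ^ (l₀ * l₀).val * ρ θ = ρ θ * ρ γx := by
        refine LinearMap.ext fun u => ?_
        obtain ⟨e, he⟩ := hrange u
        have hu0 : δ (u - (e / c) • ρ a vP) = 0 := by
          rw [map_sub, map_smul, he, hc, smul_smul, div_mul_cancel₀ _ hc0, sub_self]
        obtain ⟨g, hg1, hg2⟩ := hdecK _ hu0
        set q := u - (e / c) • ρ a vP - g • vP with hq
        have hu : u = (e / c) • ρ a vP + g • vP + q := by rw [hq]; abel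
        have hp' : ∀ z, (ρ γx ^ (l₀ * l₀).val) z = z + (l₀ * l₀) • δ z := fun z => by
          rw [pow_apply_of_sq (ρ γx) h2, ZMod.natCast_zmod_val]
        rw [hu]
        simp only [Module.End.mul_apply, map_add, map_smul, hθP, hθw, hθQ q hg1 hg2, hp', hTd, hc,
          hg1, hdP, smul_zero, add_zero]
        have hl := C.l0
        match_scalars <;> field_simp <;> ring
      have hnorm : ρ (θ * γx * θ⁻¹) = ρ γx ^ (l₀ * l₀).val := by
        rw [map_mul, map_mul, ← hTm, mul_assoc, ← map_mul, mul_inv_cancel, map_one, mul_one]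
      obtain ⟨β, hβ, hβe⟩ := B.exists_extend hnorm
      have hm : IsMor F S (autFun β) := (isMor_autFun normalizerIn_le hβ).restrict hNS.ge
      obtain ⟨θS, hθS, hθSe⟩ := exists_aut hm (hm.img_eq_self fun y hy =>
        hNS.le (autFun_mem β (hNS.ge hy)))
      have hval : ∀ b : normalizerIn S E, b ∈ E0 S E → ∃ b' ∈ E0 S E,
          autFun θS (b : Ω) = (b' : Ω) ∧ s.π b' = ρ θ (s.π b) := fun b hb =>
        ⟨lift hle (θ : MulAut E) b, lift_mem hle _ hb, by
          rw [hθSe _ (hNS.le b.2), autFun_coe, hβe b hb], (B.hρ θ b hb).symm⟩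
      refine ⟨θS, ⟨hθS, fun z hz => ?_, fun z hz hfix => ?_⟩, fun z hz => ?_⟩
      · obtain ⟨hzE, hz0⟩ := (hZ ⟨z, hOle hz⟩).1 hz
        obtain ⟨g, hg1, hg2⟩ := hdecK _ hz0
        obtain ⟨a0, ha0, ha0π⟩ := s.surj (g • vP)
        have ha0S : (a0 : Ω) ∈ phi S := by
          rw [hphiS, hphieq]
          exact ⟨a0, ⟨ha0, by
            rw [ha0π]; exact Submodule.smul_mem _ g (Submodule.mem_span_singleton_self _)⟩, rfl⟩
        set b : normalizerIn S E := a0⁻¹ * ⟨z, hOle hz⟩
        have hbE : b ∈ E0 S E := (E0 S E).mul_mem ((E0 S E).inv_mem ha0) hzE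
        have hbπ : s.π b = s.π ⟨z, hOle hz⟩ - g • vP := by
          rw [s.map_mul _ ((E0 S E).inv_mem ha0) _ hzE, s.map_inv ha0, ha0π]; abel
        obtain ⟨b', hb'E, hb'e, hb'π⟩ := hval b hbE
        refine ⟨a0, ha0S, b, (hZ b).2 ⟨hbE, by rw [hbπ]; exact hg1⟩, ?_, ?_⟩
        · rw [hb'e]
          exact congrArg Subtype.val (hinj b' hb'E b hbE (by
            rw [hb'π, hbπ, hθQ _ hg1 hg2]))
        · show z = (a0 : Ω) * ((a0 : Ω)⁻¹ * z)
          rw [mul_inv_cancel_left]
      · rw [hphiS, hphieq] at hz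
        obtain ⟨z0, hz0, rfl⟩ := hz
        obtain ⟨e, he⟩ := Submodule.mem_span_singleton.1 hz0.2
        obtain ⟨b', hb'E, hb'e, hb'π⟩ := hval z0 hz0.1
        have h1 : b' = z0 := Subtype.ext (hb'e.symm.trans hfix)
        rw [h1, ← he, map_smul, hθP, smul_smul, ← sub_eq_zero, ← sub_smul, smul_eq_zero,
          or_iff_left hvP] at hb'π
        have hl1 : (1 : ZMod p) - l₀ ≠ 0 := fun h0 => C.l2 (by
          rw [← sub_eq_zero.1 h0, mul_one])
        have he0 : e = 0 := (mul_eq_zero.1 (show e * (1 - l₀) = 0 by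
          rw [← hb'π]; ring)).resolve_right hl1
        exact congrArg Subtype.val (hzero z0 hz0.1 (by rw [← he, he0, zero_smul]))
      · obtain ⟨hzE, hz0⟩ := (hZ ⟨z, hOle hz⟩).1 hz
        obtain ⟨b', hb'E, hb'e, hb'π⟩ := hval ⟨z, hOle hz⟩ hzE
        obtain ⟨g, hg1, hg2⟩ := hdecK _ hz0
        set q := s.π ⟨z, hOle hz⟩ - g • vP with hq
        have hπz : s.π ⟨z, hOle hz⟩ = g • vP + q := by rw [hq]; abel
        rw [hπz, map_add, map_smul, hθP, hθQ q hg1 hg2, smul_smul] at hb'π
        set z' : normalizerIn S E :=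
          lift hle ((a⁻¹ : F.autGroup E) : MulAut E) ⟨z, hOle hz⟩
        have hz'E : z' ∈ E0 S E := lift_mem hle _ hzE
        have hz'π : δ (s.π z') = (g * t) • vP := by
          rw [← B.hρ _ _ hzE, hπz, map_add, map_add, map_smul, map_smul, ht, hg2, add_zero,
            smul_smul]
        constructor
        · intro hfix
          have h1 : b' = ⟨z, hOle hz⟩ := Subtype.ext (hb'e.symm.trans hfix)
          rw [h1, hπz, add_left_inj, ← sub_eq_zero, ← sub_smul, smul_eq_zero, or_iff_left hvP]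
            at hb'π
          have hl1 : (1 : ZMod p) - l₀ ≠ 0 := fun h0 => C.l2 (by
            rw [← sub_eq_zero.1 h0, mul_one])
          have hg0 : g = 0 := (mul_eq_zero.1 (show g * (1 - l₀) = 0 by
            rw [← hb'π]; ring)).resolve_right hl1
          have h3 := (hZ z').2 ⟨hz'E, by rw [hz'π, hg0, zero_mul, zero_smul]⟩
          rwa [lift_val hle _ (y := ⟨z, hOle hz⟩) hzE] at h3
        · intro hmem
          have h3 : (z' : Ω) ∈ omegaZ p S := by rw [lift_val hle _ (y := ⟨z, hOle hz⟩) hzE]; exact hmem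
          have h4 := ((hZ z').1 h3).2
          rw [hz'π, smul_eq_zero, or_iff_left hvP, mul_eq_zero, or_iff_left ht0] at h4
          refine hb'e.trans (congrArg Subtype.val (hinj b' hb'E ⟨z, hOle hz⟩ hzE ?_))
          rw [hb'π, hπz, h4, zero_mul, zero_smul]
    obtain ⟨a₁, ha₁, ha₁'⟩ := B.setup.exists_move B.mem_R hvP hrange hdP B.ne_one
    obtain ⟨θ₁, hθ₁, -⟩ := hgood a₁ ha₁ ha₁'
    refine ⟨hPc, hPZ, hZc, ⟨θ₁, hθ₁⟩, fun θ hθ => ?_⟩
    have hfixE : fixZ p θ ≤ E := fun z hz => ((hZ ⟨z, hOle hz.1⟩).1 hz.1).1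
    refine ⟨hfixE, ?_⟩
    have hp3 : 3 ≤ p := by have := B.p5; omega
    -- the stabiliser
    let G : Subgroup (F.autGroup E) :=
      { carrier := {α | ∀ z ∈ fixZ p θ, autFun (α : MulAut E) z ∈ fixZ p θ}
        one_mem' := fun z hz => by
          show autFun (1 : MulAut E) z ∈ _
          rwa [autFun_one (hfixE hz)]
        mul_mem' := fun {α β} hα hβ z hz => by
          show autFun ((α : MulAut E) * (β : MulAut E)) z ∈ _
          rw [autFun_mul _ _ (hfixE hz)]
          exact hα _ (hβ z hz)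
        inv_mem' := fun {α} hα z hz => by
          haveI : Finite (fixZ p θ) :=
            finite_of_le ((show fixZ p θ ≤ E from hfixE).trans hES)
          let f : fixZ p θ → fixZ p θ := fun w => ⟨autFun (α : MulAut E) w, hα w w.2⟩
          have hf : Function.Injective f := fun w w' h => by
            have h1 := congrArg (fun u : fixZ p θ => autFun (α : MulAut E)⁻¹ (u : Ω)) h
            simp only [f] at h1
            rw [autFun_inv_left _ (hfixE w.2), autFun_inv_left _ (hfixE w'.2)] at h1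
            exact Subtype.ext h1
          obtain ⟨w, hw⟩ := Finite.surjective_of_injective hf ⟨z, hz⟩
          have h1 : autFun (α : MulAut E) (w : Ω) = z := congrArg Subtype.val hw
          show autFun (α : MulAut E)⁻¹ z ∈ _
          rw [← h1, autFun_inv_left _ (hfixE w.2)]
          exact w.2 }
    have hout : ∀ γ, γ ∉ H → γ ∈ G := by
      intro γ hγ z hz
      have hγ' : γ⁻¹ ∉ H := fun h => hγ (inv_inv γ ▸ H.inv_mem h)
      have h1 := B.setup.move_of_not_mem B.mem_R hvP hrange hdP B.ne_one hγ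
      have h3 := B.setup.move_of_not_mem B.mem_R hvP hrange hdP B.ne_one hγ'
      obtain ⟨θa, hθa, hθai⟩ := hgood γ h1 h3
      obtain ⟨θb, hθb, hθbi⟩ := hgood γ⁻¹ h3 (by rwa [inv_inv])
      have eab := Good.fixZ_eq (F := F) hp3 B.pS B.sat hPc hPZ hZc hθb hθ
      have ea := Good.fixZ_eq (F := F) hp3 B.pS B.sat hPc hPZ hZc hθ hθa
      have hzb := eab hz
      have h4 := (hθbi z hzb.1).1 hzb.2
      rw [inv_inv] at h4
      refine ea ⟨h4, (hθai _ h4).2 ?_⟩
      show autFun ((γ : MulAut E))⁻¹ (autFun (γ : MulAut E) z) ∈ _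
      rw [autFun_inv_left _ (hfixE hz)]
      exact hz.1
    intro α hα
    obtain ⟨g, hg⟩ : ∃ g, g ∉ H := by
      by_contra! h
      exact B.setup.ne_top (eq_top_iff.2 fun y _ => h y)
    have hG : (⟨α, hα⟩ : F.autGroup E) ∈ G := by
      by_cases hαH : (⟨α, hα⟩ : F.autGroup E) ∈ H
      · have h1 : (⟨α, hα⟩ : F.autGroup E) * g ∉ H := fun h => hg ((H.mul_mem_cancel_left hαH).1 h)
        have h3 := G.mul_mem (hout _ h1) (G.inv_mem (hout g hg))
        rwa [mul_inv_cancel_right] at h3
      · exact hout _ hαH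
    exact hG

end CfsgLib.Fusion.RankThree
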