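import Cfsg.Agent.Lib.Fusion.RankThree.TransvFacts

/-!
# A system all of whose essential subgroups have a transvection has a normal subgroup
-/

set_option autoImplicit false
set_option linter.unusedSectionVars false
set_option linter.style.haveILetI false

namespace CfsgLib.Fusion.RankThree

open Cfsg Cfsg.FusionSystem CfsgLib.Fusion
open scoped commutatorElement

universe u

variable {p : ℕ} [hp : Fact p.Prime] {Ω : Type u} [Group Ω] {S : Subgroup Ω} [Finite S]
  {F : FusionSystem S}

set_option maxHeartbeats 800000 in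
/-- All essential subgroups with a transvection: some nontrivial subgroup is normal in the system. -/
theorem exists_normal_of_transv (hp3 : 3 ≤ p) (hS : IsPGroup p S) (hF : F.IsSaturated p)
    (hne : ∃ E, F.IsEssential p E) (hT : ∀ E, F.IsEssential p E → TFacts F p E) :
    ∃ Q, F.IsNormal Q ∧ Q ≠ ⊥ := by
  classical
  haveI : Finite (MulAut S) := MulEquiv.finite_left
  have hex : ∃ n, ∃ E, F.IsEssential p E ∧ Nat.card (phi E) = n :=
    ⟨_, hne.choose, hne.choose_spec, rfl⟩
  obtain ⟨E, hE, hEn⟩ := Nat.find_spec hex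
  have hmin : ∀ P, F.IsEssential p P → Nat.card (phi E) ≤ Nat.card (phi P) := fun P hP =>
    hEn ▸ Nat.find_min' hex ⟨P, hP, rfl⟩
  have hES := hE.1.1
  have T := hT E hE
  haveI : Finite E := finite_of_le hES
  have heq : ∀ P, F.IsEssential p P → phi P = phi E := fun P hP =>
    T.same P hP.1.1 (hT P hP).cardE (hT P hP).phiS_le (hT P hP).moved (hmin P hP)
  by_cases hK : phi E = ⊥
  · obtain ⟨hPc, hPZ, hZc, ⟨θ, hθ⟩, -⟩ := T.elem hK
    refine ⟨fixZ p θ, isNormal_of_invariant hS hF ?_, hθ.fixZ_ne_bot hPc hZc⟩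
    rintro P (hPS | hP)
    · rw [hPS]
      exact ⟨fun z hz => hz.1.1, fun α hα z hz =>
        hθ.fixZ_invariant hp3 hS hF hPc hPZ hZc hα hz⟩
    · obtain ⟨-, -, -, -, h⟩ := (hT P hP).elem ((heq P hP).trans hK)
      exact h θ hθ
  refine ⟨phi E, isNormal_of_invariant hS hF ?_, hK⟩
  rintro P (hPS | hP)
  · rw [hPS]
    refine ⟨(phi_le E).trans hES, fun α hα z hz => ?_⟩
    set E0' := (E.subgroupOf S).map α.toMonoidHom
    set E' := E0'.map S.subtype
    have hE'S : E' ≤ S := Subgroup.map_subtype_le _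
    have hsub : E'.subgroupOf S = E0' :=
      Subgroup.comap_map_eq_self_of_injective S.subtype_injective _
    have hE'c : Nat.card E' = Nat.card E := by
      rw [Subgroup.card_map_of_injective S.subtype_injective,
        Subgroup.card_map_of_injective α.injective,
        Nat.card_congr (Subgroup.subgroupOfEquivOfLe hES).toEquiv]
    haveI : Finite E' := finite_of_le hE'S
    have hphi : phi E' = ((step p (E.subgroupOf S) (E.subgroupOf S)).map α.toMonoidHom).map
        S.subtype := by
      rw [phi_eq (isPGroup_of_le hE'S hS) hE'S, hsub, step_map]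
    have hphiE : phi E = (step p (E.subgroupOf S) (E.subgroupOf S)).map S.subtype :=
      phi_eq (isPGroup_of_le hES hS) hES
    have h1 : phi E' = phi E := by
      refine T.same E' hE'S (by rw [hE'c]; exact T.cardE) (fun a ha => ?_) (fun y hy hyE => ?_) ?_
      · obtain ⟨c, hc, rfl⟩ := ha
        refine ⟨c, ⟨α⁻¹ c, ?_, MulAut.apply_inv_self _ α c⟩, rfl⟩
        exact T.phiS_le ⟨α⁻¹ c, (Subgroup.characteristic_iff_map_eq.1
          (inferInstance : (frattini ↥S).Characteristic) α⁻¹).le ⟨c, hc, rfl⟩, rfl⟩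
      · set y' : S := α⁻¹ ⟨y, hy⟩
        obtain ⟨w, hw, hne'⟩ := T.moved (y' : Ω) y'.2 fun h => hyE
          ⟨⟨y, hy⟩, ⟨y', h, MulAut.apply_inv_self _ α _⟩, rfl⟩
        refine ⟨(α ⟨w, hES hw⟩ : S), ⟨_, ⟨⟨w, hES hw⟩, hw, rfl⟩, rfl⟩, fun h => hne' ?_⟩
        rw [hphi] at h
        obtain ⟨_, ⟨c, hc, rfl⟩, hcw⟩ := h
        have h2 : α c = α ⁅y', (⟨w, hES hw⟩ : S)⁆ := by
          refine Subtype.ext (hcw.trans ?_)
          rw [map_commutatorElement, MulAut.apply_inv_self]
          rfl
        rw [hphiE]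
        exact ⟨c, hc, by rw [α.injective h2]; rfl⟩
      · rw [hphi, hphiE, Subgroup.card_map_of_injective S.subtype_injective,
          Subgroup.card_map_of_injective S.subtype_injective,
          Subgroup.card_map_of_injective α.injective]
    rw [hphiE] at hz
    obtain ⟨c, hc, rfl⟩ := hz
    rw [← h1, hphi]
    exact ⟨α c, ⟨c, hc, rfl⟩, (autFun_coe α c).symm⟩
  · haveI : Finite P := finite_of_le hP.1.1
    rw [← heq P hP]
    refine ⟨phi_le P, fun α _ z hz => ?_⟩
    obtain ⟨c, hc, rfl⟩ := hz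
    exact ⟨α c, (Subgroup.characteristic_iff_map_eq.1
      (inferInstance : (frattini ↥P).Characteristic) α).le ⟨c, hc, rfl⟩, (autFun_coe α c).symm⟩

end CfsgLib.Fusion.RankThree
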