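import Cfsg.Agent.Lib.Fusion.RankThree.Plane
import Cfsg.Agent.Lib.Fusion.RankThree.TransvEq

/-!
# A transvection: adjoining the moving element to the normaliser
-/

set_option autoImplicit false
set_option linter.unusedSectionVars false
set_option linter.style.haveILetI false

namespace CfsgLib.Fusion.RankThree

open scoped commutatorElement

universe u

variable {p : ℕ} [hp : Fact p.Prime] {X : Type u} [Group X] [Finite X]

/-- An elementary section seen through an injective homomorphism. -/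
theorem SecMap.exists_map {Y : Type u} [Group Y] {A B : Subgroup X} {W : Type u} [AddCommGroup W]
    [Module (ZMod p) W] (sW : SecMap p A B W) (ι : X →* Y) (hι : Function.Injective ι) :
    ∃ t : SecMap p (A.map ι) (B.map ι) W, ∀ a, t.π (ι a) = sW.π a := by
  have hl : ∀ a, Function.invFun ι (ι a) = a := Function.leftInverse_invFun hι
  refine ⟨{
    π := fun y => sW.π (Function.invFun ι y)
    le := Subgroup.map_mono sW.le
    map_mul := ?_
    map_eq_zero := ?_
    surj := ?_ }, fun a => congrArg sW.π (hl a)⟩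
  · rintro _ ⟨a, ha, rfl⟩ _ ⟨b, hb, rfl⟩
    rw [← _root_.map_mul, hl, hl, hl]
    exact sW.map_mul a ha b hb
  · rintro _ ⟨a, ha, rfl⟩
    rw [hl, sW.map_eq_zero a ha]
    exact (Subgroup.mem_map_iff_mem hι).symm
  · intro v
    obtain ⟨a, ha, rfl⟩ := sW.surj v
    exact ⟨ι a, ⟨a, ha, rfl⟩, congrArg sW.π (hl a)⟩

namespace Transv

variable {V : Type u} [AddCommGroup V] [Module (ZMod p) V] {E : Subgroup X} [E.Normal]
  {s : SecMap p E (step p E E) V} {T : Module.End (ZMod p) V} {g φ : MulAut X} {W : Type u}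
  [AddCommGroup W] [Module (ZMod p) W]
  {sZ : SecMap p (s.pre (LinearMap.ker (T - 1))) (step p E E) W} {z w : X}
  {Tg TΘ : Module.End (ZMod p) W} {k : ℕ} {m c e b χP χQ : ZMod p} {vP vQ : W}

set_option maxHeartbeats 800000 in
/-- The inner configuration contradicts the rank bound on a group containing the moving element. -/
theorem false_of_inner (hp2 : p ≠ 2)
    (I : Inner s T g φ sZ z w Tg TΘ k m c e b χP χQ vP vQ)
    {Y : Type u} [Group Y] [Finite Y] (hY : Cfsg.SectionalPRankLE p 3 Y) (ι : X →* Y)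
    (hι : Function.Injective ι) (g' : Y) (hgen : ι.range ⊔ Subgroup.zpowers g' = ⊤)
    (hg' : g' ∉ ι.range) (hgp : g' ^ p ∈ ι.range) (hconj : ∀ a, g' * ι a * g'⁻¹ = ι (g a))
    (Θ : MulAut Y) (hΘ : ∀ a, Θ (ι a) = ι (φ a)) (n : X) (hΘg : Θ g' = ι n * g' ^ k) : False := by
  haveI hKn : (step p E E).Normal := step_normal
  have hKZ : step p E E ≤ (s.pre (LinearMap.ker (T - 1))) := sZ.le
  have hnormal : ∀ A : Subgroup X, (∀ y, ∀ a ∈ A, y * a * y⁻¹ ∈ A) → (∀ a ∈ A, g a ∈ A) →
      (A.map ι).Normal := by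
    intro A hA hAg
    rw [← Subgroup.normalizer_eq_top_iff, eq_top_iff, ← hgen, sup_le_iff, Subgroup.zpowers_le]
    haveI : Finite A := Finite.of_injective _ Subtype.val_injective
    have key : ∀ y : Y, (∀ a ∈ A, y * ι a * y⁻¹ ∈ A.map ι) →
        y ∈ Subgroup.normalizer (A.map ι : Set Y) := fun y hy => by
      refine Subgroup.mem_normalizer_iff_map_conj_eq.2 (Subgroup.eq_of_le_of_card_ge ?_
        (Subgroup.card_map_of_injective (MulAut.conj y).injective).ge)
      rintro _ ⟨_, ⟨a, ha, rfl⟩, rfl⟩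
      exact hy a ha
    refine ⟨?_, key g' fun a ha => ⟨g a, hAg a ha, (hconj a).symm⟩⟩
    rintro _ ⟨y, rfl⟩
    exact key _ fun a ha => ⟨y * a * y⁻¹, hA y a ha, by simp⟩
  have hnX : (ι.range).Normal := by
    rw [MonoidHom.range_eq_map]
    exact hnormal ⊤ (fun _ _ _ => Subgroup.mem_top _) fun _ _ => Subgroup.mem_top _
  have hcomm : ∀ a, ⁅g', ι a⁆ = ι (g a * a⁻¹) := fun a => by
    rw [commutatorElement_def, hconj, map_mul, map_inv]
  have hZn : ∀ y, ∀ a ∈ (s.pre (LinearMap.ker (T - 1))), y * a * y⁻¹ ∈ (s.pre (LinearMap.ker (T - 1))) := fun y a ha => by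
    rw [show y * a * y⁻¹ = ⁅y, a⁆ * a by group]
    exact (s.pre (LinearMap.ker (T - 1))).mul_mem (hKZ (I.central a ha y)) ha
  obtain ⟨t, ht⟩ := sZ.exists_map ι hι
  have hzn : z ∉ (s.pre (LinearMap.ker (T - 1))) := fun h => by
    have h1 := (I.free 1 0 (by simpa using h)).1
    exact hp.1.one_lt.ne' (Nat.dvd_one.1 h1)
  refine false_of_eq (K := (step p E E).map ι) (Zs := (s.pre (LinearMap.ker (T - 1))).map ι) (X := ι.range) (sZ := t)
    (z := ι z) (w := ι w) (g := g') (n := ι n) (Θ := Θ) (Tg := Tg) (TΘ := TΘ) (k := k) (m := m)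
    (c := c) (e := e) (b := b) (χP := χP) (χQ := χQ) (vP := vP) (vQ := vQ) hp2 ?_
  exact
    { rank := hY
      normalK := hnormal _ (fun y a ha => hKn.conj_mem a ha y) I.gK
      normalZ := hnormal _ hZn I.gZ
      normalX := hnX
      leX := Subgroup.map_le_range _ _
      central := by
        rintro _ ⟨a, ha, rfl⟩ _ ⟨y, rfl⟩
        exact ⟨⁅y, a⁆, I.central a ha y, map_commutatorElement _ _ _⟩
      expK := by
        rintro _ ⟨y, rfl⟩
        exact ⟨y ^ p, I.expK y, map_pow _ _ _⟩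
      zmem := ⟨z, rfl⟩
      wmem := ⟨w, rfl⟩
      gen := by
        rintro _ ⟨y, rfl⟩
        obtain ⟨i, j, ζ, hζ, rfl⟩ := I.gen y
        exact ⟨i, j, ι ζ, ⟨ζ, hζ, rfl⟩, by rw [map_mul, map_mul, map_pow, map_pow]⟩
      free := fun i j h => by
        rw [← map_pow, ← map_pow, ← map_mul] at h
        exact I.free i j ((Subgroup.mem_map_iff_mem hι).1 h)
      zw := by
        rw [← map_commutatorElement, ht]
        exact ⟨⟨_, I.zw.1, rfl⟩, I.zw.2⟩
      c0 := I.c0
      g_notMem := hg'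
      g_pow := hgp
      gz := by rw [hcomm]; exact ⟨_, I.gz, rfl⟩
      gw := by rw [hcomm, I.gw, Subgroup.mem_map_iff_mem hι]; exact hzn
      gw' := ⟨1, 1, Subgroup.one_mem _, by rw [hcomm, I.gw, pow_one, mul_one]⟩
      actg := by
        rintro _ ⟨a, ha, rfl⟩
        rw [hconj, ht, ht]
        exact I.actg a ha
      gP := I.gP
      gQ := I.gQ
      span := I.span
      indep := I.indep
      θK := by
        rintro _ ⟨a, ha, rfl⟩
        exact ⟨φ a, I.φK a ha, (hΘ a).symm⟩
      θX := by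
        rintro _ ⟨a, rfl⟩
        exact ⟨φ a, (hΘ a).symm⟩
      θZ := by
        rintro _ ⟨a, ha, rfl⟩
        exact ⟨φ a, I.φZ a ha, (hΘ a).symm⟩
      θg := hΘg
      nmem := ⟨n, rfl⟩
      θz := by
        obtain ⟨ζ, hζ, hφ⟩ := I.φz
        exact ⟨ι ζ, ⟨ζ, hζ, rfl⟩, by rw [hΘ, hφ, map_mul, map_pow]⟩
      actΘ := by
        rintro _ ⟨a, ha, rfl⟩
        rw [hΘ, ht, ht]
        exact I.actΘ a ha
      θP := I.θP
      θQ := I.θQ
      m0 := I.m0
      ne1 := I.ne1
      ne2 := I.ne2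
      ne3 := I.ne3
      ne4 := I.ne4 }

end Transv

end CfsgLib.Fusion.RankThree
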