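import Cfsg.Agent.Lib.Fusion.RankThree.TransvSetup
import Cfsg.Agent.Lib.Fusion.RankThree.TransvGlue

/-!
# A transvection on the Frattini quotient is incompatible with a larger normaliser
-/

set_option autoImplicit false
set_option linter.unusedSectionVars false
set_option linter.style.haveILetI false

namespace CfsgLib.Fusion.RankThree

open Cfsg Cfsg.FusionSystem CfsgLib.Fusion

universe u

variable {p : ℕ} [hp : Fact p.Prime] {Ω : Type u} [Group Ω] {S : Subgroup Ω} [Finite S]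
  {F : FusionSystem S} {E : Subgroup Ω} {V : Type u} [AddCommGroup V] [Module (ZMod p) V]
  {s : SecMap p (E0 S E) (step p (E0 S E) (E0 S E)) V}
  {ρ : F.autGroup E →* Module.End (ZMod p) V} {R : Sylow p (F.autGroup E)}
  {H : Subgroup (F.autGroup E)} {x : normalizerIn S E} {γx : F.autGroup E}
  {hle : E ≤ normalizerIn S E} (B : Base hle s ρ R H x γx)

include B

/-- Modulo the subgroup every element is a power of the chosen one. -/
theorem Base.exists_pow (y : normalizerIn S E) : ∃ i : ℕ, y * (x ^ i)⁻¹ ∈ E0 S E := by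
  haveI := B.normal
  haveI := B.finiteX
  have hcard : Nat.card (normalizerIn S E ⧸ E0 S E) = p := B.index
  have hx : (QuotientGroup.mk' (E0 S E)) x ≠ 1 := fun h =>
    B.notMem ((QuotientGroup.eq_one_iff x).1 h)
  obtain ⟨i, hi⟩ :=
    mem_powers_of_prime_card hcard hx (g' := QuotientGroup.mk' (E0 S E) y)
  refine ⟨i, (QuotientGroup.eq_one_iff _).1 ?_⟩
  show QuotientGroup.mk' (E0 S E) (y * (x ^ i)⁻¹) = 1
  rw [map_mul, map_inv, map_pow]
  exact mul_inv_eq_one.2 hi.symm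

set_option maxHeartbeats 800000 in
/-- The twist of the moving automorphism is an inner automorphism of the normaliser. -/
theorem Base.exists_conj_of_twist {ψ : MulAut (normalizerIn S E)}
    (hψ : ψ ∈ F.autGroup (normalizerIn S E)) {W : Type u} [AddCommGroup W] [Module (ZMod p) W]
    {Zs : Subgroup (normalizerIn S E)} (hZs : Zs = s.pre (LinearMap.ker (ρ γx - 1)))
    (sZ : SecMap p Zs (step p (E0 S E) (E0 S E)) W) (uP : W)
    (htwist : ∀ a ∈ E0 S E, ψ a ∈ E0 S E)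
    (htV : ∀ a ∈ E0 S E, ρ γx (s.π (ψ a) - s.π a) = s.π (ψ a) - s.π a)
    (htU : ∀ a ∈ Zs, ∃ γ : ZMod p,
      ∀ a' ∈ Zs,
        sZ.π a' = uP → sZ.π (ψ a) = sZ.π a + γ • sZ.π a')
    (htP : ∀ a ∈ Zs, sZ.π a = uP → sZ.π (ψ a) = uP) :
    ∃ n, ∀ a, ψ a = n * a * n⁻¹ := by
  haveI := B.normal
  haveI := B.finiteX
  haveI := finite_mulAut (P := E) B.ess.1.1
  haveI := s.finite
  obtain ⟨γ, hγ⟩ := exists_restrict hle normalizerIn_le hψ htwist
  have hργ : ∀ a ∈ E0 S E, ρ γ (s.π a) = s.π (ψ a) := fun a ha => by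
    rw [B.hρ γ a ha, hγ a ha]
  have hmem : ∀ a, a ∈ Zs ↔ a ∈ E0 S E ∧ ρ γx (s.π a) = s.π a := fun a => by
    rw [hZs, s.mem_pre, LinearMap.mem_ker, LinearMap.sub_apply, Module.End.one_apply, sub_eq_zero]
  have hψZ : ∀ a ∈ Zs, ψ a ∈ Zs := fun a ha => by
    obtain ⟨ha1, ha2⟩ := (hmem a).1 ha
    refine (hmem _).2 ⟨htwist a ha1, ?_⟩
    have h1 := htV a ha1
    rwa [map_sub, ha2, sub_left_inj] at h1
  have hback : ∀ a ∈ Zs, ∀ b ∈ Zs, sZ.π a = sZ.π b → s.π a = s.π b := fun a ha b hb h =>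
    (s.eq_iff ((hmem a).1 ha).1 ((hmem b).1 hb).1).2 ((sZ.eq_iff ha hb).1 h)
  obtain ⟨a0, ha0, ha0P⟩ := sZ.surj uP
  have hfix : ρ γ (s.π a0) = s.π a0 := by
    rw [hργ a0 ((hmem a0).1 ha0).1]
    exact hback _ (hψZ a0 ha0) _ ha0 (by rw [htP a0 ha0 ha0P, ha0P])
  have hker : ∀ a ∈ Zs, ∃ γ' : ZMod p, ρ γ (s.π a) = s.π a + γ' • s.π a0 := by
    intro a ha
    obtain ⟨γ', hγ'⟩ := htU a ha
    refine ⟨γ', ?_⟩
    have hae := ((hmem a).1 ha).1
    have ha0e := ((hmem a0).1 ha0).1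
    rw [hργ a hae, ← ZMod.natCast_zmod_val γ', ← s.map_pow_cast ha0e,
      ← s.map_mul _ hae _ ((E0 S E).pow_mem ha0e _)]
    refine hback _ (hψZ a ha) _ (Zs.mul_mem ha (Zs.pow_mem ha0 _)) ?_
    rw [sZ.map_mul _ ha _ (Zs.pow_mem ha0 _), sZ.map_pow_cast ha0, ZMod.natCast_zmod_val]
    exact hγ' a0 ha0 ha0P
  have hcube : (ρ γ - 1) ^ 3 = 0 := by
    refine LinearMap.ext fun v => ?_
    obtain ⟨a, ha, rfl⟩ := s.surj v
    obtain ⟨b, hb, hbv⟩ := s.surj ((ρ γ - 1) (s.π a))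
    have hbZ : b ∈ Zs := by
      refine (hmem b).2 ⟨hb, ?_⟩
      rw [hbv, LinearMap.sub_apply, Module.End.one_apply, hργ a ha]
      exact htV a ha
    obtain ⟨γ', hγ'⟩ := hker b hbZ
    rw [pow_succ, pow_succ, pow_one, Module.End.mul_apply, Module.End.mul_apply, ← hbv,
      LinearMap.sub_apply (ρ γ) 1 (s.π b), Module.End.one_apply, hγ', add_sub_cancel_left,
      map_smul, LinearMap.sub_apply, Module.End.one_apply, hfix, sub_self, smul_zero,
      LinearMap.zero_apply]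
  have hpp : ρ γ ^ p = 1 := pow_p_of_cube (by have := B.p5; omega) _ hcube
  obtain ⟨i, hi⟩ := B.exists_pow (ψ x)
  have hnorm : ρ (γ * γx * γ⁻¹) = ρ γx ^ i := by
    have h1 : ρ γ * ρ γx = ρ γx ^ i * ρ γ := by
      refine LinearMap.ext fun v => ?_
      obtain ⟨a, ha, rfl⟩ := s.surj v
      have hxa := B.normal.conj_mem a ha x
      have hψa := htwist a ha
      have hc := B.normal.conj_mem _ hψa (x ^ i)
      have hval : ρ γx ^ i = ρ (γx ^ i) := (map_pow ρ γx i).symm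
      rw [Module.End.mul_apply, Module.End.mul_apply, B.act a ha, hργ _ hxa, hργ a ha, hval,
        B.hρ _ _ hψa, B.lift_pow i _ hψa, map_mul, map_mul, map_inv,
        show ψ x * ψ a * (ψ x)⁻¹ =
          ψ x * (x ^ i)⁻¹ * (x ^ i * ψ a * (x ^ i)⁻¹) * (ψ x * (x ^ i)⁻¹)⁻¹ by group,
        s.conj_eq hc hi]
    rw [map_mul, map_mul, h1, mul_assoc, ← map_mul, mul_inv_cancel, map_one, mul_one]
  obtain ⟨n, hn⟩ := B.setup.mem_image_of_normalize B.mem_R B.ne_one (ψ := γ) (k := 1)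
    (by rw [pow_one]; exact hpp) ⟨i, hnorm⟩
  obtain ⟨y, hy⟩ := B.exists_conj hn
  exact exists_conj_of_agree B.pS B.sat B.ess hψ (y := y) fun a ha => by rw [hγ a ha, hy a ha]

set_option maxHeartbeats 800000 in
/-- A transvection excludes an element normalising the normaliser from outside. -/
theorem Base.false_of_transvection (h2 : ∀ r, (ρ γx - 1) ((ρ γx - 1) r) = 0) {g : Ω} (hgS : g ∈ S)
    (hgn : g ∈ Subgroup.normalizer (normalizerIn S E : Set Ω)) (hg : g ∉ normalizerIn S E)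
    (hgp : g ^ p ∈ normalizerIn S E) : False := by
  haveI := B.normal
  haveI := B.finiteX
  set N := normalizerIn S E with hN
  have hNS : N ≤ S := normalizerIn_le
  haveI : Finite E := finite_of_le B.ess.1.1
  obtain ⟨gX, hgX, hgXe⟩ := exists_autInducedBy (P := N) (K := S) hgS hgn
  have hgv : ∀ a : N, (gX a : Ω) = g * a * g⁻¹ := fun a => by
    rw [← autFun_coe, hgXe _ a.2, cj_apply]
  have hgpow : ∀ (k : ℕ) (a : N), ((gX ^ k) a : Ω) = g ^ k * a * (g ^ k)⁻¹ := by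
    intro k
    induction k with
    | zero => simp
    | succ k ih =>
      intro a
      rw [pow_succ', MulAut.mul_apply, hgv, ih, pow_succ']
      group
  have hgord : ∃ k, gX ^ p ^ k = 1 := by
    obtain ⟨k, hk⟩ := isPGroup_autInducedBy B.pS ⟨gX, hgX⟩
    exact ⟨k, congrArg Subtype.val hk⟩
  have hgE : (E0 S E).map gX.toMonoidHom ≠ E0 S E := by
    intro h
    refine hg (mem_normalizerIn.2 ⟨hgS, Subgroup.mem_normalizer_iff_map_conj_eq.2
      (Subgroup.eq_of_le_of_card_ge ?_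
        (Subgroup.card_map_of_injective (MulAut.conj g).injective).ge)⟩)
    rintro _ ⟨a, ha, rfl⟩
    have h1 : gX ⟨a, hle ha⟩ ∈ E0 S E := h ▸ ⟨⟨a, hle ha⟩, ha, rfl⟩
    rw [Subgroup.mem_subgroupOf, hgv] at h1
    exact h1
  have hgF := autInducedBy_le F hNS hgX
  obtain ⟨θ, h, c, l, vw, vP, vQ, hθ, C, hl5⟩ := B.exists_torus_ctx h2
  obtain ⟨φ, hφ, W, _, _, sZ, z, w, Tg, TΘ, k, m, c', e, b, χP, χQ, uP, uQ, I⟩ :=
    Transv.exists_inner C hl5 (F.autGroup N) hθ hgF hgord hgE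
  -- the twist
  set ψ := φ * gX * φ⁻¹ * (gX ^ k)⁻¹ with hψdef
  have hψ : ψ ∈ F.autGroup N :=
    mul_mem (mul_mem (mul_mem hφ hgF) (inv_mem hφ)) (inv_mem (pow_mem hgF k))
  obtain ⟨n, hn⟩ := B.exists_conj_of_twist hψ rfl sZ uP I.twist
    (fun a ha => I.twistV a ha _ rfl) I.twistU I.twistP
  have htwist : ∀ a : N, φ (gX a) = n * (gX ^ k) (φ a) * n⁻¹ := fun a => by
    rw [← hn, hψdef]
    simp [MulAut.mul_apply]
  -- the moving element in the extender
  have hf := isMor_autFun hNS hφ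
  have hfi := img_autFun φ
  set nk : Ω := (n : Ω) * g ^ k with hnk
  have hnkS : nk ∈ S := S.mul_mem (hNS n.2) (S.pow_mem hgS k)
  have hfg : ∀ a ∈ N, autFun φ (cj g a) = cj nk (autFun φ a) := by
    intro a ha
    have h1 := congrArg Subtype.val (htwist ⟨a, ha⟩)
    rw [Subgroup.coe_mul, Subgroup.coe_mul, Subgroup.coe_inv, hgpow] at h1
    rw [cj_apply, cj_apply, autFun_of_mem φ ((Subgroup.mem_normalizer_iff.1 hgn a).1 ha),
      autFun_of_mem φ ha, show (⟨g * a * g⁻¹, _⟩ : N) = gX ⟨a, ha⟩ from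
        Subtype.ext (hgv ⟨a, ha⟩).symm, h1, hnk]
    group
  have hcN := centric_mono B.ess.1 hle hNS
  obtain ⟨Θ', hΘ', hΘφ⟩ :=
    (isReceptive_iff.1 (centric_receptive B.pS B.sat hcN)).2 N (autFun φ) hf hfi
  have hNY : N ≤ N ⊔ Subgroup.zpowers g := le_sup_left
  set Y := N ⊔ Subgroup.zpowers g with hYdef
  have hgY : g ∈ Y := Subgroup.mem_sup_right (Subgroup.mem_zpowers g)
  have hYS : Y ≤ S := sup_le hNS (Subgroup.zpowers_le.2 hgS)
  have hYn : Y ≤ nExt S N (autFun φ) :=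
    sup_le (le_nExt hf) (Subgroup.zpowers_le.2 ⟨hgS, hgn, nk, hnkS, hfg⟩)
  have hΘY : IsMor F Y Θ' := hΘ'.restrict hYn
  -- the image of the moving element
  set cc := nk⁻¹ * Θ' g with hcc
  have hccN : cc ∈ N := by
    refine centric_centralizer_le hcN
      (mem_centralizerIn.2 ⟨S.mul_mem (S.inv_mem hnkS) (hΘY.mem hgY), fun b hb => ?_⟩)
    obtain ⟨a, ha, rfl⟩ := hf.mem_img.1 (hfi.ge hb)
    have h1 : Θ' (cj g a) = cj (Θ' g) (Θ' a) := hΘY.map_conj hgY (hNY ha)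
    have ha' : cj g a ∈ N := (Subgroup.mem_normalizer_iff.1 hgn a).1 ha
    rw [hΘφ a ha, hΘφ _ ha', hfg a ha] at h1
    rw [hcc, cj_mul, ← h1, cj_inv_cj]
  have hgk : g ^ k * cc * (g ^ k)⁻¹ ∈ N :=
    (Subgroup.mem_normalizer_iff.1 (Subgroup.pow_mem _ hgn k) cc).1 hccN
  set n' : N := n * ⟨_, hgk⟩ with hn'
  have hΘg : Θ' g = (n' : Ω) * g ^ k := by
    rw [hn', Subgroup.coe_mul, show (n : Ω) * (g ^ k * cc * (g ^ k)⁻¹) * g ^ k = nk * cc by
      rw [hnk]; group, hcc, mul_inv_cancel_left]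
  -- the automorphism of the larger group
  have himg : img Y Θ' = Y := by
    refine hΘY.img_eq_self fun y hy => ?_
    have h1 : img Y Θ' ≤ Y := by
      rw [hYdef, hΘY.img_sup, sup_le_iff]
      refine ⟨img_le fun a ha => ?_, img_le fun a ha => ?_⟩
      · rw [hΘφ a ha]
        exact hNY (autFun_mem φ ha)
      · obtain ⟨j, rfl⟩ := Subgroup.mem_zpowers_iff.1 ha
        rw [hΘY.map_zpow hgY, hΘg]
        exact Y.zpow_mem (Y.mul_mem (hNY n'.2) (Y.pow_mem hgY k)) j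
    exact h1 (mem_img_of_mem Θ' hy)
  obtain ⟨Θ, -, hΘe⟩ := exists_aut hΘY himg
  have hΘv : ∀ y : Y, (Θ y : Ω) = Θ' y := fun y => by rw [← autFun_coe, hΘe _ y.2]
  haveI : Finite Y := finite_of_le hYS
  have hp2 : p ≠ 2 := by have := B.p5; omega
  refine Transv.false_of_inner hp2 I (Y := Y) ?_ (Subgroup.inclusion hNY)
    (Subgroup.inclusion_injective hNY) ⟨g, hgY⟩ ?_ ?_ ?_ ?_ Θ ?_ n' ?_
  · exact sectionalPRankLE_inj (Subgroup.inclusion hYS) (Subgroup.inclusion_injective hYS) B.rankS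
  · refine Subgroup.map_injective Y.subtype_injective ?_
    rw [Subgroup.map_sup, Subgroup.inclusion_range, MonoidHom.map_zpowers,
      Subgroup.map_subgroupOf_eq_of_le hNY, ← MonoidHom.range_eq_map, Subgroup.range_subtype]
    rfl
  · rw [Subgroup.inclusion_range]
    exact hg
  · rw [Subgroup.inclusion_range]
    exact hgp
  · exact fun a => Subtype.ext (hgv a).symm
  · refine fun a => Subtype.ext ?_
    rw [hΘv]
    exact (hΘφ _ a.2).trans (autFun_coe φ a)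
  · refine Subtype.ext ?_
    rw [hΘv]
    exact hΘg

end CfsgLib.Fusion.RankThree
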