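import Cfsg.Agent.Lib.Fusion.RankThree.TwoGenGroup
import Cfsg.Agent.Lib.Fusion.RankThree.JordanFamily
import Cfsg.Agent.Lib.Fusion.RankThree.TransvFamily

/-!
# Essential subgroups with at most two generators in sectional rank three
-/

set_option autoImplicit false
set_option linter.unusedSectionVars false
set_option linter.style.haveILetI false

namespace CfsgLib.Fusion.RankThree

open Cfsg Cfsg.FusionSystem CfsgLib.Fusion
open scoped commutatorElement

universe u

variable {p : ℕ} [hp : Fact p.Prime] {Ω : Type u} [Group Ω] {S : Subgroup Ω} [Finite S]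
  {F : FusionSystem S} {E : Subgroup Ω}

/-- The centre of a subgroup, in the ambient group. -/
def centerOf (E : Subgroup Ω) : Subgroup Ω := (Subgroup.center ↥E).map E.subtype

theorem mem_centerOf {z : Ω} : z ∈ centerOf E ↔ z ∈ E ∧ ∀ e ∈ E, e * z = z * e := by
  refine ⟨?_, fun h => ⟨⟨z, h.1⟩, Subgroup.mem_center_iff.2 fun e => Subtype.ext (h.2 e e.2), rfl⟩⟩
  rintro ⟨c, hc, rfl⟩
  exact ⟨c.2, fun e he => congrArg Subtype.val (Subgroup.mem_center_iff.1 hc ⟨e, he⟩)⟩

theorem centerOf_le (E : Subgroup Ω) : centerOf E ≤ E := Subgroup.map_subtype_le _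

theorem card_centerOf : Nat.card (centerOf E) = Nat.card (Subgroup.center ↥E) :=
  Subgroup.card_map_of_injective E.subtype_injective

theorem card_centerOf_map {X : Type*} [Group X] (f : X →* Ω) (hf : Function.Injective f)
    (K : Subgroup X) : Nat.card (centerOf (K.map f)) = Nat.card (Subgroup.center ↥K) := by
  rw [card_centerOf]
  exact (Nat.card_congr (Subgroup.centerCongr (K.equivMapOfInjective f hf)).toEquiv).symm

theorem phi_le_iff {P W : Subgroup Ω} [Finite P] (hP : IsPGroup p P)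
    (hc : ∀ a ∈ P, ∀ b ∈ P, ⁅a, b⁆ ∈ W) (hpw : ∀ a ∈ P, a ^ p ∈ W) : phi P ≤ W := by
  have h : step p (⊤ : Subgroup P) ⊤ ≤ W.comap P.subtype := by
    refine step_le (fun a _ b _ => ?_) fun a _ => hpw a a.2
    rw [Subgroup.mem_comap, map_commutatorElement]
    exact hc a a.2 b b.2
  rw [phi, frattini_eq_step hP]
  exact Subgroup.map_le_iff_le_comap.2 h

theorem pow_mem_phi {P : Subgroup Ω} [Finite P] (hP : IsPGroup p P) {a : Ω} (ha : a ∈ P) :
    a ^ p ∈ phi P :=
  ⟨(⟨a, ha⟩ : P) ^ p, CfsgLib.PGroups.pow_mem_frattini hP _, rfl⟩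

/-- A subgroup of index `p` contains the Frattini subgroup. -/
theorem phi_le_of_card {N M : Subgroup Ω} [Finite N] (hN : IsPGroup p N) (hM : M ≤ N)
    (hcard : Nat.card M * p = Nat.card N) : phi N ≤ M := by
  have hi : (M.subgroupOf N).index = p := by
    have h := (M.subgroupOf N).card_mul_index
    rw [Nat.card_congr (Subgroup.subgroupOfEquivOfLe hM).toEquiv, ← hcard] at h
    haveI : Finite M := finite_of_le hM
    exact Nat.eq_of_mul_eq_mul_left Nat.card_pos h
  have hco : IsCoatom (M.subgroupOf N) := by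
    refine ⟨fun h => hp.1.ne_one (by rw [← hi, h, Subgroup.index_top]), fun K hK => ?_⟩
    rcases (Nat.dvd_prime hp.1).1 (hi ▸ Subgroup.index_dvd_of_le hK.le) with h | h
    · exact Subgroup.index_eq_one.1 h
    · refine absurd ?_ hK.ne
      have h1 : (M.subgroupOf N).relIndex K * K.index = (M.subgroupOf N).index :=
        Subgroup.relIndex_mul_index hK.le
      rw [h, hi] at h1
      exact le_antisymm hK.le (Subgroup.relIndex_eq_one.1
        (Nat.eq_of_mul_eq_mul_right hp.1.pos (h1.trans (one_mul p).symm)))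
  rintro _ ⟨a, ha, rfl⟩
  exact (frattini_le_coatom hco) ha

set_option maxHeartbeats 1000000 in
/-- The action of the automorphisms of an essential subgroup on its Frattini quotient. -/
theorem exists_space_top (hS : IsPGroup p S) (hE : F.IsEssential p E) :
    ∃ (V : Type u) (_ : AddCommGroup V) (_ : Module (ZMod p) V)
      (s : SecMap p (⊤ : Subgroup E) (step p ⊤ ⊤) V)
      (ρ : F.autGroup E →* Module.End (ZMod p) V),
      (∀ γ : F.autGroup E, ∀ a : E, ρ γ (s.π a) = s.π ((γ : MulAut E) a)) ∧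
      (∀ γ : F.autGroup E, ρ γ = 1 → (γ : MulAut E) ∈ Inn E) ∧
      (∀ M : Subgroup (F.autGroup E), M.Normal → (∀ γ ∈ M, ∃ k, ρ γ ^ p ^ k = 1) →
        ∀ γ ∈ M, ρ γ = 1) ∧
      Nat.card V = (frattini ↥E).index := by
  have hES := hE.1.1
  haveI : Finite E := finite_of_le hES
  haveI := finite_mulAut (P := E) hES
  have hEp : IsPGroup p E := isPGroup_of_le hES hS
  haveI hKn : (step p (⊤ : Subgroup E) ⊤).Normal := step_normal
  obtain ⟨V, _, _, ⟨s⟩⟩ := exists_secMap (p := p) (A := (⊤ : Subgroup E)) (B := step p ⊤ ⊤) le_top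
    (fun a _ b hb => hKn.conj_mem b hb a) (fun a ha b hb => comm_mem_step ha hb)
    fun a ha => pow_mem_step ha
  have hex : ∀ γ : F.autGroup E, ∃ T : Module.End (ZMod p) V,
      ∀ a ∈ (⊤ : Subgroup E), T (s.π a) = s.π ((γ : MulAut E) a) := fun γ =>
    s.exists_linear s (fun a => (γ : MulAut E) a) (fun a _ => Subgroup.mem_top _)
      (fun b hb => by
        have h := step_map (p := p) (A := (⊤ : Subgroup E)) (B := ⊤) (γ : MulAut E)
        rw [Subgroup.map_top_of_surjective _ (γ : MulAut E).surjective] at h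
        rw [← h]
        exact ⟨b, hb, rfl⟩)
      fun a _ b _ => map_mul _ a b
  choose T hT using hex
  let ρ : F.autGroup E →* Module.End (ZMod p) V :=
    { toFun := T
      map_one' := LinearMap.ext fun v => by
        obtain ⟨a, ha, rfl⟩ := s.surj v
        rw [hT 1 a ha]
        rfl
      map_mul' := fun γ γ' => LinearMap.ext fun v => by
        obtain ⟨a, ha, rfl⟩ := s.surj v
        rw [Module.End.mul_apply, hT γ' a ha, hT γ _ (Subgroup.mem_top _), hT (γ * γ') a ha]
        rfl }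
  have hρ : ∀ γ : F.autGroup E, ∀ a : E, ρ γ (s.π a) = s.π ((γ : MulAut E) a) := fun γ a =>
    hT γ a (Subgroup.mem_top a)
  have hinnker : ∀ γ : F.autGroup E, (γ : MulAut E) ∈ Inn E → ρ γ = 1 := by
    intro γ hγ
    obtain ⟨e, he, hee⟩ := mem_inn.1 hγ
    refine LinearMap.ext fun v => ?_
    obtain ⟨a, ha, rfl⟩ := s.surj v
    rw [hρ γ a, Module.End.one_apply,
      show (γ : MulAut E) a = (⟨e, he⟩ : E) * a * (⟨e, he⟩ : E)⁻¹ from
        Subtype.ext (by rw [← autFun_coe (γ : MulAut E) a, hee (a : Ω) a.2]; rfl),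
      s.conj_eq ha (Subgroup.mem_top _)]
  haveI := s.finite
  have hkerp : IsPGroup p ρ.ker := by
    refine IsPGroup.of_card (n := (Nat.card ρ.ker).primeFactorsList.length)
      (Nat.eq_prime_pow_of_unique_prime_dvd (p := p) Nat.card_pos.ne' fun {r} hr hrd => ?_)
    by_contra hrp
    haveI := Fact.mk hr
    obtain ⟨γ, hγ⟩ := exists_prime_orderOf_dvd_card' r hrd
    have h1 : (((γ : F.autGroup E) : MulAut E)) = 1 := by
      refine MetacyclicAbelian.eq_one_of_trivial_mod hEp (r := r) hrp ?_ fun a => ?_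
      · have h2 := congrArg (fun z : ρ.ker => ((z : F.autGroup E) : MulAut E))
          (pow_orderOf_eq_one γ)
        rw [hγ] at h2
        simpa using h2
      · have h2 := hρ γ a
        rw [γ.2, Module.End.one_apply] at h2
        rw [frattini_eq_step hEp]
        exact (s.eq_iff (Subgroup.mem_top a) (Subgroup.mem_top _)).1 h2
    have h3 : γ = 1 := Subtype.ext (Subtype.ext h1)
    rw [h3, orderOf_one] at hγ
    exact hr.one_lt.ne hγ
  have hrad := essential_radical hS hE
  have hker : ∀ γ : F.autGroup E, ρ γ = 1 → (γ : MulAut E) ∈ Inn E := by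
    intro γ hγ
    refine le_inn_of_radical hrad (K := ρ.ker.map (F.autGroup E).subtype)
      (Subgroup.map_subtype_le _) (hkerp.map _) ?_ ⟨γ, hγ, rfl⟩
    rintro a ha _ ⟨k, hk, rfl⟩
    exact ⟨⟨a, ha⟩ * k * (⟨a, ha⟩ : F.autGroup E)⁻¹,
      (inferInstance : ρ.ker.Normal).conj_mem k hk _, rfl⟩
  refine ⟨V, inferInstance, inferInstance, s, ρ, hρ, hker, fun M hM hMp γ hγ => ?_, ?_⟩
  · refine hinnker γ (le_inn_of_radical hrad (K := M.map (F.autGroup E).subtype)
      (Subgroup.map_subtype_le _) ?_ ?_ ⟨γ, hγ, rfl⟩)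
    · refine IsPGroup.map (fun ⟨m, hm⟩ => ?_) _
      obtain ⟨k, hk⟩ := hMp m hm
      rw [← map_pow] at hk
      obtain ⟨j, hj⟩ := hkerp ⟨m ^ p ^ k, hk⟩
      refine ⟨k + j, Subtype.ext ?_⟩
      have h1 := congrArg (fun z : ρ.ker => (z : F.autGroup E)) hj
      simp only [SubmonoidClass.coe_pow, OneMemClass.coe_one] at h1 ⊢
      rwa [pow_add, pow_mul]
    · rintro a ha _ ⟨k, hk, rfl⟩
      exact ⟨⟨a, ha⟩ * k * (⟨a, ha⟩ : F.autGroup E)⁻¹, hM.conj_mem k hk _, rfl⟩
  · have h1 := s.card_mul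
    rw [← frattini_eq_step hEp, Subgroup.card_top, ← (frattini ↥E).index_mul_card] at h1
    exact Nat.eq_of_mul_eq_mul_right Nat.card_pos h1

/-- An essential subgroup of order `p ^ 5` with two generators. -/
structure BigFacts (S : Subgroup Ω) (p : ℕ) (E : Subgroup Ω) : Prop where
  le : E ≤ S
  card : Nat.card E = p ^ 5
  cardPhi : Nat.card (phi E) = p ^ 3
  cardZ : Nat.card (centerOf E) = p ^ 2
  cardN : Nat.card (normalizerIn S E) = p ^ 6
  center_le : centerOf E ≤ phi E
  cz : ∀ y ∈ normalizerIn S E, (∀ z ∈ centerOf E, y * z = z * y) → y ∈ E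
  cD : ∀ a ∈ E, ∀ d ∈ E, d ∉ phi E → (∀ k ∈ phi E, a * k = k * a) → a * d = d * a →
    a ∈ centerOf E
  moved : ∃ g ∈ normalizerIn S E, ∃ w ∈ E, ⁅g, w⁆ ∉ phi E

set_option maxHeartbeats 1000000 in
/-- An essential subgroup with at most two generators. -/
theorem small_or_big (hp5 : 5 ≤ p) (hS : IsPGroup p S) (hrank : Cfsg.SectionalPRankLE p 3 S)
    (hF : F.IsSaturated p) (hE : F.IsEssential p E) {k : ℕ} (hidx : (frattini ↥E).index = p ^ k)
    (hk : k ≤ 2) :
    ((Cfsg.IsElementaryAbelian p E ∧ Nat.card E = p ^ 2) ∨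
      (Cfsg.IsExtraspecial p ↥E ∧ Nat.card E = p ^ 3 ∧ ∀ x ∈ E, x ^ p = 1)) ∨
    BigFacts S p E := by
  classical
  have hES := hE.1.1
  set N := normalizerIn S E with hNdef
  have hEN : E ≤ N := le_normalizerIn hES
  haveI : Finite E := finite_of_le hES
  haveI : Finite N := finite_of_le normalizerIn_le
  haveI := finite_mulAut (P := E) hES
  have hEp : IsPGroup p E := isPGroup_of_le hES hS
  obtain ⟨V, _, _, s, ρ, hρ, hker, hrad, hcardV⟩ := exists_space_top hS hE
  haveI := s.finite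
  have hfin : Module.finrank (ZMod p) V = k := by
    rw [hidx, Module.natCard_eq_pow_finrank (K := ZMod p), Nat.card_zmod] at hcardV
    exact Nat.pow_right_injective hp.1.two_le hcardV
  obtain ⟨g, hg, hgE⟩ := SetLike.exists_of_lt (lt_inf_normalizer hS (essential_lt hS hF hE))
  have hgN : g ∈ N := mem_normalizerIn.2 ⟨hg.1, hg.2⟩
  obtain ⟨Ψ, hΨ, hΨe⟩ := exists_conjHom F hES
  have hinner : ∀ y : N, ρ (Ψ y) = 1 → (y : Ω) ∈ E := by
    intro y hy
    obtain ⟨e, he, hee⟩ := mem_inn.1 (hker _ hy)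
    have h1 : e⁻¹ * (y : Ω) ∈ E := centric_centralizer_le hE.1 (mem_centralizerIn.2
      ⟨S.mul_mem (S.inv_mem (hES he)) (normalizerIn_le y.2), fun a ha => by
        rw [cj_mul, ← hΨe y a ha, hee a ha, cj_inv_cj]⟩)
    have h2 := E.mul_mem he h1
    rwa [mul_inv_cancel_left] at h2
  set φ := Ψ ⟨g, hgN⟩ with hφ
  have hTne : ρ φ ≠ 1 := fun h => hgE (hinner _ h)
  have hunip : ∀ y : N, ∃ j, ρ (Ψ y) ^ p ^ j = 1 := fun y => by
    obtain ⟨j, hj⟩ := isPGroup_of_le normalizerIn_le hS y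
    exact ⟨j, by rw [← map_pow, ← map_pow, hj, map_one, map_one]⟩
  haveI : Nontrivial V := by
    by_contra h
    haveI := not_nontrivial_iff_subsingleton.1 h
    exact hTne (LinearMap.ext fun v => Subsingleton.elim _ _)
  have hsq : ∀ y : N, ∀ r, (ρ (Ψ y) - 1) ((ρ (Ψ y) - 1) r) = 0 := by
    intro y
    obtain ⟨j, hj⟩ := hunip y
    haveI : CharP (Module.End (ZMod p) V) p := charP_of_injective_algebraMap
      (algebraMap (ZMod p) (Module.End (ZMod p) V)).injective p
    have hn : IsNilpotent (ρ (Ψ y) - 1) := ⟨p ^ j, by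
      rw [sub_pow_char_pow_of_commute p j (Commute.one_right _), hj, one_pow, sub_self]⟩
    have h1 := LinearMap.aeval_self_charpoly (ρ (Ψ y) - 1)
    rw [hn.charpoly_eq_X_pow_finrank, map_pow, Polynomial.aeval_X, hfin] at h1
    have h2 := pow_eq_zero_of_le hk h1
    intro r
    exact LinearMap.congr_fun (show (ρ (Ψ y) - 1) * (ρ (Ψ y) - 1) = 0 by rw [← pow_two]; exact h2) r
  set δ := ρ φ - 1 with hδ
  have hδsq : ∀ r, δ (δ r) = 0 := hsq ⟨g, hgN⟩
  obtain ⟨v2, hv2⟩ : ∃ v2, δ v2 ≠ 0 := by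
    by_contra! h
    exact hTne (sub_eq_zero.1 (LinearMap.ext h))
  have hdim : Module.finrank (ZMod p) V = 2 := by
    have hli : LinearIndependent (ZMod p) ![v2, δ v2] := by
      rw [linearIndependent_fin2]
      refine ⟨hv2, fun a ha => ?_⟩
      have h1 := congrArg δ ha
      simp only [Matrix.cons_val_zero, Matrix.cons_val_one, map_smul, hδsq, smul_zero] at h1
      exact hv2 h1.symm
    have h := hli.fintype_card_le_finrank
    rw [Fintype.card_fin] at h
    omega
  -- the common fixed vector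
  obtain ⟨f, hf0, hf⟩ := exists_fixed ρ (G := Ψ.range) (by
    refine IsPGroup.map ?_ _
    rintro ⟨_, y, rfl⟩
    obtain ⟨j, hj⟩ := isPGroup_of_le normalizerIn_le hS y
    exact ⟨j, Subtype.ext (by rw [SubmonoidClass.coe_pow, ← map_pow, hj, map_one]; rfl)⟩)
  have hli : ∀ v1, δ v1 = 0 → v1 ≠ 0 → LinearIndependent (ZMod p) ![v2, v1] := fun v1 h1 h0 => by
    rw [linearIndependent_fin2]
    refine ⟨h0, fun a ha => hv2 ?_⟩
    simp only [Matrix.cons_val_zero, Matrix.cons_val_one] at ha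
    rw [← ha, map_smul, h1, smul_zero]
  have hdf : δ f = 0 := by
    rw [hδ, LinearMap.sub_apply, Module.End.one_apply, hf _ ⟨_, rfl⟩, sub_self]
  have hcoord : ∀ v, ∃ a b : ZMod p, v = a • v2 + b • f := fun v => by
    have hsp := (hli f hdf hf0).span_eq_top_of_card_eq_finrank (by rw [Fintype.card_fin, hdim])
    obtain ⟨c, hc⟩ := (Submodule.mem_span_range_iff_exists_fun _).1
      (hsp ▸ trivial : v ∈ Submodule.span (ZMod p) (Set.range ![v2, f]))
    exact ⟨c 0, c 1, by rw [← hc, Fin.sum_univ_two]; rfl⟩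
  obtain ⟨c0, hc0⟩ : ∃ c : ZMod p, δ v2 = c • f := by
    obtain ⟨a, b, hab⟩ := hcoord (δ v2)
    have h1 := congrArg δ hab
    rw [hδsq, map_add, map_smul, map_smul, hdf, smul_zero, add_zero, eq_comm, smul_eq_zero] at h1
    exact ⟨b, by rw [hab, h1.resolve_right hv2, zero_smul, zero_add]⟩
  have hc00 : c0 ≠ 0 := fun h => hv2 (by rw [hc0, h, zero_smul])
  have hpow : ∀ y : N, ∃ i : ℕ, ρ (Ψ y) = ρ φ ^ i := by
    intro y
    set ε := ρ (Ψ y) - 1 with hε
    have hεf : ε f = 0 := by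
      rw [hε, LinearMap.sub_apply, Module.End.one_apply, hf _ ⟨_, rfl⟩, sub_self]
    obtain ⟨a, b, hab⟩ := hcoord (ε v2)
    have ha : a = 0 := by
      have h1 := congrArg ε hab
      rw [hsq y, map_add, map_smul, map_smul, hεf, smul_zero, add_zero, eq_comm, smul_eq_zero] at h1
      rcases h1 with h1 | h1
      · exact h1
      · rw [h1] at hab
        exact ((LinearIndependent.pair_iff.1 (hli f hdf hf0)) a b hab.symm).1
    refine ⟨(b / c0).val, LinearMap.ext fun v => ?_⟩
    obtain ⟨i, j, rfl⟩ := hcoord v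
    rw [pow_apply_of_sq (ρ φ) hδsq, ZMod.natCast_zmod_val, ← hδ, map_add δ, map_smul δ, map_smul δ,
      hdf, hc0, smul_zero, add_zero,
      show ρ (Ψ y) = 1 + ε by rw [hε, add_sub_cancel], LinearMap.add_apply, Module.End.one_apply,
      map_add, map_smul, map_smul, hεf, hab, ha, zero_smul, zero_add, smul_zero, add_zero,
      smul_smul, smul_smul, smul_smul]
    congr 2
    field_simp
  have hTp : ρ φ ^ p = 1 := LinearMap.ext fun v => by
    rw [pow_apply_of_sq (ρ φ) hδsq, ZMod.natCast_self, zero_smul, add_zero, Module.End.one_apply]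
  have hgp : g ^ p ∈ E := hinner (⟨g, hgN⟩ ^ p) (by rw [map_pow, map_pow, ← hφ, hTp])
  have hφa : ∀ a : E, ∀ j : ℕ,
      ((((φ : MulAut E) ^ j) a : E) : Ω) = g ^ j * (a : Ω) * (g ^ j)⁻¹ := by
    intro a j
    induction j with
    | zero => simp
    | succ j ih =>
      rw [pow_succ', MulAut.mul_apply, ← autFun_coe, hΨe _ _ (Subtype.mem _), cj_apply, ih,
        pow_succ']
      simp [mul_assoc]
  have hφp : ∀ a : E, ((φ : MulAut E) ^ p) a = (⟨g ^ p, hgp⟩ : E) * a * (⟨g ^ p, hgp⟩ : E)⁻¹ :=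
    fun a => Subtype.ext (hφa a p)
  have hirr : ∀ M : Submodule (ZMod p) V, (∀ γ, ∀ v ∈ M, ρ γ v ∈ M) → M ≠ ⊥ → M = ⊤ := by
    intro M hM hne
    by_contra htop
    refine hTne (chain_trivial ρ (by omega) hrad (L := ⊥) (U := M) bot_le
      (fun γ u hu => by
        rw [Submodule.mem_bot] at hu ⊢
        rw [hu, map_zero])
      hM (γ := φ) ?_ ?_ fun l hl => by rw [(Submodule.mem_bot _).1 hl, map_zero])
    all_goals
      obtain ⟨m, hm, hm0⟩ := M.exists_mem_ne_zero_of_ne_bot hne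
      obtain ⟨a, b, hab⟩ := hcoord m
      have hδm : δ m ∈ M := M.sub_mem (hM φ m hm) hm
      have ha : a = 0 := by
        by_contra ha
        apply htop
        have h1 : f ∈ M := by
          have h2 : δ m = (a * c0) • f := by
            rw [hab, map_add, map_smul, map_smul, hdf, hc0, smul_zero, add_zero, smul_smul]
          have h3 := M.smul_mem (a * c0)⁻¹ hδm
          rwa [h2, smul_smul, inv_mul_cancel₀ (mul_ne_zero ha hc00), one_smul] at h3
        have h2 : v2 ∈ M := by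
          have h3 := M.smul_mem a⁻¹ (M.sub_mem hm (M.smul_mem b h1))
          rwa [hab, add_sub_cancel_right, smul_smul, inv_mul_cancel₀ ha, one_smul] at h3
        refine eq_top_iff.2 fun v _ => ?_
        obtain ⟨i, j, rfl⟩ := hcoord v
        exact M.add_mem (M.smul_mem i h2) (M.smul_mem j h1)
      have hb : b ≠ 0 := fun h => hm0 (by rw [hab, ha, h, zero_smul, zero_smul, add_zero])
      have hfM : f ∈ M := by
        have h3 := M.smul_mem b⁻¹ hm
        rwa [hab, ha, zero_smul, zero_add, smul_smul, inv_mul_cancel₀ hb, one_smul] at h3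
    · intro v
      obtain ⟨i, j, rfl⟩ := hcoord v
      show δ (i • v2 + j • f) ∈ M
      rw [map_add, map_smul, map_smul, hdf, hc0, smul_zero, add_zero]
      exact M.smul_mem _ (M.smul_mem _ hfM)
    · intro u hu
      obtain ⟨i, j, rfl⟩ := hcoord u
      have hi : i = 0 := by
        by_contra hi
        apply htop
        have h2 : v2 ∈ M := by
          have h3 := M.smul_mem i⁻¹ (M.sub_mem hu (M.smul_mem j hfM))
          rwa [add_sub_cancel_right, smul_smul, inv_mul_cancel₀ hi, one_smul] at h3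
        refine eq_top_iff.2 fun v _ => ?_
        obtain ⟨i', j', rfl⟩ := hcoord v
        exact M.add_mem (M.smul_mem i' h2) (M.smul_mem j' hfM)
      show δ (i • v2 + j • f) ∈ (⊥ : Submodule (ZMod p) V)
      rw [hi, zero_smul, zero_add, map_smul, hdf, smul_zero]
      exact Submodule.zero_mem _
  rcases two_gen_structure hp5 hEp
      (sectionalPRankLE_inj (Subgroup.inclusion hES) (Subgroup.inclusion_injective hES) hrank)
      (F.autGroup E) s ρ hρ hdim φ hδsq hTne hφp hirr with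
    ⟨hc, he, hcard⟩ | ⟨he, hcard, hexp⟩ | ⟨hcard, hZ, ⟨z, hz, hzne⟩, hZK, hcD⟩
  · exact Or.inl (Or.inl ⟨⟨⟨⟨hc⟩⟩, fun a ha => congrArg Subtype.val (he ⟨a, ha⟩)⟩, hcard⟩)
  · exact Or.inl (Or.inr ⟨he, hcard, fun a ha => congrArg Subtype.val (hexp ⟨a, ha⟩)⟩)
  right
  rw [← frattini_eq_step hEp] at hZK hcD
  have hdec : ∀ y : N, ∃ i : ℕ, (y : Ω) * (g ^ i)⁻¹ ∈ E := fun y => by
    obtain ⟨i, hi⟩ := hpow y
    refine ⟨i, hinner (y * (⟨g, hgN⟩ ^ i)⁻¹) ?_⟩
    rw [map_mul, map_inv, map_mul, hi, map_pow Ψ, ← hφ, ← map_pow ρ, ← map_mul, mul_inv_cancel,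
      map_one]
  refine
    { le := hES
      card := hcard
      cardPhi := ?_
      cardZ := by rw [card_centerOf, hZ]
      cardN := ?_
      center_le := Subgroup.map_mono hZK
      cz := ?_
      cD := ?_
      moved := ?_ }
  · have h1 := card_phi_mul (P := E)
    rw [hcard, ← hcardV, Module.natCard_eq_pow_finrank (K := ZMod p) (V := V), Nat.card_zmod, hdim,
      show p ^ 5 = p ^ 3 * p ^ 2 by ring] at h1
    exact Nat.eq_of_mul_eq_mul_right (pow_pos hp.1.pos 2) h1
  · haveI hn : (E.subgroupOf N).Normal := ⟨fun a ha y =>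
      (Subgroup.mem_normalizer_iff.1 (mem_normalizerIn.1 y.2).2 a).1 ha⟩
    have hindex : (E.subgroupOf N).index = p := by
      set q := QuotientGroup.mk' (E.subgroupOf N)
      have hord : orderOf (q ⟨g, hgN⟩) = p := by
        refine orderOf_eq_prime ?_ fun h => hgE ((QuotientGroup.eq_one_iff (⟨g, hgN⟩ : N)).1 h)
        rw [← map_pow]
        exact (QuotientGroup.eq_one_iff _).2 hgp
      have htop : Subgroup.zpowers (q ⟨g, hgN⟩) = ⊤ := by
        refine eq_top_iff.2 fun z _ => ?_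
        obtain ⟨y, rfl⟩ := QuotientGroup.mk'_surjective (E.subgroupOf N) z
        obtain ⟨i, hi⟩ := hdec y
        have h2 : q y = q ⟨g, hgN⟩ ^ i := by
          rw [← map_pow]
          refine mul_inv_eq_one.1 ?_
          rw [← map_inv, ← map_mul]
          exact (QuotientGroup.eq_one_iff _).2 hi
        rw [h2]
        exact Subgroup.npow_mem_zpowers _ _
      rw [← hord, ← Nat.card_zpowers, htop, Subgroup.card_top]
      rfl
    have h1 := (E.subgroupOf N).card_mul_index
    rw [hindex, Nat.card_congr (Subgroup.subgroupOfEquivOfLe hEN).toEquiv, hcard] at h1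
    rw [← h1]; ring
  · intro y hy hyc
    obtain ⟨i, hi⟩ := hdec ⟨y, hy⟩
    set e := y * (g ^ i)⁻¹
    by_cases hpi : p ∣ i
    · obtain ⟨c, rfl⟩ := hpi
      have h1 := E.mul_mem hi (E.pow_mem hgp c)
      rw [← pow_mul] at h1
      simpa [e] using h1
    exfalso
    set Z : Ω := (z : Ω)
    have hZm : Z ∈ centerOf E := ⟨z, hz, rfl⟩
    have hgi : Commute (g ^ i) Z := by
      have h1 : Commute e Z := ((mem_centerOf.1 hZm).2 e hi)
      have h2 : Commute y Z := hyc Z hZm
      have h3 := (h1.inv_left).mul_left h2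
      rwa [show e⁻¹ * y = g ^ i by simp [e]] at h3
    have hgpc : Commute (g ^ p) Z := (mem_centerOf.1 hZm).2 _ hgp
    obtain ⟨m, -, hm⟩ := Nat.exists_mul_mod_eq_one_of_coprime
      (Nat.coprime_comm.1 (hp.1.coprime_iff_not_dvd.2 hpi)) hp.1.one_lt
    have h4 : Commute (g ^ (i * m)) Z := by rw [pow_mul]; exact hgi.pow_left m
    rw [← Nat.div_add_mod (i * m) p, hm, pow_add, pow_one, pow_mul] at h4
    have h5 := ((hgpc.pow_left (i * m / p)).inv_left).mul_left h4
    rw [inv_mul_cancel_left] at h5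
    refine hzne (Subtype.ext ?_)
    have h6 := hφa z 1
    rw [pow_one, pow_one] at h6
    rw [h6, h5.eq, mul_inv_cancel_right]
  · intro a ha d hd hdK hak had
    refine ⟨⟨a, ha⟩, hcD ⟨a, ha⟩ ⟨d, hd⟩ (fun h => hdK ⟨_, h, rfl⟩)
      (fun k hk => Subtype.ext (hak k ⟨k, hk, rfl⟩)) (Subtype.ext had), rfl⟩
  · obtain ⟨w, -, hw⟩ := s.surj v2
    refine ⟨g, hgN, w, w.2, fun h => hv2 ?_⟩
    obtain ⟨c, hc, hcw⟩ := h
    have h1 : c = (φ : MulAut E) w * w⁻¹ := Subtype.ext (hcw.trans (by
      have h6 := hφa w 1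
      rw [pow_one, pow_one] at h6
      rw [Subgroup.coe_mul, h6, Subgroup.coe_inv, commutatorElement_def]))
    rw [h1, SetLike.mem_coe, frattini_eq_step hEp, ← s.map_eq_zero _ (Subgroup.mem_top _),
      s.map_mul _ (Subgroup.mem_top _) _ (Subgroup.mem_top _), s.map_inv (Subgroup.mem_top _),
      ← hρ, hw] at hc
    rw [hδ, LinearMap.sub_apply, Module.End.one_apply, sub_eq_add_neg, hc]

end CfsgLib.Fusion.RankThree
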