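import Cfsg.Agent.Lib.Fusion.RankThree.Setup
import Cfsg.Agent.Lib.Fusion.RankThree.Linear
import Cfsg.Agent.Lib.Fusion.RankThree.Tools

/-!
# Two-generated groups of sectional rank three with an irreducible group of automorphisms containing
a transvection
-/

set_option autoImplicit false
set_option linter.unusedSectionVars false
set_option linter.style.haveILetI false

namespace CfsgLib.Fusion.RankThree

open scoped commutatorElement

universe u

variable {p : ℕ} [hp : Fact p.Prime] {G : Type u} [Group G]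

/-- A commutator of subgroups lies in a normal subgroup containing the rotated ones. -/
theorem three_subgroup {A B C N : Subgroup G} [hN : N.Normal] (h1 : ⁅⁅B, C⁆, A⁆ ≤ N)
    (h2 : ⁅⁅C, A⁆, B⁆ ≤ N) : ⁅⁅A, B⁆, C⁆ ≤ N := by
  set q := QuotientGroup.mk' N
  have key : ∀ D : Subgroup G, D.map q = ⊥ ↔ D ≤ N := fun D => by
    rw [Subgroup.map_eq_bot_iff, QuotientGroup.ker_mk']
  rw [← key, Subgroup.map_commutator, Subgroup.map_commutator]
  apply Subgroup.commutator_commutator_eq_bot_of_rotate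
  · rw [← Subgroup.map_commutator, ← Subgroup.map_commutator, key]; exact h1
  · rw [← Subgroup.map_commutator, ← Subgroup.map_commutator, key]; exact h2

/-- A normal subgroup is a step of a series when commutators with the whole group lie below. -/
theorem conj_pi {A B : Subgroup G} {W : Type u} [AddCommGroup W] [Module (ZMod p) W]
    (t : SecMap p A B W) (hA : A.Normal) (hc : ∀ a ∈ A, ∀ y : G, ⁅y, a⁆ ∈ B) (y : G) {a : G}
    (ha : a ∈ A) : t.π (y * a * y⁻¹) = t.π a := by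
  rw [show y * a * y⁻¹ = ⁅y, a⁆ * a by group, t.map_mul _ (t.le (hc a ha y)) _ ha,
    (t.map_eq_zero _ (t.le (hc a ha y))).2 (hc a ha y), zero_add]

set_option maxHeartbeats 3200000 in
/-- The structure of a two-generated group of sectional rank three with an irreducible group of
automorphisms containing a transvection whose `p`-th power is inner. -/
theorem two_gen_structure [Finite G] (hp5 : 5 ≤ p) (hG : IsPGroup p G)
    (hrank : Cfsg.SectionalPRankLE p 3 G) (Γ : Subgroup (MulAut G)) {V : Type u} [AddCommGroup V]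
    [Module (ZMod p) V] (s : SecMap p (⊤ : Subgroup G) (step p ⊤ ⊤) V)
    (ρ : Γ →* Module.End (ZMod p) V)
    (hρ : ∀ γ : Γ, ∀ a : G, ρ γ (s.π a) = s.π ((γ : MulAut G) a))
    (hdim : Module.finrank (ZMod p) V = 2) (φ : Γ)
    (hφsq : ∀ r, (ρ φ - 1) ((ρ φ - 1) r) = 0) (hφne : ρ φ ≠ 1) {e : G}
    (hφp : ∀ a : G, ((φ : MulAut G) ^ p) a = e * a * e⁻¹)
    (hirr : ∀ M : Submodule (ZMod p) V, (∀ γ, ∀ v ∈ M, ρ γ v ∈ M) → M ≠ ⊥ → M = ⊤) :
    ((∀ a b : G, a * b = b * a) ∧ (∀ a : G, a ^ p = 1) ∧ Nat.card G = p ^ 2) ∨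
    (Cfsg.IsExtraspecial p G ∧ Nat.card G = p ^ 3 ∧ ∀ a : G, a ^ p = 1) ∨
    (Nat.card G = p ^ 5 ∧ Nat.card (Subgroup.center G) = p ^ 2 ∧
      (∃ z ∈ Subgroup.center G, (φ : MulAut G) z ≠ z) ∧
      Subgroup.center G ≤ step p (⊤ : Subgroup G) ⊤ ∧
      ∀ a d : G, d ∉ step p (⊤ : Subgroup G) ⊤ →
        (∀ k ∈ step p (⊤ : Subgroup G) ⊤, a * k = k * a) → a * d = d * a →
        a ∈ Subgroup.center G) := by
  classical
  haveI := s.finite
  have hp2 : p ≠ 2 := by omega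
  have h2 : (2 : ZMod p) ≠ 0 := fun h => by
    have h' : ((2 : ℕ) : ZMod p) = 0 := by exact_mod_cast h
    have := Nat.le_of_dvd (by norm_num) ((ZMod.natCast_eq_zero_iff 2 p).1 h')
    omega
  set φ' : MulAut G := (φ : MulAut G)
  set δ := ρ φ - 1 with hδ
  have hTd : ∀ z, ρ φ z = z + δ z := fun z => by simp [hδ]
  haveI hK1n : (step p (⊤ : Subgroup G) ⊤).Normal := step_normal
  let K1 := step p (⊤ : Subgroup G) ⊤
  have hK1 : K1 = step p (⊤ : Subgroup G) ⊤ := rfl
  have htop : ∀ a : G, a ∈ (⊤ : Subgroup G) := Subgroup.mem_top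
  have mK1 : ∀ (γ : MulAut G) {a : G}, a ∈ K1 → γ a ∈ K1 := fun γ a ha => by
    have h := step_map (p := p) (A := (⊤ : Subgroup G)) (B := ⊤) γ
    rw [Subgroup.map_top_of_surjective _ γ.surjective] at h
    rw [hK1, ← h]
    exact ⟨a, ha, rfl⟩
  -- the basis
  obtain ⟨v2, hv2⟩ : ∃ v2, δ v2 ≠ 0 := by
    by_contra! h
    exact hφne (sub_eq_zero.1 (LinearMap.ext h))
  set v1 := δ v2 with hv1
  have hd1 : δ v1 = 0 := hφsq v2
  have hindep : ∀ i j : ZMod p, i • v2 + j • v1 = 0 → i = 0 ∧ j = 0 := fun i j h => by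
    have h1 := congrArg δ h
    rw [map_add, map_smul, map_smul, hd1, smul_zero, add_zero, map_zero, ← hv1] at h1
    have hi : i = 0 := (smul_eq_zero.1 h1).resolve_right hv2
    rw [hi, zero_smul, zero_add] at h
    exact ⟨hi, (smul_eq_zero.1 h).resolve_right hv2⟩
  have hspan : ∀ v, ∃ i j : ZMod p, v = i • v2 + j • v1 := by
    intro v
    have hli : LinearIndependent (ZMod p) ![v2, v1] := by
      rw [Fintype.linearIndependent_iff]
      intro f hf
      rw [Fin.sum_univ_two] at hf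
      obtain ⟨h0, h1⟩ := hindep _ _ hf
      intro i; fin_cases i <;> assumption
    have hsp := hli.span_eq_top_of_card_eq_finrank (by rw [Fintype.card_fin, hdim])
    obtain ⟨f, hf⟩ := (Submodule.mem_span_range_iff_exists_fun _).1
      (hsp ▸ trivial : v ∈ Submodule.span (ZMod p) (Set.range ![v2, v1]))
    exact ⟨f 0, f 1, by rw [← hf, Fin.sum_univ_two]; rfl⟩
  have hirr' : ∀ M : Submodule (ZMod p) V, (∀ γ, ∀ v ∈ M, ρ γ v ∈ M) → v1 ∈ M → ∀ v, v ∈ M := by
    intro M hM hv v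
    rw [hirr M hM fun h => hv2 ((Submodule.eq_bot_iff _).1 h _ hv)]
    exact Submodule.mem_top
  obtain ⟨w, -, hw⟩ := s.surj v2
  obtain ⟨u, -, hu⟩ := s.surj v1
  have hφw : s.π (φ' w) = v2 + v1 := by rw [← hρ φ, hw, hTd]
  -- the powers are products of commutators modulo the next term
  set C := ⁅(⊤ : Subgroup G), ⊤⁆ ⊔ pw p K1 with hC
  haveI : (pw p K1).Normal := pw_normal hK1n
  haveI hCn : C.Normal := Subgroup.sup_normal _ _
  have mC : ∀ (γ : MulAut G) {a : G}, a ∈ C → γ a ∈ C := fun γ a ha => by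
    have h : C.map γ.toMonoidHom ≤ C := by
      rw [hC, Subgroup.map_sup, Subgroup.map_commutator,
        Subgroup.map_top_of_surjective _ γ.surjective, pw_map]
      refine sup_le le_sup_left (le_sup_of_le_right (pw_le fun b hb => ?_))
      obtain ⟨b, hb, rfl⟩ := hb
      exact pow_mem_pw (mK1 γ hb)
    exact h ⟨a, ha, rfl⟩
  have hcC : ∀ a b : G, ⁅a, b⁆ ∈ C := fun a b =>
    Subgroup.mem_sup_left (Subgroup.commutator_mem_commutator (htop a) (htop b))
  have hpC : ∀ a : G, a ^ p ∈ C := by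
    letI : CommGroup (G ⧸ C) :=
      { mul_comm := fun x y => by
          obtain ⟨a, rfl⟩ := QuotientGroup.mk'_surjective C x
          obtain ⟨b, rfl⟩ := QuotientGroup.mk'_surjective C y
          rw [← commutatorElement_eq_one_iff_mul_comm, ← map_commutatorElement]
          exact (QuotientGroup.eq_one_iff _).2 (hcC a b) }
    set q := QuotientGroup.mk' C
    set f : (G ⧸ C) →* (G ⧸ C) := QuotientGroup.map C C φ'.toMonoidHom fun a ha => mC φ' ha
    set Φ : AddMonoid.End (Additive (G ⧸ C)) := f.toAdditive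
    set D := Φ - 1 with hD
    have hΦ : ∀ (n : ℕ) (a : G),
        (Φ ^ n) (Additive.ofMul (q a)) = Additive.ofMul (q ((φ' ^ n) a)) := by
      intro n a
      induction n with
      | zero => rfl
      | succ n ih =>
        rw [pow_succ', pow_succ' φ', MulAut.mul_apply]
        show Φ ((Φ ^ n) (Additive.ofMul (q a))) = _
        rw [ih]
        rfl
    have hDa : ∀ a : G, D (Additive.ofMul (q a)) = Additive.ofMul (q (φ' a * a⁻¹)) := fun a => by
      rw [hD, map_mul, map_inv, ofMul_mul, ofMul_inv, ← sub_eq_add_neg]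
      rfl
    have hpow : ∀ k : G, k ∈ K1 → ∃ b : Additive (G ⧸ C), Additive.ofMul (q k) = p • b := by
      intro k hk
      have hle : K1 ≤ (powMonoidHom p : (G ⧸ C) →* (G ⧸ C)).range.comap q := by
        refine step_le (fun a _ b _ => ⟨1, ?_⟩) fun a _ => ⟨q a, (map_pow q a p).symm⟩
        simp only [powMonoidHom_apply, one_pow]
        exact ((QuotientGroup.eq_one_iff _).2 (hcC a b)).symm
      obtain ⟨b, hb⟩ := hle hk
      exact ⟨Additive.ofMul b, by rw [← ofMul_pow]; exact congrArg Additive.ofMul hb.symm⟩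
    have hpp : ∀ z : Additive (G ⧸ C), p • p • z = 0 := by
      intro z
      obtain ⟨a, ha⟩ := QuotientGroup.mk'_surjective C z.toMul
      refine Additive.toMul.injective ?_
      rw [toMul_nsmul, toMul_nsmul, ← ha, ← map_pow, ← map_pow, toMul_zero]
      exact (QuotientGroup.eq_one_iff _).2
        (Subgroup.mem_sup_right (pow_mem_pw (s.pow_mem (htop a))))
    have hD2 : ∀ z, ∃ b, D (D z) = p • b := by
      intro z
      obtain ⟨a, ha⟩ := QuotientGroup.mk'_surjective C z.toMul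
      rw [show z = Additive.ofMul (q a) from ha.symm ▸ rfl, hDa, hDa]
      refine hpow _ ((s.map_eq_zero _ (htop _)).1 ?_)
      have e1 : ∀ b : G, s.π (φ' b * b⁻¹) = δ (s.π b) := fun b => by
        rw [s.map_mul _ (htop _) _ (htop _), s.map_inv (htop _), ← hρ φ, hTd]; abel
      rw [e1, e1]
      exact hφsq _
    have hpD2 : ∀ z, p • D (D z) = 0 := fun z => by
      obtain ⟨b, hb⟩ := hD2 z
      rw [hb, hpp]
    have hD4 : ∀ z, D (D (D (D z))) = 0 := fun z => by
      obtain ⟨b, hb⟩ := hD2 z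
      rw [hb, map_nsmul, map_nsmul, hpD2]
    have hexp : ∀ (n : ℕ) z, (Φ ^ n) z =
        z + n • D z + n.choose 2 • D (D z) + n.choose 3 • D (D (D z)) := by
      intro n z
      have hΦD : ∀ z, Φ z = z + D z := fun z => by
        show Φ z = z + (Φ z - z)
        abel
      induction n with
      | zero => simp
      | succ n ih =>
        rw [pow_succ']
        show Φ ((Φ ^ n) z) = _
        rw [ih, hΦD, map_add, map_add, map_add, map_nsmul, map_nsmul, map_nsmul, hD4, smul_zero,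
          Nat.choose_succ_succ', Nat.choose_one_right, Nat.choose_succ_succ' n 2]
        simp only [add_smul, one_smul]
        abel
    have hpD : ∀ z, p • D z = 0 := by
      intro z
      obtain ⟨a, ha⟩ := QuotientGroup.mk'_surjective C z.toMul
      have h1 := hexp p z
      obtain ⟨k, hk⟩ : p ∣ p.choose 2 := hp.1.dvd_choose_self two_ne_zero (by omega)
      obtain ⟨m, hm⟩ : p ∣ p.choose 3 := hp.1.dvd_choose_self (by norm_num) (by omega)
      have h3 : (Φ ^ p) z = z := by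
        rw [show z = Additive.ofMul (q a) from ha.symm ▸ rfl, hΦ, hφp]
        refine congrArg Additive.ofMul ?_
        rw [map_mul, map_mul, map_inv, mul_right_comm, mul_inv_cancel, one_mul]
      rw [h3, hk, hm, mul_comm p k, mul_comm p m, mul_smul, mul_smul, hpD2, hpD2, smul_zero,
        smul_zero, add_zero, add_zero, left_eq_add] at h1
      exact h1
    -- the `p`-th power vanishes on the centre of the transvection
    obtain ⟨W, _, _, ⟨t⟩⟩ := exists_secMap (p := p) (A := K1) (B := C)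
      (sup_le (fun a ha => Subgroup.mem_sup_left ha) (pw_le fun a ha => K1.pow_mem ha p))
      (fun a _ b hb => hCn.conj_mem b hb a) (fun a _ b _ => hcC a b)
      fun a ha => Subgroup.mem_sup_right (pow_mem_pw ha)
    obtain ⟨pk, hpk⟩ := s.exists_linear' t (fun a => a ^ p) (fun a _ => s.pow_mem (htop a))
      (fun b hb => Subgroup.mem_sup_right (pow_mem_pw hb)) fun a _ b _ => by
        have h1 := mul_pow_mem hCn (hcC a b) p
        have hab : a ^ p * b ^ p ∈ K1 :=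
          K1.mul_mem (s.pow_mem (htop a)) (s.pow_mem (htop b))
        rw [← (t.eq_iff hab (s.pow_mem (htop _))).2 h1,
          t.map_mul _ (s.pow_mem (htop a)) _ (s.pow_mem (htop b))]
    have hiff : ∀ a, pk (s.π a) = 0 ↔ a ^ p ∈ C := fun a => by
      rw [hpk a (htop a), t.map_eq_zero _ (s.pow_mem (htop a))]
    have h0 : pk v1 = 0 := by
      have e1 : s.π (φ' w * w⁻¹) = v1 := by
        rw [s.map_mul _ (htop _) _ (htop _), s.map_inv (htop _), hφw, hw]; abel
      rw [← e1, hiff, ← QuotientGroup.eq_one_iff]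
      have h4 := hpD (Additive.ofMul (q w))
      rw [hDa, ← ofMul_pow, ← map_pow, ofMul_eq_zero] at h4
      exact h4
    intro a
    rw [← hiff]
    refine LinearMap.mem_ker.1 (hirr' (LinearMap.ker pk) (fun γ v hv => ?_) h0 _)
    obtain ⟨b, -, rfl⟩ := s.surj v
    rw [LinearMap.mem_ker, hiff] at hv
    rw [LinearMap.mem_ker, hρ γ, hiff, ← map_pow]
    exact mC _ hv
  -- the first term is the derived subgroup
  have hK1eq : K1 ≤ ⁅(⊤ : Subgroup G), ⊤⁆ := by
    refine le_of_le_step hG hK1n inferInstance ?_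
    refine (step_le (fun a _ b _ => hcC a b) fun a _ => hpC a).trans
      (sup_le le_sup_right (le_sup_of_le_left (pw_le fun a ha => pow_mem_step ha)))
  -- the layers
  set K2 := step p K1 ⊤ with hK2
  haveI hK2n : K2.Normal := step_normal
  set K3 := step p K2 ⊤ with hK3
  haveI hK3n : K3.Normal := step_normal
  set K4 := step p K3 ⊤ with hK4
  haveI hK4n : K4.Normal := step_normal
  have l21 : K2 ≤ K1 := step_le_self hK1n
  have l32 : K3 ≤ K2 := step_le_self hK2n
  have l43 : K4 ≤ K3 := step_le_self hK3n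
  have mK2 : ∀ (γ : MulAut G) {a : G}, a ∈ K2 → γ a ∈ K2 := fun γ a ha =>
    step_mapsTo (E := ⊤) (fun b => γ b) (fun a _ b _ => map_mul γ a b) le_top le_rfl
      (fun b hb => mK1 γ hb) (fun b _ => htop _) ha
  have mK3 : ∀ (γ : MulAut G) {a : G}, a ∈ K3 → γ a ∈ K3 := fun γ a ha =>
    step_mapsTo (E := ⊤) (fun b => γ b) (fun a _ b _ => map_mul γ a b) le_top le_rfl
      (fun b hb => mK2 γ hb) (fun b _ => htop _) ha
  have mK4 : ∀ (γ : MulAut G) {a : G}, a ∈ K4 → γ a ∈ K4 := fun γ a ha =>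
    step_mapsTo (E := ⊤) (fun b => γ b) (fun a _ b _ => map_mul γ a b) le_top le_rfl
      (fun b hb => mK3 γ hb) (fun b _ => htop _) ha
  have c12 : ∀ k ∈ K1, ∀ y : G, ⁅y, k⁆ ∈ K2 := fun k hk y =>
    comm_mem_swap (comm_mem_step hk (htop y))
  have c23 : ∀ k ∈ K2, ∀ y : G, ⁅y, k⁆ ∈ K3 := fun k hk y =>
    comm_mem_swap (comm_mem_step hk (htop y))
  have c34 : ∀ k ∈ K3, ∀ y : G, ⁅y, k⁆ ∈ K4 := fun k hk y =>
    comm_mem_swap (comm_mem_step hk (htop y))
  have hK12 : ∀ a ∈ K1, ∀ b ∈ K2, ⁅a, b⁆ ∈ K4 := fun a ha b hb => by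
    have h : ⁅⁅(⊤ : Subgroup G), (⊤ : Subgroup G)⁆, K2⁆ ≤ K4 := by
      have hcomm : ⁅⁅K2, (⊤ : Subgroup G)⁆, (⊤ : Subgroup G)⁆ ≤ K4 :=
        Subgroup.commutator_le.2 fun x hx y hy => comm_mem_step
          (Subgroup.commutator_le.2 (fun i hi j hj => comm_mem_step (p := p) hi hj) hx) hy
      refine three_subgroup ?_ hcomm
      rwa [Subgroup.commutator_comm (⊤ : Subgroup G) K2]
    exact h (Subgroup.commutator_mem_commutator (hK1eq ha) hb)
  have hK11 : ∀ a ∈ K1, ∀ b ∈ K1, ⁅a, b⁆ ∈ K3 := fun a ha b hb => by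
    have h : ⁅⁅(⊤ : Subgroup G), (⊤ : Subgroup G)⁆, K1⁆ ≤ K3 := by
      have hcomm : ⁅⁅K1, (⊤ : Subgroup G)⁆, (⊤ : Subgroup G)⁆ ≤ K3 :=
        Subgroup.commutator_le.2 fun x hx y hy => comm_mem_step
          (Subgroup.commutator_le.2 (fun i hi j hj => comm_mem_step (p := p) hi hj) hx) hy
      refine three_subgroup ?_ hcomm
      rwa [Subgroup.commutator_comm (⊤ : Subgroup G) K1]
    exact h (Subgroup.commutator_mem_commutator (hK1eq ha) hb)
  obtain ⟨L2, _, _, ⟨s1⟩⟩ := exists_secMap (p := p) (A := K1) (B := K2) l21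
    (fun a _ b hb => hK2n.conj_mem b hb a) (fun a ha b _ => comm_mem_step ha (htop b))
    fun a ha => pow_mem_step ha
  obtain ⟨L3, _, _, ⟨s2⟩⟩ := exists_secMap (p := p) (A := K2) (B := K3) l32
    (fun a _ b hb => hK3n.conj_mem b hb a) (fun a ha b _ => comm_mem_step ha (htop b))
    fun a ha => pow_mem_step ha
  obtain ⟨L4, _, _, ⟨s3⟩⟩ := exists_secMap (p := p) (A := K3) (B := K4) l43
    (fun a _ b hb => hK4n.conj_mem b hb a) (fun a ha b _ => comm_mem_step ha (htop b))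
    fun a ha => pow_mem_step ha
  have hK1c : ∀ a b : G, ⁅a, b⁆ ∈ K1 := fun a b => comm_mem_step (htop a) (htop b)
  -- the commutator form
  obtain ⟨f, hf⟩ := s.exists_bilin s s1 (fun a b => ⁅a, b⁆) (fun a _ b _ => hK1c a b)
    (fun a _ a' _ b _ => by
      rw [show ⁅a * a', b⁆ = a * ⁅a', b⁆ * a⁻¹ * ⁅a, b⁆ by group,
        s1.map_mul _ (hK1n.conj_mem _ (hK1c _ _) a) _ (hK1c _ _),
        conj_pi s1 hK1n c12 a (hK1c _ _), add_comm])
    (fun a _ b _ b' _ => by
      rw [show ⁅a, b * b'⁆ = ⁅a, b⁆ * (b * ⁅a, b'⁆ * b⁻¹) by group,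
        s1.map_mul _ (hK1c _ _) _ (hK1n.conj_mem _ (hK1c _ _) b),
        conj_pi s1 hK1n c12 b (hK1c _ _)])
    (fun a ha b _ => comm_mem_swap (c12 a ha b)) (fun a _ b hb => c12 b hb a)
  have hff : ∀ a b : G, f (s.π a) (s.π b) = s1.π ⁅a, b⁆ := fun a b => hf a (htop a) b (htop b)
  have hfalt : ∀ v, f v v = 0 := fun v => by
    obtain ⟨a, -, rfl⟩ := s.surj v
    rw [hff, commutatorElement_self, s1.map_one]
  have hskew : ∀ v v', f v' v = -f v v' := fun v v' => by
    have h1 := hfalt (v + v')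
    simp only [map_add, LinearMap.add_apply, hfalt, zero_add, add_zero] at h1
    refine eq_neg_of_add_eq_zero_left ?_
    first
      | exact h1
      | rw [add_comm]; exact h1
  have hfval : ∀ v v', ∃ n : ZMod p, f v v' = n • f v2 v1 := fun v v' => by
    obtain ⟨i, j, rfl⟩ := hspan v
    obtain ⟨i', j', rfl⟩ := hspan v'
    refine ⟨i * j' - j * i', ?_⟩
    simp only [map_add, map_smul, LinearMap.add_apply, LinearMap.smul_apply, hfalt, hskew v2 v1]
    module
  set c0 := ⁅w, u⁆ with hc0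
  have hc0K : c0 ∈ K1 := hK1c w u
  have hfc : f v2 v1 = s1.π c0 := by rw [← hw, ← hu, hff]
  have hK1line : ∀ k ∈ K1, ∃ n : ZMod p, s1.π k = n • s1.π c0 := by
    have hle : ⁅(⊤ : Subgroup G), ⊤⁆ ≤ s1.pre (Submodule.span (ZMod p) {s1.π c0}) :=
      Subgroup.commutator_le.2 fun a _ b _ => ⟨hK1c a b, by
        obtain ⟨n, hn⟩ := hfval (s.π a) (s.π b)
        rw [← hff a b, hn, hfc]
        exact Submodule.smul_mem _ n (Submodule.mem_span_singleton_self _)⟩
    intro k hk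
    obtain ⟨n, hn⟩ := Submodule.mem_span_singleton.1 (hle (hK1eq hk)).2
    exact ⟨n, hn.symm⟩
  -- powers lie in the second term
  obtain ⟨pk2, hpk2⟩ := s.exists_linear' s1 (fun a => a ^ p) (fun a _ => s.pow_mem (htop a))
    (fun b hb => pow_mem_step hb) fun a _ b _ => by
      have h1 := mul_pow_p_mem hp2 hK2n (comm_mem_swap (c12 _ (hK1c b a) a))
        (comm_mem_swap (c12 _ (hK1c b a) b)) (pow_mem_step (hK1c b a))
      have hab : a ^ p * b ^ p ∈ K1 := K1.mul_mem (s.pow_mem (htop a)) (s.pow_mem (htop b))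
      rw [← (s1.eq_iff hab (s.pow_mem (htop _))).2 h1,
        s1.map_mul _ (s.pow_mem (htop a)) _ (s.pow_mem (htop b))]
  have hiff2 : ∀ a, pk2 (s.π a) = 0 ↔ a ^ p ∈ K2 := fun a => by
    rw [hpk2 a (htop a), s1.map_eq_zero _ (s.pow_mem (htop a))]
  have hkerinv : ∀ γ, ∀ v ∈ LinearMap.ker pk2, ρ γ v ∈ LinearMap.ker pk2 := fun γ v hv => by
    obtain ⟨b, -, rfl⟩ := s.surj v
    rw [LinearMap.mem_ker, hiff2] at hv
    rw [LinearMap.mem_ker, hρ, hiff2, ← map_pow]
    exact mK2 _ hv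
  have hpK2 : ∀ a : G, a ^ p ∈ K2 := by
    have htop' : LinearMap.ker pk2 = ⊤ := by
      refine hirr _ hkerinv fun hbot => ?_
      have hinj := LinearMap.ker_eq_bot.1 hbot
      obtain ⟨i, hi⟩ := hK1line _ (s.pow_mem (htop w))
      obtain ⟨j, hj⟩ := hK1line _ (s.pow_mem (htop u))
      have h1 : pk2 (j • v2 - i • v1) = 0 := by
        rw [map_sub, map_smul, map_smul, ← hw, ← hu, hpk2 w (htop w), hpk2 u (htop u), hi, hj,
          smul_smul, smul_smul, mul_comm, sub_self]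
      have h3 : j • v2 - i • v1 = 0 := hinj (by rw [h1, map_zero])
      obtain ⟨hj0, -⟩ := hindep j (-i) (by rw [neg_smul, ← sub_eq_add_neg, h3])
      have h4 : pk2 v1 = 0 := by rw [← hu, hpk2 u (htop u), hj, hj0, zero_smul]
      exact hv2 (hinj (by rw [h4, map_zero]))
    intro a
    rw [← hiff2]
    exact LinearMap.mem_ker.1 (htop' ▸ Submodule.mem_top)
  have hcardV : Nat.card V = p ^ 2 := by
    rw [Module.natCard_eq_pow_finrank (K := ZMod p), Nat.card_zmod, hdim]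
  have hcardG : Nat.card G = p ^ 2 * Nat.card K1 := by
    rw [← hcardV, s.card_mul, Subgroup.card_top]
  by_cases hc : s1.π c0 = 0
  · -- the abelian case
    left
    have hle : K1 ≤ K2 := fun k hk => (s1.map_eq_zero k hk).1 (by
      obtain ⟨n, hn⟩ := hK1line k hk
      rw [hn, hc, smul_zero])
    have hbot : K1 = ⊥ := le_bot_iff.1 (le_of_le_step hG hK1n inferInstance (hle.trans le_sup_left))
    refine ⟨fun a b => ?_, fun a => ?_, by rw [hcardG, hbot, Subgroup.card_bot, mul_one]⟩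
    · have h := hK1c a b
      rw [hbot, Subgroup.mem_bot] at h
      exact commutatorElement_eq_one_iff_mul_comm.1 h
    · have h := s.pow_mem (htop a)
      rw [← hK1, hbot, Subgroup.mem_bot] at h
      exact h
  -- the first commutator map
  obtain ⟨g3, hg3⟩ := s.exists_bilin s1 s2 (fun a k => ⁅a, k⁆) (fun a _ k hk => c12 k hk a)
    (fun a _ a' _ k hk => by
      rw [show ⁅a * a', k⁆ = a * ⁅a', k⁆ * a⁻¹ * ⁅a, k⁆ by group,
        s2.map_mul _ (hK2n.conj_mem _ (c12 k hk a') a) _ (c12 k hk a),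
        conj_pi s2 hK2n c23 a (c12 k hk a'), add_comm])
    (fun a _ k hk k' hk' => by
      rw [show ⁅a, k * k'⁆ = ⁅a, k⁆ * (k * ⁅a, k'⁆ * k⁻¹) by group,
        s2.map_mul _ (c12 k hk a) _ (hK2n.conj_mem _ (c12 k' hk' a) k),
        conj_pi s2 hK2n c23 k (c12 k' hk' a)])
    (fun a ha k hk => hK11 a ha k hk)
    fun a _ k hk => c23 k hk a
  set z3 : V →ₗ[ZMod p] L3 := (LinearMap.applyₗ (s1.π c0)).comp g3 with hz3
  have hz : ∀ a, z3 (s.π a) = s2.π ⁅a, c0⁆ := fun a => by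
    rw [hz3]
    exact hg3 a (htop a) c0 hc0K
  -- how automorphisms act on the commutator
  have hcscale : ∀ γ : Γ, ∃ k : ZMod p, k ≠ 0 ∧ s1.π ((γ : MulAut G) c0) = k • s1.π c0 := fun γ => by
    obtain ⟨k, hk⟩ := hK1line _ (mK1 _ hc0K)
    refine ⟨k, fun h => hc ?_, hk⟩
    rw [h, zero_smul, s1.map_eq_zero _ (mK1 _ hc0K)] at hk
    refine (s1.map_eq_zero _ hc0K).2 ?_
    have h1 := mK2 (γ : MulAut G)⁻¹ hk
    rwa [MulAut.inv_apply_self] at h1
  have hγ3 : ∀ (γ : Γ) (a : G), ∃ k : ZMod p, k ≠ 0 ∧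
      s2.π ((γ : MulAut G) ⁅a, c0⁆) = k • z3 (ρ γ (s.π a)) := fun γ a => by
    obtain ⟨k, hk0, hk⟩ := hcscale γ
    refine ⟨k, hk0, ?_⟩
    rw [map_commutatorElement, ← hg3 _ (htop _) _ (mK1 _ hc0K), hk, map_smul, hρ, hz,
      hg3 _ (htop _) _ hc0K]
  have hzker : ∀ γ, ∀ v ∈ LinearMap.ker z3, ρ γ v ∈ LinearMap.ker z3 := fun γ v hv => by
    obtain ⟨a, -, rfl⟩ := s.surj v
    obtain ⟨k, hk0, hk⟩ := hγ3 γ a
    rw [LinearMap.mem_ker, hz, s2.map_eq_zero _ (c12 _ hc0K a)] at hv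
    rw [(s2.map_eq_zero _ (mK2 _ (c12 _ hc0K a))).2 (mK3 _ hv), eq_comm, smul_eq_zero] at hk
    exact hk.resolve_left hk0
  have hc0p : c0 ^ p ∈ K3 := by
    have e1 : (c0 * u) ^ p = ⁅w, u ^ p⁆ * u ^ p := by
      rw [show c0 * u = w * u * w⁻¹ by rw [hc0]; group, conj_pow]
      group
    have hcu : ⁅u, c0⁆ ∈ K2 := c12 _ hc0K u
    have h1 := mul_pow_p_mem hp2 hK3n (comm_mem_swap (c23 _ hcu c0)) (comm_mem_swap (c23 _ hcu u))
      (pow_mem_step hcu)
    rw [e1] at h1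
    have h3 : ⁅w, u ^ p⁆ ∈ K3 := c23 _ (hpK2 u) w
    have h4 := hK3n.conj_mem _ h1 (c0 ^ p * u ^ p)
    rw [show c0 ^ p * u ^ p * ((c0 ^ p * u ^ p)⁻¹ * (⁅w, u ^ p⁆ * u ^ p)) * (c0 ^ p * u ^ p)⁻¹ =
      ⁅w, u ^ p⁆ * (c0 ^ p)⁻¹ by group] at h4
    have h5 := K3.mul_mem (K3.inv_mem h3) h4
    rw [inv_mul_cancel_left] at h5
    exact inv_mem_iff.1 h5
  have hK2gen : K2 ≤ s2.pre (LinearMap.range z3) := by
    refine step_le (fun k hk a _ => ⟨comm_mem_step hk (htop a), ?_⟩) fun k hk => ?_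
    · obtain ⟨n, hn⟩ := hK1line k hk
      rw [← commutatorElement_inv a k, s2.map_inv (c12 k hk a), ← hg3 a (htop a) k hk, hn, map_smul,
        hg3 a (htop a) c0 hc0K, ← hz]
      exact Submodule.neg_mem _ (Submodule.smul_mem _ _ (LinearMap.mem_range_self z3 _))
    · obtain ⟨n, hn⟩ := hK1line k hk
      have h1 : s1.π (c0 ^ n.val) = s1.π k := by
        rw [s1.map_pow_cast hc0K, ZMod.natCast_zmod_val, hn]
      set y := (c0 ^ n.val)⁻¹ * k
      have hy : y ∈ K2 := (s1.eq_iff (K1.pow_mem hc0K _) hk).1 h1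
      have hky : k = c0 ^ n.val * y := (mul_inv_cancel_left _ _).symm
      have h3 := mul_pow_mem (a := c0 ^ n.val) (b := y) hK3n (c23 y hy _) p
      have h4 : (c0 ^ n.val) ^ p * y ^ p ∈ K3 :=
        K3.mul_mem (by rw [← pow_mul, mul_comm, pow_mul]; exact K3.pow_mem hc0p _) (pow_mem_step hy)
      have h5 := K3.mul_mem h4 h3
      rw [mul_inv_cancel_left, ← hky] at h5
      exact ⟨l32 h5, by rw [(s2.map_eq_zero _ (l32 h5)).2 h5]; exact Submodule.zero_mem _⟩
  by_cases hz0 : LinearMap.ker z3 = ⊤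
  · -- the extraspecial case
    right; left
    have hle : K2 ≤ K3 := fun y hy => by
      obtain ⟨hy1, v, hv⟩ := hK2gen hy
      refine (s2.map_eq_zero y hy1).1 ?_
      rw [← hv]
      exact LinearMap.mem_ker.1 (hz0 ▸ Submodule.mem_top)
    have hbot : K2 = ⊥ := le_bot_iff.1 (le_of_le_step hG hK2n inferInstance (hle.trans le_sup_left))
    have hc01 : c0 ≠ 1 := fun h => hc (by rw [h, s1.map_one])
    have hexp : ∀ a : G, a ^ p = 1 := fun a => by
      have h := hpK2 a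
      rwa [hbot, Subgroup.mem_bot] at h
    have hcardK1 : Nat.card K1 = p := by
      have hle1 : K1 ≤ Subgroup.zpowers c0 := fun k hk => by
        obtain ⟨n, hn⟩ := hK1line k hk
        have h1 : s1.π (c0 ^ n.val) = s1.π k := by
          rw [s1.map_pow_cast hc0K, ZMod.natCast_zmod_val, hn]
        have h3 := (s1.eq_iff (K1.pow_mem hc0K _) hk).1 h1
        rw [hbot, Subgroup.mem_bot, inv_mul_eq_one] at h3
        exact h3 ▸ Subgroup.npow_mem_zpowers _ _
      rw [le_antisymm hle1 (Subgroup.zpowers_le.2 hc0K), Nat.card_zpowers]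
      exact orderOf_eq_prime (hexp c0) hc01
    have hK1Z : K1 ≤ Subgroup.center G := fun k hk => Subgroup.mem_center_iff.2 fun a => by
      have h := c12 k hk a
      rw [hbot, Subgroup.mem_bot] at h
      exact commutatorElement_eq_one_iff_mul_comm.1 h
    have hZK1 : Subgroup.center G ≤ K1 := fun a ha => by
      have h0 : ∀ b, f (s.π a) (s.π b) = 0 := fun b => by
        rw [hff, commutatorElement_eq_one_iff_mul_comm.2 (Subgroup.mem_center_iff.1 ha b).symm,
          s1.map_one]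
      obtain ⟨i, j, hij⟩ := hspan (s.π a)
      have h1 := h0 u
      have h3 := h0 w
      rw [hij, hu] at h1
      rw [hij, hw] at h3
      simp only [map_add, map_smul, LinearMap.add_apply, LinearMap.smul_apply, hfalt,
        hskew v2 v1, hfc, smul_zero, add_zero, zero_add, smul_neg, neg_eq_zero,
        smul_eq_zero, or_iff_left hc] at h1 h3
      refine (s.map_eq_zero a (htop a)).1 ?_
      rw [hij, h1, h3, zero_smul, zero_smul, add_zero]
    have hZ : Subgroup.center G = K1 := le_antisymm hZK1 hK1Z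
    refine ⟨⟨⟨hG, by rw [frattini_eq_step hG, hZ], ?_⟩, by rw [hZ, hcardK1]⟩, ?_, hexp⟩
    · rw [hZ, _root_.commutator_def]
      exact le_antisymm (Subgroup.commutator_le.2 fun a _ b _ => hK1c a b) hK1eq
    · rw [hcardG, hcardK1, ← pow_succ]
  -- the third layer
  right; right
  have hzinj : Function.Injective z3 := LinearMap.ker_eq_bot.1 (by
    by_contra hne
    exact hz0 (hirr _ hzker hne))
  obtain ⟨hf4, hg4⟩ := s.exists_bilin s2 s3 (fun a k => ⁅a, k⁆) (fun a _ k hk => c23 k hk a)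
    (fun a _ a' _ k hk => by
      rw [show ⁅a * a', k⁆ = a * ⁅a', k⁆ * a⁻¹ * ⁅a, k⁆ by group,
        s3.map_mul _ (hK3n.conj_mem _ (c23 k hk a') a) _ (c23 k hk a),
        conj_pi s3 hK3n c34 a (c23 k hk a'), add_comm])
    (fun a _ k hk k' hk' => by
      rw [show ⁅a, k * k'⁆ = ⁅a, k⁆ * (k * ⁅a, k'⁆ * k⁻¹) by group,
        s3.map_mul _ (c23 k hk a) _ (hK3n.conj_mem _ (c23 k' hk' a) k),
        conj_pi s3 hK3n c34 k (c23 k' hk' a)])
    (fun a ha k hk => hK12 a ha k hk) fun a _ k hk => c34 k hk a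
  set W := hf4.compl₂ z3 with hW
  have hWab : ∀ a b, W (s.π a) (s.π b) = s3.π ⁅a, ⁅b, c0⁆⁆ := fun a b => by
    rw [hW, LinearMap.compl₂_apply, hz, hg4 a (htop a) _ (c12 _ hc0K b)]
  have hWsymm : ∀ v v', W v v' = W v' v := by
    intro v v'
    obtain ⟨a, -, rfl⟩ := s.surj v
    obtain ⟨b, -, rfl⟩ := s.surj v'
    rw [hWab, hWab]
    set q := QuotientGroup.mk' K4
    have hq : ∀ y ∈ K4, q y = 1 := fun y hy => (QuotientGroup.eq_one_iff y).2 hy
    have hcom : ∀ x y, ⁅x, y⁆ ∈ K4 → q x * q y = q y * q x := fun x y h => by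
      rw [← commutatorElement_eq_one_iff_mul_comm, ← map_commutatorElement]; exact hq _ h
    have hA : ⁅a, c0⁆ ∈ K2 := c12 _ hc0K a
    have hB : ⁅b, c0⁆ ∈ K2 := c12 _ hc0K b
    have hX : ⁅a, ⁅b, c0⁆⁆ ∈ K3 := c23 _ hB a
    have hY : ⁅b, ⁅a, c0⁆⁆ ∈ K3 := c23 _ hA b
    have h1 : q (a * (b * c0 * b⁻¹) * a⁻¹) = q (b * (a * c0 * a⁻¹) * b⁻¹) := by
      have h11 : ⁅⁅a, b⁆, (b * a) * c0 * (b * a)⁻¹⁆ ∈ K4 := by
        have hk := hK1c a b
        have hk' : (b * a) * c0 * (b * a)⁻¹ ∈ K1 := hK1n.conj_mem _ hc0K _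
        obtain ⟨n, hn⟩ := hK1line _ hk
        obtain ⟨n', hn'⟩ := hK1line _ hk'
        have hdec : ∀ k ∈ K1, ∀ n : ZMod p, s1.π k = n • s1.π c0 →
            ∃ y ∈ K2, k = c0 ^ n.val * y := fun k hk n hn =>
          ⟨(c0 ^ n.val)⁻¹ * k, (s1.eq_iff (K1.pow_mem hc0K _) hk).1 (by
            rw [s1.map_pow_cast hc0K, ZMod.natCast_zmod_val, hn]),
            (mul_inv_cancel_left _ _).symm⟩
        obtain ⟨y, hy, hky⟩ := hdec _ hk n hn
        obtain ⟨y', hy', hky'⟩ := hdec _ hk' n' hn'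
        refine (QuotientGroup.eq_one_iff _).1 ?_
        show q ⁅_, _⁆ = 1
        rw [map_commutatorElement, commutatorElement_eq_one_iff_commute, hky, hky', map_mul,
          map_mul, map_pow, map_pow]
        have e1 : Commute (q c0) (q y') := hcom _ _ (hK12 _ hc0K _ hy')
        have e2 : Commute (q y) (q c0) := (hcom _ _ (hK12 _ hc0K _ hy)).symm
        have e3 : Commute (q y) (q y') := hcom _ _ (hK12 _ (l21 hy) _ hy')
        exact (((Commute.refl (q c0)).pow_pow _ _).mul_right (e1.pow_left _)).mul_left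
          ((e2.pow_right _).mul_right e3)
      rw [show a * (b * c0 * b⁻¹) * a⁻¹ = ⁅a, b⁆ * ((b * a) * c0 * (b * a)⁻¹) * ⁅a, b⁆⁻¹ by group,
        map_mul, map_mul, hcom _ _ h11, map_inv, mul_inv_cancel_right]
      congr 1
      group
    have e1 : a * (b * c0 * b⁻¹) * a⁻¹ = ⁅a, ⁅b, c0⁆⁆ * (⁅b, c0⁆ * ⁅a, c0⁆) * c0 := by group
    have e2 : b * (a * c0 * a⁻¹) * b⁻¹ = ⁅b, ⁅a, c0⁆⁆ * (⁅a, c0⁆ * ⁅b, c0⁆) * c0 := by group
    rw [e1, e2, map_mul, map_mul, map_mul, map_mul, map_mul, map_mul,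
      hcom _ _ (hK12 _ (l21 hB) _ hA)] at h1
    have h3 : q ⁅a, ⁅b, c0⁆⁆ = q ⁅b, ⁅a, c0⁆⁆ := mul_right_cancel (mul_right_cancel h1)
    exact (s3.eq_iff hX hY).2 (QuotientGroup.eq.1 h3)
  have hK2p : ∀ y ∈ K2, y ^ p ∈ K4 := by
    set q := QuotientGroup.mk' K4
    have hgen : ∀ a : G, ⁅a, c0⁆ ^ p ∈ K4 := by
      intro a
      have e1 : (⁅a, c0⁆ * c0) ^ p = ⁅a, c0 ^ p⁆ * c0 ^ p := by
        rw [show ⁅a, c0⁆ * c0 = a * c0 * a⁻¹ by group, conj_pow]
        group
      have hA : ⁅a, c0⁆ ∈ K2 := c12 _ hc0K a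
      have h1 := mul_pow_mem (a := ⁅a, c0⁆) (b := c0) hK4n (comm_mem_swap (hK12 _ hc0K _ hA)) p
      rw [e1] at h1
      have h3 : ⁅a, c0 ^ p⁆ ∈ K4 := c34 _ hc0p a
      have h4 := hK4n.conj_mem _ h1 (⁅a, c0⁆ ^ p * c0 ^ p)
      rw [show ⁅a, c0⁆ ^ p * c0 ^ p * ((⁅a, c0⁆ ^ p * c0 ^ p)⁻¹ * (⁅a, c0 ^ p⁆ * c0 ^ p)) *
          (⁅a, c0⁆ ^ p * c0 ^ p)⁻¹ = ⁅a, c0 ^ p⁆ * (⁅a, c0⁆ ^ p)⁻¹ by group] at h4
      have h5 := K4.mul_mem (K4.inv_mem h3) h4
      rw [inv_mul_cancel_left] at h5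
      exact inv_mem_iff.1 h5
    intro y hy
    obtain ⟨hy1, v, hv⟩ := hK2gen hy
    obtain ⟨a, -, rfl⟩ := s.surj v
    rw [hz] at hv
    set y3 := ⁅a, c0⁆⁻¹ * y
    have hy3 : y3 ∈ K3 := (s2.eq_iff (c12 _ hc0K a) hy1).1 hv
    have hyy : y = ⁅a, c0⁆ * y3 := (mul_inv_cancel_left _ _).symm
    have h1 := mul_pow_mem (a := ⁅a, c0⁆) (b := y3) hK4n
      (hK12 _ (l21 (c12 _ hc0K a)) _ (l32 hy3)) p
    have h3 : ⁅a, c0⁆ ^ p * y3 ^ p ∈ K4 := K4.mul_mem (hgen a) (pow_mem_step hy3)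
    have h5 := K4.mul_mem h3 h1
    rw [mul_inv_cancel_left, ← hyy] at h5
    exact h5
  obtain ⟨M, _, _, ⟨sM⟩⟩ := exists_secMap (p := p) (A := K2) (B := K4) (l43.trans l32)
    (fun a _ b hb => hK4n.conj_mem b hb a) (fun a ha b hb => hK12 a (l21 ha) b hb) hK2p
  haveI := s2.finite
  haveI := s3.finite
  haveI := sM.finite
  have hL3 : Nat.card L3 = p ^ 2 := by
    have hsur : Function.Surjective z3 := fun y => by
      obtain ⟨k, hk, rfl⟩ := s2.surj y
      exact (hK2gen hk).2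
    rw [← Nat.card_congr (Equiv.ofBijective z3 ⟨hzinj, hsur⟩), hcardV]
  have hL4 : Module.finrank (ZMod p) L4 ≤ 1 := by
    have h1 := sM.card_le hrank
    have h3 := sM.card_mul
    rw [← s2.card_mul, ← s3.card_mul, hL3, ← mul_assoc] at h3
    rw [Nat.eq_of_mul_eq_mul_right (Nat.card_pos (α := K4)) h3,
      Module.natCard_eq_pow_finrank (K := ZMod p) (V := L4), Nat.card_zmod, ← pow_add] at h1
    have := (Nat.pow_le_pow_iff_right hp.1.one_lt).1 h1
    omega
  -- invariance of the symmetric form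
  obtain ⟨T4, hT4⟩ := s3.exists_linear s3 (fun a => φ' a) (fun a ha => mK3 φ' ha)
    (fun a ha => mK4 φ' ha) fun a _ b _ => map_mul φ' a b
  have hT4p : ∀ z, T4 z = z := by
    have hpow : ∀ n : ℕ, ∀ k ∈ K3, (T4 ^ n) (s3.π k) = s3.π ((φ' ^ n) k) := by
      intro n
      induction n with
      | zero => intro k _; rfl
      | succ n ih =>
        intro k hk
        rw [pow_succ', Module.End.mul_apply, ih k hk, hT4 _ (mK3 _ hk), pow_succ' φ',
          MulAut.mul_apply]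
    have hTp : ∀ z, (T4 ^ p) z = z := fun z => by
      obtain ⟨k, hk, rfl⟩ := s3.surj z
      rw [hpow p k hk, hφp, conj_pi s3 hK3n c34 e hk]
    intro z
    by_cases hz4 : z = 0
    · rw [hz4, map_zero]
    have h1 : Module.finrank (ZMod p) L4 = 1 := le_antisymm hL4
      (Module.finrank_pos_iff_exists_ne_zero.2 ⟨z, hz4⟩)
    obtain ⟨k, hk⟩ := exists_smul_eq_of_finrank_eq_one h1 hz4 (T4 z)
    have h3 : ∀ n : ℕ, (T4 ^ n) z = k ^ n • z := by
      intro n
      induction n with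
      | zero => simp
      | succ n ih => rw [pow_succ', Module.End.mul_apply, ih, map_smul, ← hk, smul_smul, pow_succ]
    have h4 := hTp z
    rw [h3, ZMod.pow_card] at h4
    rw [← hk]
    exact h4
  have hφc : s1.π (φ' c0) = s1.π c0 := by
    rw [hc0, map_commutatorElement, ← hff, ← hff, hφw, hw, hu]
    have h1 : s.π (φ' u) = v1 := by rw [← hρ, hu, hTd, hd1, add_zero]
    rw [h1, map_add, LinearMap.add_apply, hfalt, add_zero]
  have hφ3 : ∀ b, s2.π (φ' ⁅b, c0⁆) = z3 (ρ φ (s.π b)) := fun b => by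
    rw [map_commutatorElement, ← hg3 _ (htop _) _ (mK1 _ hc0K), hφc, hρ]
    rfl
  have hWT : ∀ v v', W (ρ φ v) (ρ φ v') = W v v' := by
    intro v v'
    obtain ⟨a, -, rfl⟩ := s.surj v
    obtain ⟨b, -, rfl⟩ := s.surj v'
    rw [hW, LinearMap.compl₂_apply, ← hφ3, hρ, hg4 _ (htop _) _ (mK2 _ (c12 _ hc0K b)),
      ← map_commutatorElement, ← hT4 _ (c23 _ (c12 _ hc0K b) a), hT4p, ← hWab, hW,
      LinearMap.compl₂_apply]
  have hW1 : ∀ v, W v1 v = 0 := by
    have hT1 : ρ φ v1 = v1 := by rw [hTd, hd1, add_zero]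
    have hT2 : ρ φ v2 = v2 + v1 := hTd v2
    have h11 : W v1 v1 = 0 := by
      have h := hWT v2 v1
      rw [hT1, hT2, map_add, LinearMap.add_apply, add_eq_left] at h
      exact h
    have h12 : W v1 v2 = 0 := by
      have h := hWT v2 v2
      rw [hT2] at h
      simp only [map_add, LinearMap.add_apply, h11, hWsymm v2 v1, add_zero, add_assoc,
        add_eq_left, ← two_smul (ZMod p)] at h
      exact (smul_eq_zero.1 h).resolve_left h2
    intro v
    obtain ⟨i, j, rfl⟩ := hspan v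
    rw [map_add, map_smul, map_smul, h11, h12, smul_zero, smul_zero, add_zero]
  have hWzero : ∀ v v', W v v' = 0 := by
    intro v v'
    have h : v ∈ LinearMap.ker W := hirr' _ (fun γ y hy => ?_) (LinearMap.ext hW1) v
    · rw [LinearMap.mem_ker.1 h, LinearMap.zero_apply]
    obtain ⟨a, -, rfl⟩ := s.surj y
    rw [LinearMap.mem_ker] at hy ⊢
    refine LinearMap.ext fun y' => ?_
    obtain ⟨y'', rfl⟩ : ∃ y'', ρ γ y'' = y' := ⟨_, rho_apply_inv ρ γ y'⟩
    obtain ⟨b, -, rfl⟩ := s.surj y''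
    obtain ⟨k, hk0, hk⟩ := hγ3 γ b
    have h1 : ⁅a, ⁅b, c0⁆⁆ ∈ K4 := (s3.map_eq_zero _ (c23 _ (c12 _ hc0K b) a)).1 (by
      rw [← hWab, hy, LinearMap.zero_apply])
    have h3 : hf4 (ρ γ (s.π a)) (s2.π ((γ : MulAut G) ⁅b, c0⁆)) = 0 := by
      rw [hρ, hg4 _ (htop _) _ (mK2 _ (c12 _ hc0K b)), ← map_commutatorElement,
        s3.map_eq_zero _ (mK3 _ (c23 _ (c12 _ hc0K b) a))]
      exact mK4 _ h1
    rw [hk, map_smul, smul_eq_zero] at h3
    exact h3.resolve_left hk0
  have hK3bot : K3 = ⊥ := by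
    have hle : K3 ≤ K4 := by
      refine step_le (fun y hy a _ => comm_mem_swap ?_) hK2p
      obtain ⟨hy1, v, hv⟩ := hK2gen hy
      refine (s3.map_eq_zero _ (c23 y hy1 a)).1 ?_
      rw [← hg4 a (htop a) y hy1, ← hv]
      exact hWzero (s.π a) v
    exact le_bot_iff.1 (le_of_le_step hG hK3n inferInstance (hle.trans le_sup_left))
  have hK2card : Nat.card K2 = p ^ 2 := by
    rw [← s2.card_mul, hL3, hK3bot, Subgroup.card_bot, mul_one]
  have hK1card : Nat.card K1 = p * p ^ 2 := by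
    haveI := s1.finite
    have hL2 : Module.finrank (ZMod p) L2 = 1 :=
      finrank_eq_one (s1.π c0) hc fun y => by
        obtain ⟨k, hk, rfl⟩ := s1.surj y
        obtain ⟨n, hn⟩ := hK1line k hk
        exact ⟨n, hn.symm⟩
    rw [← s1.card_mul, hK2card, Module.natCard_eq_pow_finrank (K := ZMod p), Nat.card_zmod, hL2,
      pow_one]
  have hz1 : ∀ a : G, ∀ k ∈ K2, ⁅a, k⁆ = 1 := fun a k hk => by
    have h := c23 k hk a
    rwa [hK3bot, Subgroup.mem_bot] at h
  have hZ : Subgroup.center G = K2 := by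
    refine le_antisymm (fun a ha => ?_) fun k hk => Subgroup.mem_center_iff.2 fun a =>
      commutatorElement_eq_one_iff_mul_comm.1 (hz1 a k hk)
    have hcen : ∀ b : G, ⁅a, b⁆ = 1 := fun b =>
      commutatorElement_eq_one_iff_mul_comm.2 (Subgroup.mem_center_iff.1 ha b).symm
    have haπ : s.π a = 0 := hzinj (by rw [hz, hcen, s2.map_one, map_zero])
    have haK1 := (s.map_eq_zero a (htop a)).1 haπ
    obtain ⟨n, hn⟩ := hK1line a haK1
    refine (s1.map_eq_zero a haK1).1 ?_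
    have h1 : g3 v1 (s1.π a) = 0 := by
      rw [← hu, hg3 u (htop u) a haK1, commutatorElement_eq_one_iff_mul_comm.2
        (Subgroup.mem_center_iff.1 ha u), s2.map_one]
    have h3 : z3 v1 ≠ 0 := fun h => hv2 (hzinj (by rw [h, map_zero]))
    rw [hn, map_smul, smul_eq_zero] at h1
    rw [hn, h1.resolve_right h3, zero_smul]
  refine ⟨?_, by rw [hZ, hK2card], ⟨⁅w, c0⁆, hZ.ge (c12 _ hc0K w), fun h => ?_⟩, hZ.le.trans l21,
    fun a d hd hak had => ?_⟩
  · rw [hcardG, hK1card]; ring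
  · have h1 : s2.π (φ' ⁅w, c0⁆) = s2.π ⁅w, c0⁆ := by rw [h]
    rw [hφ3, hw, hTd, map_add, ← hv1, ← hz, hw, add_eq_left] at h1
    exact hv2 (hzinj (by rw [h1, map_zero]))
  · have haπ : s.π a = 0 := hzinj (by
      rw [hz, commutatorElement_eq_one_iff_mul_comm.2 (hak c0 hc0K), s2.map_one, map_zero])
    have haK1 : a ∈ K1 := (s.map_eq_zero a (htop a)).1 haπ
    obtain ⟨n, hn⟩ := hK1line a haK1
    rw [hZ]
    refine (s1.map_eq_zero a haK1).1 ?_
    have h1 : g3 (s.π d) (s1.π a) = 0 := by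
      rw [hg3 d (htop d) a haK1, commutatorElement_eq_one_iff_mul_comm.2 had.symm, s2.map_one]
    have h3 : z3 (s.π d) ≠ 0 := fun h => hd ((s.map_eq_zero d (htop d)).1
      (hzinj (by rw [h, map_zero])))
    rw [hn, map_smul, smul_eq_zero] at h1
    rw [hn, h1.resolve_right h3, zero_smul]

end CfsgLib.Fusion.RankThree
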