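import Cfsg.Agent.Lib.Fusion.RankThree.TransvNe
import Cfsg.Agent.Lib.Fusion.RankThree.Torus

/-!
# A transvection: automorphisms of the group on the two layers above the Frattini subgroup
-/

set_option autoImplicit false
set_option linter.unusedSectionVars false
set_option linter.style.haveILetI false

namespace CfsgLib.Fusion.RankThree

open scoped commutatorElement

universe u

variable {p : ℕ} [hp : Fact p.Prime]

/-- A unipotent map in dimension two has square-zero difference with the identity. -/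
theorem sub_one_sq {W : Type*} [AddCommGroup W] [Module (ZMod p) W] [Finite W]
    (T : Module.End (ZMod p) W) {k : ℕ} (hT : T ^ p ^ k = 1)
    (hd : Module.finrank (ZMod p) W ≤ 2) : ∀ r, (T - 1) ((T - 1) r) = 0 := by
  intro r
  rcases subsingleton_or_nontrivial W with h | h
  · exact Subsingleton.elim _ _
  haveI : CharP (Module.End (ZMod p) W) p := charP_of_injective_algebraMap
    (algebraMap (ZMod p) (Module.End (ZMod p) W)).injective p
  have hn : IsNilpotent (T - 1) := ⟨p ^ k, by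
    rw [sub_pow_char_pow_of_commute p k (Commute.one_right T), hT, one_pow, sub_self]⟩
  have h1 := LinearMap.aeval_self_charpoly (T - 1)
  rw [hn.charpoly_eq_X_pow_finrank, map_pow, Polynomial.aeval_X] at h1
  exact LinearMap.congr_fun (pow_eq_zero_of_le hd h1) r

namespace Transv

variable {X : Type u} [Group X] [Finite X] {V : Type u} [AddCommGroup V] [Module (ZMod p) V]
  {E : Subgroup X} {s : SecMap p E (step p E E) V} {x : X} {T : Module.End (ZMod p) V}
  {θ : MulAut X} {h : Module.End (ZMod p) V} {c l : ZMod p} {vw vP vQ : V}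
  (C : Ctx E s x T θ h c l vw vP vQ)

include C

/-- The preimage of the fixed plane. -/
theorem mem_plane {a : X} :
    a ∈ s.pre (LinearMap.ker (T - 1)) ↔ a ∈ E ∧ T (s.π a) = s.π a := by
  rw [SecMap.mem_pre, LinearMap.mem_ker, LinearMap.sub_apply, Module.End.one_apply, sub_eq_zero]

theorem plane_normal : (s.pre (LinearMap.ker (T - 1))).Normal :=
  pre_normal C fun u hu => sub_eq_zero.1 (show (T - 1) u = 0 from hu)

theorem plane_char {w0 : X} (hw0 : w0 ∈ E) (hw : s.π w0 = vw) {β : MulAut X}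
    (hβ : ∀ a ∈ step p E E, β a ∈ step p E E) {a : X}
    (ha : a ∈ s.pre (LinearMap.ker (T - 1))) : β a ∈ s.pre (LinearMap.ker (T - 1)) := by
  haveI := C.normal
  obtain ⟨haE, haT⟩ := (mem_plane C).1 ha
  have hcen : ∀ y, ⁅β a, y⁆ ∈ step p E E := fun y => by
    have h1 := hβ _ (fixed_central' C haE haT (β⁻¹ y))
    rwa [map_commutatorElement, MulAut.apply_inv_self] at h1
  have hbE : β a ∈ E := by
    by_contra h0
    exact exists_moved C hw0 hw h0 (hcen w0)
  refine (mem_plane C).2 ⟨hbE, ?_⟩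
  have h1 := (s.map_eq_zero _ (comm_mem_swap (comm_memE C hbE x))).2 (comm_mem_swap (hcen x))
  rw [s.map_comm_left C.normal C.act hbE, LinearMap.sub_apply, Module.End.one_apply,
    sub_eq_zero] at h1
  exact h1

/-- The commutator of the two generators does not lie in the Frattini subgroup. -/
theorem plane_gen (y : X) {w0 : X} (hw0 : w0 ∈ E) (hw : s.π w0 = vw) :
    ∃ i j : ℕ, ∃ ζ ∈ s.pre (LinearMap.ker (T - 1)), y = x ^ i * w0 ^ j * ζ := by
  haveI := plane_normal C
  obtain ⟨e, he, i, rfl⟩ := exists_dec' C y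
  obtain ⟨a, b, d, habd⟩ := C.span (s.π e)
  set π := QuotientGroup.mk' (s.pre (LinearMap.ker (T - 1)))
  refine ⟨i, a.val, (x ^ i * w0 ^ a.val)⁻¹ * (e * x ^ i), ?_, (mul_inv_cancel_left _ _).symm⟩
  have h1 : (w0 ^ a.val)⁻¹ * e ∈ s.pre (LinearMap.ker (T - 1)) := by
    refine (mem_plane C).2 ⟨E.mul_mem (E.inv_mem (E.pow_mem hw0 _)) he, ?_⟩
    rw [s.map_mul _ (E.inv_mem (E.pow_mem hw0 _)) _ he, s.map_inv (E.pow_mem hw0 _),
      s.map_pow_cast hw0, ZMod.natCast_zmod_val, hw, habd]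
    simp only [map_add, map_neg, map_smul, C.dw, C.dP, C.dQ]
    module
  have h2 : ⁅(x ^ i)⁻¹, e⁆ ∈ s.pre (LinearMap.ker (T - 1)) := by
    obtain ⟨h3, h4⟩ := comm_mem_line C (x ^ i)⁻¹ e
    exact (mem_plane C).2 ⟨h3, fixed_span C h4⟩
  have e1 : (x ^ i * w0 ^ a.val)⁻¹ * (e * x ^ i) =
      (w0 ^ a.val)⁻¹ * ⁅(x ^ i)⁻¹, e⁆ * w0 ^ a.val * ((w0 ^ a.val)⁻¹ * e) := by group
  rw [e1]
  refine Subgroup.mul_mem _ ?_ h1
  simpa using ‹(s.pre (LinearMap.ker (T - 1))).Normal›.conj_mem _ h2 (w0 ^ a.val)⁻¹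

theorem plane_free {w0 : X} (hw0 : w0 ∈ E) (hw : s.π w0 = vw) {i j : ℕ}
    (hij : x ^ i * w0 ^ j ∈ s.pre (LinearMap.ker (T - 1))) : p ∣ i ∧ p ∣ j := by
  haveI := C.normal
  have hxE : x ^ i ∈ E := (E.mul_mem_cancel_right (E.pow_mem hw0 j)).1 hij.1
  have hi : p ∣ i := by
    by_contra h0
    have hcop : i.Coprime p := Nat.coprime_comm.1 (hp.1.coprime_iff_not_dvd.2 h0)
    obtain ⟨m, -, hm⟩ := Nat.exists_mul_mod_eq_one_of_coprime hcop hp.1.one_lt
    have h2 : x ^ (i * m) ∈ E := by rw [pow_mul]; exact E.pow_mem hxE m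
    rw [← Nat.div_add_mod (i * m) p, hm, pow_add, pow_mul, pow_one] at h2
    exact C.notMem ((E.mul_mem_cancel_left (E.pow_mem (C.index ▸ E.pow_index_mem x) _)).1 h2)
  refine ⟨hi, ?_⟩
  have hx0 : T (s.π (x ^ i)) = s.π (x ^ i) := by
    rw [C.act _ hxE, ← pow_succ', pow_succ, mul_inv_cancel_right]
  have h1 := ((mem_plane C).1 hij).2
  rw [s.map_mul _ hxE _ (E.pow_mem hw0 j), map_add, hx0, add_right_inj, s.map_pow_cast hw0,
    map_smul, hw, C.dw, smul_add, add_eq_left, smul_smul] at h1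
  obtain ⟨-, h2, -⟩ := C.indep 0 ((j : ZMod p) * c) 0 (by rw [h1]; simp)
  exact (ZMod.natCast_eq_zero_iff j p).1 ((mul_eq_zero.1 h2).resolve_right C.c0)

end Transv

end CfsgLib.Fusion.RankThree
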